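/-
Permutations of `Fin n` coded as natural numbers (digits in base `2 ^ w`), as a group whose operations
are evaluated quickly by the kernel; enumeration of subgroups along stabiliser chains.
-/
import Mathlib

set_option autoImplicit false

namespace Cfsg.Agent.HJ

noncomputable section

/-- evaluate `x` before continuing -/
def frc {β : Type} (x : ℕ) (k : ℕ → β) : β := Nat.rec (k 0) (fun m _ => k (Nat.succ m)) x

@[simp] theorem frc_eq {β : Type} (x : ℕ) (k : ℕ → β) : frc x k = k x := by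
  cases x <;> rfl

/-- digit `i` in base `2 ^ w` -/
def dg (w c i : ℕ) : ℕ := Nat.mod (Nat.shiftRight c (Nat.mul w i)) (Nat.pow 2 w)

theorem dg_def (w c i : ℕ) : dg w c i = c / 2 ^ (w * i) % 2 ^ w := by
  unfold dg
  rw [← Nat.shiftRight_eq_div_pow]; rfl

/-- number with prescribed digits -/
def mkc (w : ℕ) (f : ℕ → ℕ) (n : ℕ) : ℕ :=
  Nat.rec 0 (fun i ih => Nat.add ih (Nat.shiftLeft (f i) (Nat.mul w i))) n

theorem mkc_succ (w : ℕ) (f : ℕ → ℕ) (n : ℕ) :
    mkc w f (n + 1) = mkc w f n + f n * 2 ^ (w * n) := by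
  rw [← Nat.shiftLeft_eq]; rfl

theorem mkc_eq_sum (w : ℕ) (f : ℕ → ℕ) (n : ℕ) :
    mkc w f n = ∑ i ∈ Finset.range n, f i * 2 ^ (w * i) := by
  induction n with
  | zero => rfl
  | succ n ih => rw [mkc_succ, ih, Finset.sum_range_succ]

theorem mkc_congr {w : ℕ} {f g : ℕ → ℕ} {n : ℕ} (h : ∀ i < n, f i = g i) :
    mkc w f n = mkc w g n := by
  rw [mkc_eq_sum, mkc_eq_sum]
  exact Finset.sum_congr rfl fun i hi => by rw [h i (Finset.mem_range.mp hi)]

theorem mkc_lt {w : ℕ} {f : ℕ → ℕ} {n : ℕ} (h : ∀ i < n, f i < 2 ^ w) :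
    mkc w f n < 2 ^ (w * n) := by
  induction n with
  | zero => simp [mkc]
  | succ n ih =>
    have h1 := ih fun i hi => h i (by omega)
    have h2 : f n + 1 ≤ 2 ^ w := h n (by omega)
    rw [mkc_succ, Nat.mul_succ, pow_add]
    nlinarith [Nat.mul_le_mul_right (2 ^ (w * n)) h2]

theorem dg_mkc {w : ℕ} {f : ℕ → ℕ} {n : ℕ} (h : ∀ i < n, f i < 2 ^ w) {i : ℕ} (hi : i < n) :
    dg w (mkc w f n) i = f i := by
  induction n with
  | zero => omega
  | succ n ih =>
    have h0 : ∀ i < n, f i < 2 ^ w := fun i hi => h i (by omega)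
    rw [dg_def, mkc_succ]
    rcases Nat.lt_succ_iff_lt_or_eq.mp hi with h1 | rfl
    · obtain ⟨k, rfl⟩ := Nat.exists_eq_add_of_lt h1
      have : f (i + k + 1) * 2 ^ (w * (i + k + 1)) =
          2 ^ (w * i) * (2 ^ w * (f (i + k + 1) * 2 ^ (w * k))) := by ring
      rw [this, Nat.add_mul_div_left _ _ (by positivity), Nat.add_mul_mod_self_left, ← dg_def,
        ih h0 h1]
    · rw [Nat.add_mul_div_right _ _ (by positivity), Nat.div_eq_of_lt (mkc_lt h0), zero_add,
        Nat.mod_eq_of_lt (h i hi)]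

/-- the value of a permutation on a number -/
def pv {n : ℕ} (x : Equiv.Perm (Fin n)) (i : ℕ) : ℕ := if h : i < n then (x ⟨i, h⟩ : ℕ) else 0

theorem pv_coe {n : ℕ} (x : Equiv.Perm (Fin n)) (i : Fin n) : pv x i = x i := by
  simp [pv]

theorem pv_lt {n : ℕ} (x : Equiv.Perm (Fin n)) {i : ℕ} (hi : i < n) : pv x i < n := by
  simp [pv, hi]

def code (w : ℕ) {n : ℕ} (x : Equiv.Perm (Fin n)) : ℕ := mkc w (pv x) n

def cmp (w n a b : ℕ) : ℕ :=
  frc a fun a => frc b fun b => mkc w (fun i => dg w a (dg w b i)) n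

def idc (w n : ℕ) : ℕ := mkc w (fun i => i) n

def invc (w n a : ℕ) : ℕ := frc a fun a =>
  Nat.rec 0 (fun i ih => Nat.add ih (Nat.shiftLeft i (Nat.mul w (dg w a i)))) n

def msk (w n a : ℕ) : ℕ := Nat.rec 0 (fun i ih => Nat.lor ih (Nat.shiftLeft 1 (dg w a i))) n

def valid (w n a : ℕ) : Bool :=
  Bool.rec false (Nat.blt a (Nat.pow 2 (Nat.mul w n))) (Nat.beq (Nat.succ (msk w n a)) (Nat.pow 2 n))

section
variable {w n : ℕ} (hn : n ≤ 2 ^ w)
include hn

theorem dg_code (x : Equiv.Perm (Fin n)) {i : ℕ} (hi : i < n) : dg w (code w x) i = pv x i :=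
  dg_mkc (fun _ hi => (pv_lt x hi).trans_le hn) hi

theorem code_inj {x y : Equiv.Perm (Fin n)} (h : code w x = code w y) : x = y := by
  ext i
  rw [← pv_coe, ← pv_coe, ← dg_code hn x i.2, h, dg_code hn y i.2]

theorem cmp_code (x y : Equiv.Perm (Fin n)) : cmp w n (code w x) (code w y) = code w (x * y) := by
  simp only [cmp, frc_eq]
  refine mkc_congr fun i hi => ?_
  rw [dg_code hn y hi, dg_code hn x (pv_lt y hi)]
  simp [pv, hi]

theorem invc_code (x : Equiv.Perm (Fin n)) : invc w n (code w x) = code w x⁻¹ := by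
  have h1 : ∀ m, (Nat.rec 0 (fun i ih => Nat.add ih (Nat.shiftLeft i
      (Nat.mul w (dg w (code w x) i)))) m : ℕ) =
      ∑ i ∈ Finset.range m, i * 2 ^ (w * dg w (code w x) i) := by
    intro m
    induction m with
    | zero => rfl
    | succ m ih => rw [Finset.sum_range_succ, ← ih, ← Nat.shiftLeft_eq]; rfl
  simp only [invc, frc_eq]
  rw [h1, code, code, mkc_eq_sum w (pv x⁻¹), Finset.sum_range, Finset.sum_range,
    ← Equiv.sum_comp x (fun i : Fin n => pv x⁻¹ i * 2 ^ (w * i))]
  refine Finset.sum_congr rfl fun i _ => ?_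
  rw [← code, dg_code hn x i.2, pv_coe, pv_coe]
  simp

end

theorem idc_code (w n : ℕ) : idc w n = code w (1 : Equiv.Perm (Fin n)) :=
  mkc_congr fun i hi => by simp [pv, hi]

theorem mkc_dg (w : ℕ) (n a : ℕ) : mkc w (dg w a) n = a % 2 ^ (w * n) := by
  induction n with
  | zero => simp [mkc, Nat.mod_one]
  | succ n ih =>
    rw [mkc_succ, ih, dg_def, Nat.mul_succ, pow_add, Nat.mod_mul]
    ring

theorem testBit_msk (w n a j : ℕ) : (msk w n a).testBit j = true ↔ ∃ i < n, dg w a i = j := by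
  induction n with
  | zero => simp [msk]
  | succ n ih =>
    have : msk w (n + 1) a = msk w n a ||| 2 ^ dg w a n := by
      rw [← Nat.one_shiftLeft]; rfl
    rw [this, Nat.testBit_or, Bool.or_eq_true, ih, Nat.testBit_two_pow]
    constructor
    · rintro (⟨i, h1, h2⟩ | h)
      · exact ⟨i, by omega, h2⟩
      · exact ⟨n, by omega, by simpa using h⟩
    · rintro ⟨i, h1, h2⟩
      rcases Nat.lt_succ_iff_lt_or_eq.mp h1 with h | rfl
      · exact Or.inl ⟨i, h, h2⟩
      · exact Or.inr (by simpa using h2)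

theorem exists_of_valid {w n a : ℕ} (h : valid w n a = true) :
    ∃ x : Equiv.Perm (Fin n), code w x = a := by
  have h1 : msk w n a = 2 ^ n - 1 ∧ a < 2 ^ (w * n) := by
    unfold valid at h
    cases h2 : Nat.beq (Nat.succ (msk w n a)) (Nat.pow 2 n)
    · rw [h2] at h; cases h
    · rw [h2] at h
      have h3 : msk w n a + 1 = 2 ^ n := Nat.eq_of_beq_eq_true h2
      exact ⟨by omega, by simpa [Nat.blt_eq] using h⟩
  have h2 : ∀ i < n, dg w a i < n := fun i hi => by
    have := (testBit_msk w n a _).mpr ⟨i, hi, rfl⟩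
    rw [h1.1, Nat.testBit_two_pow_sub_one] at this
    simpa using this
  let f : Fin n → Fin n := fun i => ⟨dg w a i, h2 i i.2⟩
  have h3 : Function.Surjective f := fun j => by
    obtain ⟨i, hi, e⟩ := (testBit_msk w n a j).mp
      (by rw [h1.1, Nat.testBit_two_pow_sub_one]; simp)
    exact ⟨⟨i, hi⟩, Fin.ext e⟩
  refine ⟨Equiv.ofBijective f (Finite.surjective_iff_bijective.mp h3), ?_⟩
  rw [code, mkc_congr (g := dg w a) fun i hi => by simp [pv, hi, f], mkc_dg,
    Nat.mod_eq_of_lt h1.2]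

/-- coded permutations -/
structure PC (w n : ℕ) : Type where
  c : ℕ
  ok : ∃ x : Equiv.Perm (Fin n), code w x = c

namespace PC
variable {w n : ℕ}

@[ext] theorem ext' {a b : PC w n} (h : a.c = b.c) : a = b := by
  cases a; cases b; cases h; rfl

instance instDecEq : DecidableEq (PC w n) := fun a b =>
  decidable_of_iff (a.c = b.c) ⟨ext', fun h => h ▸ rfl⟩

def ofPerm (x : Equiv.Perm (Fin n)) : PC w n := ⟨code w x, x, rfl⟩

theorem ofPerm_surj (a : PC w n) : ∃ x, a = ofPerm x := by
  obtain ⟨c, x, rfl⟩ := a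
  exact ⟨x, rfl⟩

variable [hn : Fact (n ≤ 2 ^ w)]

def mul (a b : PC w n) : PC w n := ⟨cmp w n a.c b.c, by
  obtain ⟨_, x, rfl⟩ := a
  obtain ⟨_, y, rfl⟩ := b
  exact ⟨_, (cmp_code hn.out x y).symm⟩⟩

def inv (a : PC w n) : PC w n := ⟨invc w n a.c, by
  obtain ⟨_, x, rfl⟩ := a
  exact ⟨_, (invc_code hn.out x).symm⟩⟩

def one : PC w n := ⟨idc w n, _, (idc_code w n).symm⟩

theorem mul_ofPerm (x y : Equiv.Perm (Fin n)) :
    mul (ofPerm x : PC w n) (ofPerm y) = ofPerm (x * y) := ext' (cmp_code hn.out x y)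

theorem inv_ofPerm (x : Equiv.Perm (Fin n)) : inv (ofPerm x : PC w n) = ofPerm x⁻¹ :=
  ext' (invc_code hn.out x)

omit hn in
theorem one_ofPerm : (one : PC w n) = ofPerm 1 := ext' (idc_code w n)

instance instGroup : Group (PC w n) where
  mul := mul
  one := one
  inv := inv
  mul_assoc a b c := by
    obtain ⟨x, rfl⟩ := ofPerm_surj a
    obtain ⟨y, rfl⟩ := ofPerm_surj b
    obtain ⟨z, rfl⟩ := ofPerm_surj c
    show mul (mul _ _) _ = mul _ (mul _ _)
    simp only [mul_ofPerm, mul_assoc]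
  one_mul a := by
    obtain ⟨x, rfl⟩ := ofPerm_surj a
    show mul one _ = _
    rw [one_ofPerm, mul_ofPerm, one_mul]
  mul_one a := by
    obtain ⟨x, rfl⟩ := ofPerm_surj a
    show mul _ one = _
    rw [one_ofPerm, mul_ofPerm, mul_one]
  inv_mul_cancel a := by
    obtain ⟨x, rfl⟩ := ofPerm_surj a
    show mul (inv _) _ = one
    rw [one_ofPerm, inv_ofPerm, mul_ofPerm, inv_mul_cancel]

/-- the isomorphism with the symmetric group -/
def equiv : Equiv.Perm (Fin n) ≃* PC w n :=
  MulEquiv.ofBijective (MonoidHom.mk' ofPerm fun x y => (mul_ofPerm x y).symm)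
    ⟨fun _ _ h => code_inj hn.out (congrArg PC.c h), fun a => (ofPerm_surj a).imp fun _ h => h.symm⟩

theorem equiv_apply (x : Equiv.Perm (Fin n)) : (equiv x : PC w n) = ofPerm x := rfl

instance instFinite : Finite (PC w n) := Finite.of_equiv _ (equiv (w := w) (n := n)).toEquiv

/-- the element with a given code, if valid -/
def of (c : ℕ) : PC w n :=
  frc c fun c => if h : valid w n c = true then ⟨c, exists_of_valid h⟩ else 1

/-- image of a point -/
def ap (a : PC w n) (i : ℕ) : ℕ := dg w a.c i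

theorem ap_ofPerm (x : Equiv.Perm (Fin n)) {i : ℕ} (hi : i < n) :
    ap (ofPerm x : PC w n) i = pv x i := dg_code hn.out x hi

theorem ap_lt (a : PC w n) {i : ℕ} (hi : i < n) : ap a i < n := by
  obtain ⟨x, rfl⟩ := ofPerm_surj a
  rw [ap_ofPerm x hi]; exact pv_lt x hi

theorem ap_mul (a b : PC w n) {i : ℕ} (hi : i < n) : ap (a * b) i = ap a (ap b i) := by
  obtain ⟨x, rfl⟩ := ofPerm_surj a
  obtain ⟨y, rfl⟩ := ofPerm_surj b
  show ap (mul _ _) i = _
  rw [mul_ofPerm, ap_ofPerm _ hi, ap_ofPerm _ hi, ap_ofPerm _ (pv_lt y hi)]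
  simp [pv, hi]

theorem ap_one {i : ℕ} (hi : i < n) : ap (1 : PC w n) i = i := by
  show ap one i = _
  rw [one_ofPerm, ap_ofPerm _ hi]
  simp [pv, hi]

omit hn in
/-- evaluate an element before continuing -/
def frcP {β : Type} (a : PC w n) (k : PC w n → β) : β :=
  Nat.rec (motive := fun c => (∃ x : Equiv.Perm (Fin n), code w x = c) → β)
    (fun h => k ⟨0, h⟩) (fun m _ h => k ⟨Nat.succ m, h⟩) a.c a.ok

omit hn in
@[simp] theorem frcP_eq {β : Type} (a : PC w n) (k : PC w n → β) : frcP a k = k a := by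
  obtain ⟨c, h⟩ := a
  cases c <;> rfl

/-- test all products of one element from each list -/
def allL (P : PC w n → Bool) (L : List (ℕ × List (PC w n))) : PC w n → Bool :=
  List.rec P (fun T _ ih x => T.2.all fun t => frcP (x * t) ih) L

/-- the set of products -/
def prods : List (ℕ × List (PC w n)) → Finset (PC w n)
  | [] => {1}
  | T :: L => (T.2.toFinset ×ˢ prods L).image fun p => p.1 * p.2

theorem allL_sound {P : PC w n → Bool} {L : List (ℕ × List (PC w n))} {a : PC w n}
    (h : allL P L a = true) : ∀ x ∈ prods L, P (a * x) = true := by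
  induction L generalizing a with
  | nil => simpa [prods, allL] using h
  | cons T L ih =>
    intro x hx
    simp only [prods, Finset.mem_image, Finset.mem_product, List.mem_toFinset] at hx
    obtain ⟨⟨t, y⟩, ⟨h1, h2⟩, rfl⟩ := hx
    have h3 : (T.2.all fun t => frcP (a * t) (allL P L)) = true := h
    rw [List.all_eq_true] at h3
    have h4 := h3 t h1
    rw [frcP_eq] at h4
    rw [← mul_assoc]
    exact ih h4 y h2

theorem prods_mem {K : Subgroup (PC w n)} {L : List (ℕ × List (PC w n))}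
    (h : ∀ T ∈ L, ∀ t ∈ T.2, t ∈ K) : ∀ x ∈ prods L, x ∈ K := by
  induction L with
  | nil => simp [prods]
  | cons T L ih =>
    intro x hx
    simp only [prods, Finset.mem_image, Finset.mem_product, List.mem_toFinset] at hx
    obtain ⟨⟨t, y⟩, ⟨h1, h2⟩, rfl⟩ := hx
    exact K.mul_mem (h T (by simp) t h1) (ih (fun T hT => h T (by simp [hT])) y h2)

/-- the levels form a stabiliser chain -/
def chainOk : List (ℕ × List (PC w n)) → Bool
  | [] => true
  | T :: L => decide (T.1 < n) && decide (T.2.map (ap · T.1)).Nodup &&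
      (L.all fun T' => T'.2.all fun t => ap t T.1 == T.1) && chainOk L

def clen : List (ℕ × List (PC w n)) → ℕ
  | [] => 1
  | T :: L => T.2.length * clen L

theorem card_prods {L : List (ℕ × List (PC w n))} (h : chainOk L = true) :
    (prods L).card = clen L := by
  induction L with
  | nil => simp [prods, clen]
  | cons T L ih =>
    simp only [chainOk, Bool.and_eq_true, decide_eq_true_eq, List.all_eq_true, beq_iff_eq] at h
    obtain ⟨⟨⟨h1, h2⟩, h3⟩, h4⟩ := h
    let K : Subgroup (PC w n) :=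
      { carrier := {x | ap x T.1 = T.1}
        mul_mem' := fun {a b} ha hb => by
          simp only [Set.mem_setOf_eq] at *
          rw [ap_mul _ _ h1, hb, ha]
        one_mem' := ap_one h1
        inv_mem' := fun {a} ha => by
          simp only [Set.mem_setOf_eq] at *
          conv_lhs => rw [← ha, ← ap_mul _ _ h1, inv_mul_cancel, ap_one h1] }
    have h5 : ∀ x ∈ prods L, ap x T.1 = T.1 := prods_mem (K := K) h3
    rw [prods, clen, Finset.card_image_of_injOn, Finset.card_product, ih h4,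
      List.toFinset_card_of_nodup (List.Nodup.of_map _ h2)]
    rintro ⟨t, y⟩ hp ⟨t', y'⟩ hp' e
    simp only [Finset.coe_product, Set.mem_prod, Finset.mem_coe, List.mem_toFinset] at hp hp' e
    have h6 : ap t T.1 = ap t' T.1 := by
      have := congrArg (ap · T.1) e
      simpa only [ap_mul _ _ h1, h5 y hp.2, h5 y' hp'.2] using this
    have h7 : t = t' := List.inj_on_of_nodup_map h2 hp.1 hp'.1 h6
    subst h7
    rw [mul_left_cancel e]

theorem le_card {K : Subgroup (PC w n)} {L : List (ℕ × List (PC w n))} (h : chainOk L = true)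
    (hK : ∀ T ∈ L, ∀ t ∈ T.2, t ∈ K) : clen L ≤ Nat.card K := by
  classical
  rw [← card_prods h, ← Nat.card_eq_finsetCard]
  exact Nat.card_le_card_of_injective (fun x : prods L => (⟨x.1, prods_mem hK x.1 x.2⟩ : K))
    fun a b e => Subtype.ext (congrArg (fun y : K => (y : PC w n)) e)

/-- `K` is enumerated by the chain `L` -/
def Enum (K : Subgroup (PC w n)) (L : List (ℕ × List (PC w n))) : Prop := ∀ x ∈ K, x ∈ prods L

theorem Enum.of {K : Subgroup (PC w n)} {L : List (ℕ × List (PC w n))} (h : chainOk L = true)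
    (hK : ∀ T ∈ L, ∀ t ∈ T.2, t ∈ K) (hc : Nat.card K ≤ clen L) : Enum K L := by
  classical
  have h1 : prods L = (K : Set (PC w n)).toFinite.toFinset := by
    refine Finset.eq_of_subset_of_card_le (fun x hx => by simpa using prods_mem hK x hx) ?_
    rw [card_prods h, ← Set.ncard_eq_toFinset_card]
    exact hc
  intro x hx
  rw [h1]; simpa using hx

theorem Enum.all {K : Subgroup (PC w n)} {L : List (ℕ × List (PC w n))} (h : Enum K L)
    {P : PC w n → Prop} [DecidablePred P] (hP : allL (fun x => decide (P x)) L 1 = true) :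
    ∀ x ∈ K, P x := fun x hx => by
  simpa using allL_sound hP x (h x hx)

end PC

end

end Cfsg.Agent.HJ
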