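/-
Arithmetic of the icosian ring.
-/
import Cfsg.Agent.HJ.PC
import Cfsg.Prelude.Def_Spor_J2

set_option autoImplicit false

namespace Cfsg.Agent.HJ

open Quaternion Spor

/-- quaternions over `ℤ[τ]` -/
structure Z8 : Type where
  (a0 b0 a1 b1 a2 b2 a3 b3 : ℤ)

instance decZ8 : DecidableEq Z8 := fun x y =>
  decidable_of_iff (x.a0 = y.a0 ∧ x.b0 = y.b0 ∧ x.a1 = y.a1 ∧ x.b1 = y.b1 ∧ x.a2 = y.a2 ∧
    x.b2 = y.b2 ∧ x.a3 = y.a3 ∧ x.b3 = y.b3) (by cases x; cases y; simp)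

noncomputable section

def fz {β : Type} (x : ℤ) (k : ℤ → β) : β :=
  Int.rec (fun n => frc n fun n => k (Int.ofNat n)) (fun n => frc n fun n => k (Int.negSucc n)) x

@[simp] theorem fz_eq {β : Type} (x : ℤ) (k : ℤ → β) : fz x k = k x := by
  cases x <;> simp [fz]

namespace Z8

def frc {β : Type} (w : Z8) (k : Z8 → β) : β :=
  fz w.a0 fun a0 => fz w.b0 fun b0 => fz w.a1 fun a1 => fz w.b1 fun b1 => fz w.a2 fun a2 =>
    fz w.b2 fun b2 => fz w.a3 fun a3 => fz w.b3 fun b3 => k ⟨a0, b0, a1, b1, a2, b2, a3, b3⟩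

@[simp] theorem frc_eq {β : Type} (w : Z8) (k : Z8 → β) : frc w k = k w := by simp [frc]

def emb (w : Z8) : ℍ[ℝ] := ⟨w.a0 + w.b0 * tau, w.a1 + w.b1 * tau, w.a2 + w.b2 * tau, w.a3 + w.b3 * tau⟩

@[simp] theorem emb_re (w : Z8) : (emb w).re = w.a0 + w.b0 * tau := rfl
@[simp] theorem emb_i (w : Z8) : (emb w).imI = w.a1 + w.b1 * tau := rfl
@[simp] theorem emb_j (w : Z8) : (emb w).imJ = w.a2 + w.b2 * tau := rfl
@[simp] theorem emb_k (w : Z8) : (emb w).imK = w.a3 + w.b3 * tau := rfl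
@[simp] theorem isub (a b : ℤ) : Int.sub a b = a - b := rfl

def pa (a b c d : ℤ) : ℤ := Int.add (Int.mul a c) (Int.mul b d)
def pb (a b c d : ℤ) : ℤ := Int.add (Int.mul a d) (Int.mul b (Int.add c d))
def c4 (f : ℤ → ℤ → ℤ → ℤ → ℤ) (x y : Z8) : ℤ :=
  Int.sub (f x.a0 x.b0 y.a0 y.b0) (Int.add (Int.add (f x.a1 x.b1 y.a1 y.b1) (f x.a2 x.b2 y.a2 y.b2))
    (f x.a3 x.b3 y.a3 y.b3))
def c1 (f : ℤ → ℤ → ℤ → ℤ → ℤ) (x y : Z8) : ℤ :=
  Int.sub (Int.add (Int.add (f x.a0 x.b0 y.a1 y.b1) (f x.a1 x.b1 y.a0 y.b0)) (f x.a2 x.b2 y.a3 y.b3))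
    (f x.a3 x.b3 y.a2 y.b2)
def c2 (f : ℤ → ℤ → ℤ → ℤ → ℤ) (x y : Z8) : ℤ :=
  Int.sub (Int.add (Int.add (f x.a0 x.b0 y.a2 y.b2) (f x.a2 x.b2 y.a0 y.b0)) (f x.a3 x.b3 y.a1 y.b1))
    (f x.a1 x.b1 y.a3 y.b3)
def c3 (f : ℤ → ℤ → ℤ → ℤ → ℤ) (x y : Z8) : ℤ :=
  Int.sub (Int.add (Int.add (f x.a0 x.b0 y.a3 y.b3) (f x.a1 x.b1 y.a2 y.b2)) (f x.a3 x.b3 y.a0 y.b0))
    (f x.a2 x.b2 y.a1 y.b1)

def mul (x y : Z8) : Z8 :=
  ⟨c4 pa x y, c4 pb x y, c1 pa x y, c1 pb x y, c2 pa x y, c2 pb x y, c3 pa x y, c3 pb x y⟩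
def add (x y : Z8) : Z8 := ⟨Int.add x.a0 y.a0, Int.add x.b0 y.b0, Int.add x.a1 y.a1,
  Int.add x.b1 y.b1, Int.add x.a2 y.a2, Int.add x.b2 y.b2, Int.add x.a3 y.a3, Int.add x.b3 y.b3⟩
def sm (c : ℤ) (x : Z8) : Z8 := ⟨Int.mul c x.a0, Int.mul c x.b0, Int.mul c x.a1, Int.mul c x.b1,
  Int.mul c x.a2, Int.mul c x.b2, Int.mul c x.a3, Int.mul c x.b3⟩
def cnj (x : Z8) : Z8 := ⟨x.a0, x.b0, -x.a1, -x.b1, -x.a2, -x.b2, -x.a3, -x.b3⟩
def sc (c : ℤ) : Z8 := ⟨c, 0, 0, 0, 0, 0, 0, 0⟩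
def sub (x y : Z8) : Z8 := add x (sm (-1) y)

theorem tau_sq : tau ^ 2 = tau + 1 := by
  have := Real.sq_sqrt (show (0 : ℝ) ≤ 5 by norm_num)
  unfold tau; linear_combination this / 4

theorem zero_of {a b : ℤ} (h : (a : ℝ) + b * tau = 0) : a = 0 ∧ b = 0 := by
  by_cases hb : b = 0
  · simpa [hb] using h
  · exfalso
    refine (Nat.prime_five.irrational_sqrt.ne_rational (-2 * a - b) b) ?_
    have : (b : ℝ) ≠ 0 := by exact_mod_cast hb
    unfold tau at h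
    field_simp
    push_cast
    linear_combination 2 * h

theorem eq_of {a b c d : ℤ} (h : (a : ℝ) + b * tau = c + d * tau) : a = c ∧ b = d := by
  have := zero_of (a := a - c) (b := b - d) (by push_cast; linear_combination h)
  omega

theorem emb_inj {x y : Z8} (h : emb x = emb y) : x = y := by
  obtain ⟨h1, h2, h3, h4⟩ := QuaternionAlgebra.mk.inj h
  cases x; cases y
  simp only [mk.injEq]
  exact ⟨(eq_of h1).1, (eq_of h1).2, (eq_of h2).1, (eq_of h2).2, (eq_of h3).1, (eq_of h3).2,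
    (eq_of h4).1, (eq_of h4).2⟩

theorem emb_mul (x y : Z8) : emb (mul x y) = emb x * emb y := by
  have := tau_sq
  ext <;> simp [mul, c4, c1, c2, c3, pa, pb]
  · linear_combination (-x.b0 * y.b0 + x.b1 * y.b1 + x.b2 * y.b2 + x.b3 * y.b3 : ℝ) * this
  · linear_combination (-x.b0 * y.b1 - x.b1 * y.b0 - x.b2 * y.b3 + x.b3 * y.b2 : ℝ) * this
  · linear_combination (-x.b0 * y.b2 - x.b2 * y.b0 - x.b3 * y.b1 + x.b1 * y.b3 : ℝ) * this
  · linear_combination (-x.b0 * y.b3 - x.b1 * y.b2 - x.b3 * y.b0 + x.b2 * y.b1 : ℝ) * this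

theorem emb_add (x y : Z8) : emb (add x y) = emb x + emb y := by
  ext <;> simp [add] <;> ring
theorem emb_sm (c : ℤ) (x : Z8) : emb (sm c x) = (c : ℝ) • emb x := by
  ext <;> simp [sm] <;> ring
theorem emb_cnj (x : Z8) : emb (cnj x) = star (emb x) := by
  ext <;> simp [cnj] <;> ring
theorem emb_sc (c : ℤ) : emb (sc c) = (c : ℝ) • 1 := by
  ext <;> simp [sc]
theorem emb_sub (x y : Z8) : emb (sub x y) = emb x - emb y := by
  simp [sub, emb_add, emb_sm, sub_eq_add_neg]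

/-- the icosian with doubled coordinates `w` -/
def ic (w : Z8) : ℍ[ℝ] := (1 / 2 : ℝ) • emb w

theorem ic_inj {x y : Z8} (h : ic x = ic y) : x = y :=
  emb_inj (smul_right_injective _ (by norm_num) h)
theorem ic_add (x y : Z8) : ic (add x y) = ic x + ic y := by simp [ic, emb_add]
theorem ic_sub (x y : Z8) : ic (sub x y) = ic x - ic y := by simp [ic, emb_sub, smul_sub]
theorem ic_sm (c : ℤ) (x : Z8) : ic (sm c x) = (c : ℝ) • ic x := by rw [ic, emb_sm, smul_comm, ic]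
theorem ic_cnj (x : Z8) : ic (cnj x) = star (ic x) := by simp [ic, emb_cnj]
theorem ic_sc (c : ℤ) : ic (sc c) = (c / 2 : ℝ) • 1 := by
  rw [ic, emb_sc, smul_smul]; congr 1; ring
theorem ic_one : ic (sc 2) = 1 := by simp [ic_sc]
theorem ic_zero : ic (sc 0) = 0 := by simp [ic_sc]
theorem ic_mul_iff {x y w : Z8} : ic x * ic y = ic w ↔ mul x y = sm 2 w := by
  rw [← Function.Injective.eq_iff (f := emb) (fun _ _ => emb_inj), emb_mul, emb_sm]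
  simp only [ic, smul_mul_smul_comm]
  refine ⟨fun h => ?_, fun h => by rw [h, smul_smul]; norm_num⟩
  have := congrArg ((4 : ℝ) • ·) h
  simp only [smul_smul] at this
  norm_num at this ⊢
  exact this

/-- the congruences defining the icosians -/
def code (w : Z8) : Prop := (w.b1 + w.a2 + w.a3 + w.b3) % 2 = 0 ∧ (w.a1 + w.a2 + w.b2 + w.b3) % 2 = 0 ∧
  (w.b0 + w.b1 + w.b2 + w.b3) % 2 = 0 ∧ (w.a0 + w.a1 + w.a2 + w.a3) % 2 = 0
def inH (w : Z8) : Prop := (w.b2 + w.b3) % 2 = 0 ∧ (w.a2 + w.a3) % 2 = 0 ∧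
  (w.a0 + w.a1 + w.a2 + w.a3 + 2 * w.b3) % 4 = 0 ∧ (w.b0 + w.b1 + w.b2 + 2 * w.a3 + 3 * w.b3) % 4 = 0
def inB (w : Z8) : Prop := (w.b0 + 2 * w.b1 + w.a2 + w.b2 + w.a3) % 4 = 0 ∧
  (w.b0 + w.a1 + 2 * w.b2 + w.a3 + w.b3) % 4 = 0 ∧ (w.b0 + w.a1 + w.b1 + w.a2 + 2 * w.b3) % 4 = 0 ∧
  (w.a0 + w.b0 + w.a2 + 2 * w.a3 + w.b3) % 4 = 0
instance decCode (w : Z8) : Decidable (code w) := by unfold code; infer_instance
instance decInH (w : Z8) : Decidable (inH w) := by unfold inH; infer_instance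
instance decInB (w : Z8) : Decidable (inB w) := by unfold inB; infer_instance

def S (w : Z8) : ℤ := w.a0 * w.a0 + w.b0 * w.b0 + w.a1 * w.a1 + w.b1 * w.b1 + w.a2 * w.a2 +
  w.b2 * w.b2 + w.a3 * w.a3 + w.b3 * w.b3
def N1 (w : Z8) : ℤ := (2 * w.a0 + w.b0) * w.b0 + (2 * w.a1 + w.b1) * w.b1 +
  (2 * w.a2 + w.b2) * w.b2 + (2 * w.a3 + w.b3) * w.b3

theorem normSq_ic (w : Z8) : normSq (ic w) = (S w + N1 w * tau) / 4 := by
  simp [normSq_def', ic, S, N1]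
  linear_combination ((w.b0 ^ 2 + w.b1 ^ 2 + w.b2 ^ 2 + w.b3 ^ 2 : ℝ) / 4) * tau_sq

def wi : Z8 := ⟨0, 0, 2, 0, 0, 0, 0, 0⟩
def wo : Z8 := ⟨1, 0, 1, -1, 0, 0, 0, 1⟩
def wh : Z8 := ⟨1, -2, 1, 0, 1, 0, 1, 0⟩

theorem ic_wi : ic wi = qI := by ext <;> simp [ic, wi, qI]
theorem ic_wo : ic wo = ⟨1 / 2, sig / 2, 0, tau / 2⟩ := by
  ext <;> simp [ic, wo, sig, tau] <;> ring
theorem ic_wh : ic wh = icoH := by ext <;> simp [ic, wh, icoH, tau] <;> ring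

theorem rep {x : ℍ[ℝ]} (hx : x ∈ icosians) : ∃ w, code w ∧ x = ic w := by
  have : ∀ w, code w → ∃ v, code v ∧ x * ic w = ic v := by
    induction hx using Subring.closure_induction with
    | mem x hx =>
      rintro ⟨a0, b0, a1, b1, a2, b2, a3, b3⟩ h
      simp only [code] at h
      rcases hx with rfl | rfl
      · refine ⟨⟨-a1, -b1, a0, b0, -a3, -b3, a2, b2⟩, by simp only [code]; omega, ?_⟩
        rw [← ic_wi, ic_mul_iff]
        simp [mul, c4, c1, c2, c3, pa, pb, sm, wi]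
      · refine ⟨⟨(a0 - a1 + b1 - b3) / 2, (b0 + a1 - a3 - b3) / 2, (a1 + a0 - b0 - b2) / 2,
          (b1 - a0 - a2 - b2) / 2, (a2 - a3 + b3 + b1) / 2, (b2 + a3 + a1 + b1) / 2,
          (a3 + a2 - b2 + b0) / 2, (b3 - a2 + a0 + b0) / 2⟩, by simp only [code]; omega, ?_⟩
        rw [← ic_wo, ic_mul_iff]
        simp [mul, c4, c1, c2, c3, pa, pb, sm, wo]
        omega
    | zero => exact fun w _ => ⟨sc 0, by decide, by simp [ic_zero]⟩
    | one => exact fun w h => ⟨w, h, one_mul _⟩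
    | add x y _ _ h1 h2 =>
      intro w h
      obtain ⟨v, e1, e2⟩ := h1 w h
      obtain ⟨v', e3, e4⟩ := h2 w h
      exact ⟨add v v', by simp only [code, add, Int.add_def] at *; omega, by rw [add_mul, e2, e4, ic_add]⟩
    | neg x _ h1 =>
      intro w h
      obtain ⟨v, e1, e2⟩ := h1 w h
      exact ⟨sm (-1) v, by simp only [code, sm, Int.mul_def] at *; omega, by simp [e2, ic_sm]⟩
    | mul x y _ _ h1 h2 =>
      intro w h
      obtain ⟨v, e1, e2⟩ := h2 w h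
      obtain ⟨v', e3, e4⟩ := h1 v e1
      exact ⟨v', e3, by rw [mul_assoc, e2, e4]⟩
  simpa [ic_one] using this (sc 2) (by decide)

theorem ic_mem {w : Z8} (h : code w) : ic w ∈ icosians := by
  have m1 : ic wi ∈ icosians := ic_wi ▸ Subring.subset_closure (by simp)
  have m2 : ic wo ∈ icosians := ic_wo ▸ Subring.subset_closure (Or.inr rfl)
  have k : ∀ {x y : Z8} (w : Z8), ic x ∈ icosians → ic y ∈ icosians → mul x y = sm 2 w →
      ic w ∈ icosians := fun w h1 h2 e => ic_mul_iff.mpr e ▸ mul_mem h1 h2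
  have m0 : ic (sc 2) ∈ icosians := ic_one ▸ one_mem _
  have m3 := k ⟨-1, 1, 1, 0, 0, -1, 0, 0⟩ m1 m2 (by decide)
  have m4 := k ⟨-1, 1, 1, 0, 0, 1, 0, 0⟩ m2 m1 (by decide)
  have m5 := k ⟨-1, 0, -1, 1, 0, 0, 0, 1⟩ m3 m1 (by decide)
  have m6 := k ⟨-1, 1, 0, 1, 0, 0, 1, 0⟩ m4 m2 (by decide)
  have m7 := k ⟨0, -1, -1, 1, -1, 0, 0, 0⟩ m1 m6 (by decide)
  have a : ∀ {x y : Z8} (c : ℤ), ic x ∈ icosians → ic y ∈ icosians → ic (add x (sm c y)) ∈ icosians :=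
    fun c h1 h2 => by
      rw [ic_add, ic_sm, Int.cast_smul_eq_zsmul]; exact add_mem h1 (zsmul_mem h2 c)
  obtain ⟨a0, b0, a1, b1, a2, b2, a3, b3⟩ := w
  simp only [code] at h
  have := a (-a2) (a a3 (a ((b1 + a2 - a3 + b3) / 2) (a ((b0 - a2 + b2 - a3) / 2)
    (a ((b0 - a2 - b2 - a3) / 2) (a ((-b1 - a2 + a3 + b3) / 2) (a ((-b0 + a1 + b1 + a2) / 2)
    (a ((a0 + b0 + b1 - a3) / 2) (ic_zero ▸ zero_mem _ : ic (sc 0) ∈ icosians) m0) m1) m2) m3) m4) m5) m6) m7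
  convert this using 2
  simp [add, sm, sc, wi, wo]
  omega

theorem four_dvd {w : Z8} (h : code w) : 4 ∣ S w := by
  obtain ⟨a0, b0, a1, b1, a2, b2, a3, b3⟩ := w
  simp only [code] at h
  obtain ⟨c, rfl⟩ : ∃ c, b1 = 2 * c + a2 + a3 + b3 := ⟨(b1 - a2 - a3 - b3) / 2, by omega⟩
  obtain ⟨d, rfl⟩ : ∃ c, a1 = 2 * c + a2 + b2 + b3 := ⟨(a1 - a2 - b2 - b3) / 2, by omega⟩
  obtain ⟨e, rfl⟩ : ∃ c, b0 = 2 * c + a2 + a3 - b2 := ⟨(b0 - a2 - a3 + b2) / 2, by omega⟩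
  obtain ⟨f, rfl⟩ : ∃ c, a0 = 2 * c + b2 - b3 + a3 := ⟨(a0 - b2 + b3 - a3) / 2, by omega⟩
  exact ⟨c ^ 2 + d ^ 2 + e ^ 2 + f ^ 2 + c * (a2 + a3 + b3) + d * (a2 + b2 + b3) + e * (a2 + a3 - b2) +
    f * (b2 - b3 + a3) + a2 ^ 2 + b2 ^ 2 + a3 ^ 2 + b3 ^ 2 + a2 * a3 + a2 * b3, by simp only [S]; ring⟩

theorem inH_of {w : Z8} (h : ic w ∈ leftIdeal icoH) : inH w := by
  obtain ⟨a, h1, h2⟩ := h
  obtain ⟨⟨a0, b0, a1, b1, a2, b2, a3, b3⟩, h3, rfl⟩ := rep h1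
  rw [← ic_wh, eq_comm, ic_mul_iff] at h2
  simp [mul, c4, c1, c2, c3, pa, pb, sm, wh] at h2
  simp only [code, inH] at *
  omega

theorem inB_of {w : Z8} (h : ic w ∈ leftIdeal (star icoH)) : inB w := by
  obtain ⟨a, h1, h2⟩ := h
  obtain ⟨⟨a0, b0, a1, b1, a2, b2, a3, b3⟩, h3, rfl⟩ := rep h1
  rw [← ic_wh, ← ic_cnj, eq_comm, ic_mul_iff] at h2
  simp [mul, c4, c1, c2, c3, pa, pb, sm, wh, cnj] at h2
  simp only [code, inB] at *
  omega

def hf (w : Z8) : Z8 := ⟨w.a0 / 2, w.b0 / 2, w.a1 / 2, w.b1 / 2, w.a2 / 2, w.b2 / 2, w.a3 / 2, w.b3 / 2⟩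

theorem hf_sm (w : Z8) : hf (sm 2 w) = w := by cases w; simp [hf, sm]

theorem star_mem {x : ℍ[ℝ]} (hx : x ∈ icosians) : star x ∈ icosians := by
  obtain ⟨w, h, rfl⟩ := rep hx
  rw [← ic_cnj]
  exact ic_mem (by simp only [code, cnj] at *; omega)

/-- one step of the enumeration of integer vectors of given norm -/
def al (n : ℕ) (k : ℤ → ℕ → Bool) : Bool := HJ.frc n fun n =>
  k 0 n && ((Nat.blt n 1 || (k 1 (n - 1) && k (-1) (n - 1))) && (Nat.blt n 4 || (k 2 (n - 4) && k (-2) (n - 4))))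

theorem al_sound {n : ℕ} {k : ℤ → ℕ → Bool} (h : al n k = true) (hn : n ≤ 8) {x y : ℤ} (hy : 0 ≤ y)
    (e : x * x + y = n) : ∃ m : ℕ, m ≤ 8 ∧ y = m ∧ k x m = true := by
  simp only [al, HJ.frc_eq, Bool.and_eq_true, Bool.or_eq_true, Nat.blt_eq] at h
  obtain ⟨h0, h1, h2⟩ := h
  have : -2 ≤ x ∧ x ≤ 2 := by constructor <;> nlinarith
  obtain ⟨h3, h4⟩ := this
  interval_cases x
  exacts [⟨n - 4, by omega, by omega, (h2.resolve_left (by omega)).2⟩,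
    ⟨n - 1, by omega, by omega, (h1.resolve_left (by omega)).2⟩, ⟨n, hn, by omega, h0⟩,
    ⟨n - 1, by omega, by omega, (h1.resolve_left (by omega)).1⟩,
    ⟨n - 4, by omega, by omega, (h2.resolve_left (by omega)).1⟩]

def allS (n : ℕ) (P : Z8 → Bool) : Bool :=
  al n fun a0 n => al n fun b0 n => al n fun a1 n => al n fun b1 n => al n fun a2 n =>
    al n fun b2 n => al n fun a3 n => al n fun b3 n => Nat.blt 0 n || P ⟨a0, b0, a1, b1, a2, b2, a3, b3⟩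

theorem allS_sound {n : ℕ} {P : Z8 → Prop} [DecidablePred P] (hn : n ≤ 8)
    (h : allS n (fun w => decide (P w)) = true) (w : Z8) (e : S w = n) : P w := by
  obtain ⟨a0, b0, a1, b1, a2, b2, a3, b3⟩ := w
  simp only [S, add_assoc] at e
  obtain ⟨n, hn, e, h⟩ := al_sound h hn (by repeat first | exact mul_self_nonneg _ | apply add_nonneg (mul_self_nonneg _)) e
  obtain ⟨n, hn, e, h⟩ := al_sound h hn (by repeat first | exact mul_self_nonneg _ | apply add_nonneg (mul_self_nonneg _)) e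
  obtain ⟨n, hn, e, h⟩ := al_sound h hn (by repeat first | exact mul_self_nonneg _ | apply add_nonneg (mul_self_nonneg _)) e
  obtain ⟨n, hn, e, h⟩ := al_sound h hn (by repeat first | exact mul_self_nonneg _ | apply add_nonneg (mul_self_nonneg _)) e
  obtain ⟨n, hn, e, h⟩ := al_sound h hn (by repeat first | exact mul_self_nonneg _ | apply add_nonneg (mul_self_nonneg _)) e
  obtain ⟨n, hn, e, h⟩ := al_sound h hn (by repeat first | exact mul_self_nonneg _ | apply add_nonneg (mul_self_nonneg _)) e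
  obtain ⟨n, hn, e, h⟩ := al_sound h hn (by repeat first | exact mul_self_nonneg _ | apply add_nonneg (mul_self_nonneg _)) e
  obtain ⟨n, hn, e, h⟩ := al_sound h hn le_rfl ((add_zero _).trans e)
  obtain rfl : n = 0 := by omega
  simpa using h

end Z8

end

end Cfsg.Agent.HJ
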