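/-
A kernel-evaluated checker for coset enumerations (with coincidences) and its soundness.
-/
import Cfsg.Agent.HJ.PC

set_option autoImplicit false

namespace Cfsg.Agent.HJ

noncomputable section

section
variable {G : Type*} [Group G]

/-- letters: `2 j` is generator `j`, `2 j + 1` its inverse -/
def atm (gs : List G) (y : ℕ) : G :=
  if y % 2 = 0 then gs.getD (y / 2) 1 else (gs.getD (y / 2) 1)⁻¹

def ev (a : ℕ → G) : List ℕ → G
  | [] => 1
  | y :: l => a y * ev a l

@[simp] theorem ev_nil (a : ℕ → G) : ev a [] = 1 := rfl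
@[simp] theorem ev_cons (a : ℕ → G) (y : ℕ) (l : List ℕ) : ev a (y :: l) = a y * ev a l := rfl

theorem ev_append (a : ℕ → G) (l m : List ℕ) : ev a (l ++ m) = ev a l * ev a m := by
  induction l with
  | nil => simp
  | cons y l ih => simp [ih, mul_assoc]

/-- the elements satisfy the relators -/
def Sat (RL : List (List ℕ)) (gs : List G) : Prop := ∀ l ∈ RL, ev (atm gs) l = 1

instance instDecSat [DecidableEq G] (RL : List (List ℕ)) (gs : List G) : Decidable (Sat RL gs) :=
  List.decidableBAll _ _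

/-- the subgroup generated by a list -/
def clo (gs : List G) : Subgroup G := Subgroup.closure {x | x ∈ gs}

theorem mem_clo {gs : List G} {x : G} (h : x ∈ gs) : x ∈ clo gs := Subgroup.subset_closure h

theorem clo_le {gs : List G} {K : Subgroup G} (h : ∀ x ∈ gs, x ∈ K) : clo gs ≤ K :=
  (Subgroup.closure_le K).mpr h

theorem atm_mem {gs : List G} {K : Subgroup G} (h : ∀ x ∈ gs, x ∈ K) (y : ℕ) : atm gs y ∈ K := by
  have : gs.getD (y / 2) 1 ∈ K := by
    by_cases h1 : y / 2 < gs.length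
    · rw [List.getD_eq_getElem _ _ h1]; exact h _ (List.getElem_mem _)
    · rw [List.getD_eq_default _ _ (by omega)]; exact K.one_mem
  unfold atm
  split_ifs
  · exact this
  · exact K.inv_mem this

theorem ev_mem {a : ℕ → G} {K : Subgroup G} (h : ∀ y, a y ∈ K) (l : List ℕ) : ev a l ∈ K := by
  induction l with
  | nil => exact K.one_mem
  | cons y l ih => exact K.mul_mem (h y) ih

theorem ev_mem_clo (gs : List G) (l : List ℕ) : ev (atm gs) l ∈ clo gs :=
  ev_mem (atm_mem fun _ => mem_clo) l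

theorem atm_map {Δ : Type*} [Group Δ] (φ : G →* Δ) (gs : List G) (y : ℕ) :
    φ (atm gs y) = atm (gs.map φ) y := by
  have : φ (gs.getD (y / 2) 1) = (gs.map φ).getD (y / 2) 1 := by
    rw [← map_one φ, List.getD_map]
  unfold atm
  split_ifs
  · exact this
  · rw [map_inv, this]

theorem ev_map {Δ : Type*} [Group Δ] (φ : G →* Δ) (gs : List G) (l : List ℕ) :
    φ (ev (atm gs) l) = ev (atm (gs.map φ)) l := by
  induction l with
  | nil => simp
  | cons y l ih => simp [ih, atm_map]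

theorem clo_map {Δ : Type*} [Group Δ] (φ : G →* Δ) (gs : List G) :
    (clo gs).map φ = clo (gs.map φ) := by
  unfold clo
  rw [MonoidHom.map_closure]
  congr 1
  ext x
  simp

end

/-- inverse letter; `im` is the mask of the involutory generators -/
def iv (im y : ℕ) : ℕ :=
  Bool.rec y (Nat.xor y 1) (Nat.beq (Nat.land (Nat.shiftRight im (Nat.div y 2)) 1) 0)

def rinv (im : ℕ) (w : List ℕ) : List ℕ → List ℕ :=
  List.rec (fun acc => acc) (fun y _ ih acc => ih (iv im y :: acc)) w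

def nthW (l : List (List ℕ)) : ℕ → List ℕ :=
  List.rec (fun _ => []) (fun a _ ih i => Nat.rec a (fun j _ => ih j) i) l

def setT (W T i v : ℕ) : ℕ := Nat.xor T (Nat.shiftLeft (Nat.xor (dg W T i) v) (Nat.mul W i))

/-- parameters of an enumeration -/
structure TP : Type where
  W : ℕ
  n : ℕ
  im : ℕ
  CW : List (List ℕ)
  BW : List (List ℕ)

namespace TP
variable (P : TP)

def ix (c y : ℕ) : ℕ := Nat.add (Nat.mul c (Nat.succ (Nat.mul 2 P.n))) y

def fnd (T : ℕ) : ℕ → ℕ :=
  Nat.rec (fun c => c)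
    (fun _ ih c => Nat.rec c (fun e _ => ih e) (dg P.W T (P.ix c (Nat.mul 2 P.n)))) 40

def tr (T : ℕ) (k : ℕ → Bool) (w : List ℕ) : ℕ → Bool :=
  List.rec k (fun y _ ih c => Nat.rec false (fun e _ => frc (P.fnd T e) ih) (dg P.W T (P.ix c y))) w

def set2 (T c y e : ℕ) (k : ℕ → Bool) : Bool :=
  frc (setT P.W T (P.ix c y) (Nat.succ e)) fun T1 =>
    frc (setT P.W T1 (P.ix e (iv P.im y)) (Nat.succ c)) k

def scan (T cnt c i : ℕ) (w : List ℕ) (kind : ℕ) (k : ℕ → ℕ → Bool) : Bool :=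
  Bool.rec
    (P.tr T (fun p => P.tr T (fun q =>
        Bool.rec (frc (setT P.W T (P.ix p (Nat.mul 2 P.n)) (Nat.succ q)) fun T1 => k T1 cnt)
          (Bool.rec (frc (setT P.W T (P.ix q (Nat.mul 2 P.n)) (Nat.succ p)) fun T1 => k T1 cnt)
            (k T cnt) (Nat.beq p q)) (Nat.ble p q))
      (rinv P.im (w.drop i) []) c) (w.take i) (P.fnd T c))
    (List.rec false (fun y w2 _ => P.tr T (fun p => P.tr T (fun q =>
        P.set2 T p y q fun T1 => k T1 cnt) (rinv P.im w2 []) c) (w.take i) (P.fnd T c)) (w.drop i))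
    (Nat.beq kind 1)

def step (s T cnt : ℕ) (k : ℕ → ℕ → Bool) : Bool :=
  frc (Nat.shiftRight s 19) fun c => frc (Nat.land (Nat.shiftRight s 3) 63) fun i =>
  Bool.rec false
    (Nat.rec
      (Bool.rec false (P.set2 T c i cnt fun T1 => frc (Nat.succ cnt) (k T1))
        (Nat.blt i (Nat.mul 2 P.n) && Nat.blt (Nat.succ cnt) (Nat.pow 2 P.W)))
      (fun kind _ => Bool.rec
        (Bool.rec false
          (P.scan T cnt 0 i (nthW P.BW (Nat.land (Nat.shiftRight s 9) 1023)) (Nat.succ kind) k)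
          (Nat.beq c 0))
        (P.scan T cnt c i (nthW P.CW (Nat.land (Nat.shiftRight s 9) 1023)) (Nat.succ kind) k)
        (Nat.beq (Nat.land s 4) 0))
      (Nat.land s 3))
    (Nat.blt c cnt)

def run (k : ℕ → ℕ → Bool) (S : List ℕ) : ℕ → ℕ → Bool :=
  List.rec k (fun s _ ih T cnt => P.step s T cnt ih) S

def runTo (S : List ℕ) (T cnt T' cnt' : ℕ) : Bool :=
  P.run (fun a b => Nat.beq a T' && Nat.beq b cnt') S T cnt

def lmask (l : List ℕ) : ℕ := List.rec 0 (fun c _ ih => Nat.lor ih (Nat.shiftLeft 1 c)) l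

def fin (T cnt : ℕ) (live : List ℕ) : Bool :=
  frc (lmask live) fun M => Nat.testBit M 0 && live.all fun c => Nat.blt c cnt &&
    (List.range P.n).all fun j =>
      P.tr T (Nat.testBit M) [Nat.mul 2 j] c && P.tr T (Nat.testBit M) [iv P.im (Nat.mul 2 j)] c

end TP

/-- all rotations of the relators and their inverses, and the trivial words -/
def allRot (n im : ℕ) (RL : List (List ℕ)) : List (List ℕ) :=
  ((List.range (2 * n)).map fun y => [y, iv im y]) ++
    RL.flatMap fun l => (List.range l.length).flatMap fun i =>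
      [l.drop i ++ l.take i, rinv im (l.drop i ++ l.take i) []]

def TP.ok (P : TP) (RL : List (List ℕ)) : Bool :=
  (P.CW.all fun w => decide (w ∈ allRot P.n P.im RL)) &&
  ((P.CW ++ P.BW).all fun w => w.all fun y => Nat.blt y (2 * P.n)) &&
  ((List.range P.n).all fun j => !(P.im.testBit j) || decide ([2 * j, 2 * j] ∈ RL)) &&
  Nat.blt P.im (2 ^ P.n) && Nat.blt 1 (2 ^ P.W)

theorem dg_lt (w c i : ℕ) : dg w c i < 2 ^ w := by
  rw [dg_def]; exact Nat.mod_lt _ (by positivity)

theorem dg_setT {W T i v : ℕ} (hv : v < 2 ^ W) (j : ℕ) :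
    dg W (setT W T i v) j = if j = i then v else dg W T j := by
  have hd : dg W T i ^^^ v < 2 ^ W := Nat.xor_lt_two_pow (dg_lt _ _ _) hv
  have e : setT W T i v = T ^^^ ((dg W T i ^^^ v) <<< (W * i)) := rfl
  have hb : ∀ c j b, (dg W c j).testBit b = (decide (b < W) && c.testBit (W * j + b)) := by
    intro c j b
    rw [dg_def, Nat.testBit_mod_two_pow, Nat.testBit_div_two_pow, add_comm]
  refine Nat.eq_of_testBit_eq fun b => ?_
  rw [hb, e, Nat.testBit_xor, Nat.testBit_shiftLeft]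
  by_cases h1 : b < W
  · split_ifs with h
    · subst h
      simp [h1, Nat.testBit_xor, hb]
    · rw [hb]
      rcases Nat.lt_or_gt_of_ne h with h2 | h2
      · have : ¬ W * j + b ≥ W * i := by nlinarith
        simp [this]
      · have : (dg W T i ^^^ v).testBit (W * j + b - W * i) = false := by
          refine Nat.testBit_eq_false_of_lt (hd.trans_le (Nat.pow_le_pow_right (by norm_num) ?_))
          have : W * (i + 1) ≤ W * j := Nat.mul_le_mul_left _ h2
          rw [Nat.mul_succ] at this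
          omega
        simp [this]
  · have h2 : ∀ c, c < 2 ^ W → c.testBit b = false := fun c hc =>
      Nat.testBit_eq_false_of_lt (hc.trans_le (Nat.pow_le_pow_right (by norm_num) (by omega)))
    split_ifs
    · simp [h1, h2 v hv]
    · simp [h1, h2 _ (dg_lt _ _ _)]

theorem iv_eq (im y : ℕ) : iv im y = if im.testBit (y / 2) then y else y ^^^ 1 := by
  unfold iv
  have e : Nat.land (Nat.shiftRight im (Nat.div y 2)) 1 = (im >>> (y / 2)) &&& 1 := rfl
  rw [e, Nat.testBit, Nat.and_comm]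
  generalize 1 &&& (im >>> (y / 2)) = t
  cases t <;> rfl

theorem xor_one_div (y : ℕ) : (y ^^^ 1) / 2 = y / 2 ∧ (y ^^^ 1) % 2 = 1 - y % 2 := by
  rcases Nat.even_or_odd y with h | h
  · rw [Nat.xor_one_of_even h]; obtain ⟨k, rfl⟩ := h; omega
  · rw [Nat.xor_one_of_odd h]; obtain ⟨k, rfl⟩ := h; omega

theorem iv_lt {im n y : ℕ} (h : y < 2 * n) : iv im y < 2 * n := by
  rw [iv_eq]
  have := xor_one_div y
  split_ifs <;> omega

theorem mem_nthW (l : List (List ℕ)) (i : ℕ) : nthW l i = [] ∨ nthW l i ∈ l := by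
  induction l generalizing i with
  | nil => exact Or.inl rfl
  | cons a l ih =>
    cases i with
    | zero => exact Or.inr (List.mem_cons_self ..)
    | succ i => exact (ih i).imp id (List.mem_cons_of_mem _)

theorem testBit_lmask {l : List ℕ} {c : ℕ} (h : (TP.lmask l).testBit c = true) : c ∈ l := by
  induction l with
  | nil => simp [TP.lmask] at h
  | cons a l ih =>
    have : TP.lmask (a :: l) = TP.lmask l ||| 2 ^ a := by rw [← Nat.one_shiftLeft]; rfl
    rw [this, Nat.testBit_or, Bool.or_eq_true, Nat.testBit_two_pow] at h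
    rcases h with h | h
    · exact List.mem_cons_of_mem _ (ih h)
    · simp at h; simp [h]

section
variable {G : Type*} [Group G]

theorem ev_rinv {im : ℕ} {a : ℕ → G} (h : ∀ y, a (iv im y) = (a y)⁻¹) (w acc : List ℕ) :
    ev a (rinv im w acc) = (ev a w)⁻¹ * ev a acc := by
  induction w generalizing acc with
  | nil => simp [rinv]
  | cons y w ih =>
    have : rinv im (y :: w) acc = rinv im w (iv im y :: acc) := rfl
    rw [this, ih]; simp [h, mul_assoc]

theorem mem_rinv {im n : ℕ} {w acc : List ℕ} (h : ∀ y ∈ w, y < 2 * n) (h' : ∀ y ∈ acc, y < 2 * n) :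
    ∀ y ∈ rinv im w acc, y < 2 * n := by
  induction w generalizing acc with
  | nil => exact h'
  | cons y w ih =>
    refine ih (fun z hz => h z (List.mem_cons_of_mem _ hz)) fun z hz => ?_
    rcases List.mem_cons.mp hz with rfl | hz
    · exact iv_lt (h y (List.mem_cons_self ..))
    · exact h' z hz

/-- the context of an enumeration -/
structure Ctx (P : TP) (a : ℕ → G) (K : Subgroup G) : Prop where
  inv : ∀ y, a (iv P.im y) = (a y)⁻¹
  eps : a (2 * P.n) = 1
  cw : ∀ w ∈ P.CW, ev a w = 1 ∧ ∀ y ∈ w, y < 2 * P.n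
  bw : ∀ w ∈ P.BW, ev a w ∈ K ∧ ∀ y ∈ w, y < 2 * P.n
  two : 1 < 2 ^ P.W

theorem Ctx.of {P : TP} {RL : List (List ℕ)} (h : P.ok RL = true) {gs : List G}
    (hn : gs.length = P.n) (hR : Sat RL gs) {K : Subgroup G}
    (hB : ∀ w ∈ P.BW, ev (atm gs) w ∈ K) : Ctx P (atm gs) K := by
  simp only [TP.ok, Bool.and_eq_true, List.all_eq_true, decide_eq_true_eq, Nat.blt_eq,
    List.mem_range, Bool.or_eq_true, Bool.not_eq_true', List.mem_append] at h
  obtain ⟨⟨⟨⟨h1, h2⟩, h3⟩, h4⟩, h5⟩ := h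
  have hi : ∀ y, atm gs (iv P.im y) = (atm gs y)⁻¹ := by
    intro y
    rw [iv_eq]
    split_ifs with hb
    · have hy : y / 2 < P.n := by
        by_contra hc
        rw [Nat.testBit_eq_false_of_lt
          (h4.trans_le (Nat.pow_le_pow_right (by norm_num) (by omega)))] at hb
        cases hb
      have := hR _ ((h3 _ hy).resolve_left (by simp [hb]))
      have e : atm gs (2 * (y / 2)) = gs.getD (y / 2) 1 := by simp [atm]
      rw [ev_cons, ev_cons, ev_nil, mul_one, e] at this
      have e2 := eq_inv_of_mul_eq_one_left this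
      unfold atm
      split_ifs
      · exact e2
      · rw [inv_inv]; exact e2.symm
    · have := xor_one_div y
      unfold atm
      rw [this.1, this.2]
      rcases Nat.mod_two_eq_zero_or_one y with h | h <;> simp [h]
  refine ⟨hi, by simp [atm, ← hn], fun w hw => ⟨?_, h2 w (Or.inl hw)⟩,
    fun w hw => ⟨hB w hw, h2 w (Or.inr hw)⟩, h5⟩
  have := h1 w hw
  simp only [allRot, List.mem_append, List.mem_map, List.mem_flatMap, List.mem_range,
    List.mem_cons, List.not_mem_nil, or_false] at this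
  rcases this with ⟨y, -, rfl⟩ | ⟨l, hl, i, -, e⟩
  · simp [hi]
  · have h6 : ev (atm gs) (l.drop i ++ l.take i) = 1 := by
      have h7 := hR l hl
      rw [← List.take_append_drop i l, ev_append] at h7
      rw [ev_append, mul_eq_one_comm, h7]
    rcases e with rfl | rfl
    · exact h6
    · rw [ev_rinv hi, h6]; simp

/-- the invariant of an enumeration -/
structure Inv (P : TP) (a : ℕ → G) (K : Subgroup G) (rep : ℕ → G) (T cnt : ℕ) : Prop where
  zero : rep 0 = 1
  lt : cnt < 2 ^ P.W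
  fact : ∀ c y e, y ≤ 2 * P.n → dg P.W T (P.ix c y) = e + 1 →
    c < cnt ∧ e < cnt ∧ rep c * a y * (rep e)⁻¹ ∈ K

variable {P : TP} {a : ℕ → G} {K : Subgroup G} {rep : ℕ → G} {T cnt : ℕ}

theorem TP.ix_inj {c y c' y' : ℕ} (h : y ≤ 2 * P.n) (h' : y' ≤ 2 * P.n)
    (e : P.ix c y = P.ix c' y') : c = c' ∧ y = y' := by
  have e' : c * (2 * P.n + 1) + y = c' * (2 * P.n + 1) + y' := e
  have h1 := congrArg (· / (2 * P.n + 1)) e'
  simp only [Nat.mul_comm _ (2 * P.n + 1), Nat.mul_add_div (Nat.succ_pos _),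
    Nat.div_eq_of_lt (Nat.lt_succ_of_le h), Nat.div_eq_of_lt (Nat.lt_succ_of_le h')] at h1
  have h2 : c = c' := by omega
  subst h2
  exact ⟨rfl, by omega⟩

theorem Inv.set (h : Inv P a K rep T cnt) {c y e : ℕ} (hy : y ≤ 2 * P.n) (hc : c < cnt)
    (he : e < cnt) (hr : rep c * a y * (rep e)⁻¹ ∈ K) :
    Inv P a K rep (setT P.W T (P.ix c y) (Nat.succ e)) cnt := by
  refine ⟨h.zero, h.lt, fun c' y' e' hy' h1 => ?_⟩
  rw [dg_setT (by have := h.lt; omega)] at h1
  split_ifs at h1 with h2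
  · obtain ⟨rfl, rfl⟩ := TP.ix_inj hy' hy h2
    obtain rfl : e = e' := by omega
    exact ⟨hc, he, hr⟩
  · exact h.fact c' y' e' hy' h1

theorem Inv.fnd (X : Ctx P a K) (h : Inv P a K rep T cnt) {c : ℕ} (hc : c < cnt) :
    P.fnd T c < cnt ∧ rep c * (rep (P.fnd T c))⁻¹ ∈ K := by
  unfold TP.fnd
  generalize 40 = f
  induction f generalizing c with
  | zero => exact ⟨hc, by simp⟩
  | succ f ih =>
    dsimp only
    cases e : dg P.W T (P.ix c (Nat.mul 2 P.n)) with
    | zero => exact ⟨hc, by simp⟩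
    | succ e' =>
      obtain ⟨-, h2, h3⟩ := h.fact c _ e' le_rfl e
      rw [X.eps, mul_one] at h3
      refine ⟨(ih h2).1, ?_⟩
      simpa [mul_assoc] using K.mul_mem h3 (ih h2).2

theorem Inv.tr (X : Ctx P a K) (h : Inv P a K rep T cnt) {k : ℕ → Bool} {w : List ℕ}
    (hw : ∀ y ∈ w, y < 2 * P.n) {c : ℕ} (hc : c < cnt) (ht : P.tr T k w c = true) :
    ∃ p < cnt, rep c * ev a w * (rep p)⁻¹ ∈ K ∧ k p = true := by
  induction w generalizing c with
  | nil => exact ⟨c, hc, by simp, ht⟩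
  | cons y w ih =>
    have ht' : (Nat.rec false (fun e _ => frc (P.fnd T e) (P.tr T k w)) (dg P.W T (P.ix c y)) : Bool)
      = true := ht
    cases e : dg P.W T (P.ix c y) with
    | zero => rw [e] at ht'; cases ht'
    | succ e' =>
      rw [e] at ht'
      dsimp only at ht'
      rw [frc_eq] at ht'
      obtain ⟨-, h2, h3⟩ := h.fact c y e' (hw y (List.mem_cons_self ..)).le e
      obtain ⟨h4, h5⟩ := h.fnd X h2
      obtain ⟨p, h6, h7, h8⟩ := ih (fun z hz => hw z (List.mem_cons_of_mem _ hz)) h4 ht'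
      refine ⟨p, h6, ?_, h8⟩
      simpa [mul_assoc] using K.mul_mem (K.mul_mem h3 h5) h7

theorem Inv.set2 (X : Ctx P a K) (h : Inv P a K rep T cnt) {c y e : ℕ} (hy : y < 2 * P.n)
    (hc : c < cnt) (he : e < cnt) (hr : rep c * a y * (rep e)⁻¹ ∈ K) {k : ℕ → Bool}
    (hk : P.set2 T c y e k = true) : ∃ T', Inv P a K rep T' cnt ∧ k T' = true := by
  simp only [TP.set2, frc_eq] at hk
  refine ⟨_, (h.set hy.le hc he hr).set (iv_lt hy).le he hc ?_, hk⟩
  simpa [X.inv, mul_assoc] using K.inv_mem hr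

theorem Inv.scan (X : Ctx P a K) (h : Inv P a K rep T cnt) {c i kind : ℕ} {w : List ℕ}
    (hw : ∀ y ∈ w, y < 2 * P.n) (hc : c < cnt) (hr : rep c * ev a w * (rep c)⁻¹ ∈ K)
    {k : ℕ → ℕ → Bool} (hk : P.scan T cnt c i w kind k = true) :
    ∃ T', Inv P a K rep T' cnt ∧ k T' cnt = true := by
  have hw1 : ∀ y ∈ w.take i, y < 2 * P.n := fun y hy => hw y (List.mem_of_mem_take hy)
  have hw2 : ∀ y ∈ w.drop i, y < 2 * P.n := fun y hy => hw y (List.mem_of_mem_drop hy)
  obtain ⟨h1, h2⟩ := h.fnd X hc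
  rw [← List.take_append_drop i w, ev_append] at hr
  unfold TP.scan at hk
  cases hb : Nat.beq kind 1
  · rw [hb] at hk
    obtain ⟨p, hp, r1, hk⟩ := h.tr X hw1 h1 hk
    obtain ⟨q, hq, r2, hk⟩ := h.tr X (mem_rinv hw2 (by simp)) hc hk
    rw [ev_rinv X.inv] at r2
    have r3 : rep p * a (2 * P.n) * (rep q)⁻¹ ∈ K := by
      simpa [mul_assoc, X.eps] using K.mul_mem (K.mul_mem (K.inv_mem (K.mul_mem h2 r1)) hr) r2
    cases hb1 : Nat.ble p q
    · rw [hb1] at hk
      simp only [frc_eq] at hk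
      exact ⟨_, h.set le_rfl hp hq r3, hk⟩
    · rw [hb1] at hk
      cases hb2 : Nat.beq p q
      · rw [hb2] at hk
        simp only [frc_eq] at hk
        exact ⟨_, h.set le_rfl hq hp (by simpa [X.eps] using K.inv_mem r3), hk⟩
      · rw [hb2] at hk
        exact ⟨_, h, hk⟩
  · rw [hb] at hk
    cases e : w.drop i with
    | nil => rw [e] at hk; cases hk
    | cons y w2 =>
      rw [e] at hk hw2 hr
      obtain ⟨p, hp, r1, hk⟩ := h.tr X hw1 h1 hk
      obtain ⟨q, hq, r2, hk⟩ :=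
        h.tr X (mem_rinv (fun z hz => hw2 z (List.mem_cons_of_mem _ hz)) (by simp)) hc hk
      rw [ev_rinv X.inv] at r2
      refine h.set2 X (hw2 y (List.mem_cons_self ..)) hp hq ?_ hk
      simpa [mul_assoc] using K.mul_mem (K.mul_mem (K.inv_mem (K.mul_mem h2 r1)) hr) r2

theorem Inv.step (X : Ctx P a K) (h : Inv P a K rep T cnt) {s : ℕ} {k : ℕ → ℕ → Bool}
    (hk : P.step s T cnt k = true) : ∃ rep' T' cnt', Inv P a K rep' T' cnt' ∧ k T' cnt' = true := by
  simp only [TP.step, frc_eq] at hk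
  generalize Nat.shiftRight s 19 = c at hk
  generalize Nat.land (Nat.shiftRight s 3) 63 = i at hk
  generalize Nat.land (Nat.shiftRight s 9) 1023 = r at hk
  cases hb : Nat.blt c cnt
  · rw [hb] at hk; cases hk
  rw [hb] at hk
  have hc : c < cnt := by simpa [Nat.blt_eq] using hb
  cases e : Nat.land s 3 with
  | zero =>
    rw [e] at hk
    cases hb2 : (Nat.blt i (Nat.mul 2 P.n) && Nat.blt (Nat.succ cnt) (Nat.pow 2 P.W))
    · rw [hb2] at hk; cases hk
    rw [hb2] at hk
    simp only [Bool.and_eq_true, Nat.blt_eq] at hb2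
    have h1 : Inv P a K (Function.update rep cnt (rep c * a i)) T (cnt + 1) := by
      refine ⟨by rw [Function.update_of_ne (by omega), h.zero], hb2.2, fun c' y e' hy h2 => ?_⟩
      obtain ⟨h3, h4, h5⟩ := h.fact c' y e' hy h2
      rw [Function.update_of_ne h3.ne, Function.update_of_ne h4.ne]
      exact ⟨by omega, by omega, h5⟩
    obtain ⟨T', h2, h3⟩ := h1.set2 X hb2.1 (by omega : c < cnt + 1) (Nat.lt_succ_self cnt)
      (by rw [Function.update_of_ne hc.ne, Function.update_self]; simp) hk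
    exact ⟨_, T', _, h2, h3⟩
  | succ kind =>
    rw [e] at hk
    cases hb2 : Nat.beq (Nat.land s 4) 0
    · rw [hb2] at hk
      cases hb3 : Nat.beq c 0
      · rw [hb3] at hk; cases hk
      rw [hb3] at hk
      obtain rfl : c = 0 := Nat.eq_of_beq_eq_true hb3
      have h1 : ev a (nthW P.BW r) ∈ K ∧ ∀ y ∈ nthW P.BW r, y < 2 * P.n := by
        rcases mem_nthW P.BW r with h2 | h2
        · rw [h2]; simp
        · exact X.bw _ h2
      obtain ⟨T', h2, h3⟩ := h.scan X h1.2 hc (by simpa [h.zero] using h1.1) hk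
      exact ⟨_, T', _, h2, h3⟩
    · rw [hb2] at hk
      have h1 : ev a (nthW P.CW r) = 1 ∧ ∀ y ∈ nthW P.CW r, y < 2 * P.n := by
        rcases mem_nthW P.CW r with h2 | h2
        · rw [h2]; simp
        · exact X.cw _ h2
      obtain ⟨T', h2, h3⟩ := h.scan X h1.2 hc (by simp [h1.1]) hk
      exact ⟨_, T', _, h2, h3⟩

/-- a reachable state -/
def St (P : TP) (a : ℕ → G) (K : Subgroup G) (T cnt : ℕ) : Prop :=
  Ctx P a K ∧ ∃ rep, Inv P a K rep T cnt

theorem Ctx.init (X : Ctx P a K) : St P a K 0 1 :=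
  ⟨X, fun _ => 1, rfl, X.two, fun c y e _ h => by simp [dg_def] at h⟩

theorem St.run (h : St P a K T cnt) {S : List ℕ} {T' cnt' : ℕ}
    (hr : P.runTo S T cnt T' cnt' = true) : St P a K T' cnt' := by
  obtain ⟨X, rep, h⟩ := h
  unfold TP.runTo at hr
  induction S generalizing rep T cnt with
  | nil =>
    have h1 : (Nat.beq T T' && Nat.beq cnt cnt') = true := hr
    simp only [Bool.and_eq_true, Nat.beq_eq] at h1
    obtain ⟨rfl, rfl⟩ := h1
    exact ⟨X, rep, h⟩
  | cons s S ih =>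
    obtain ⟨rep', T1, c1, h1, h2⟩ := h.step X (s := s) hr
    exact ih h2 rep' h1

theorem St.cover {gs : List G} (hn : gs.length = P.n) (h : St P (atm gs) K T cnt) {live : List ℕ}
    (hf : P.fin T cnt live = true) :
    ∃ rep : ℕ → G, ∀ g ∈ clo gs, ∃ c ∈ live, g * (rep c)⁻¹ ∈ K := by
  obtain ⟨X, rep, h⟩ := h
  simp only [TP.fin, frc_eq, Bool.and_eq_true, List.all_eq_true, Nat.blt_eq, List.mem_range] at hf
  obtain ⟨h0, h1⟩ := hf
  have key : ∀ y < 2 * P.n, (∀ c ∈ live, P.tr T (Nat.testBit (TP.lmask live)) [y] c = true) →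
      ∀ g, (∃ c ∈ live, g * (rep c)⁻¹ ∈ K) → ∃ c ∈ live, g * atm gs y * (rep c)⁻¹ ∈ K := by
    rintro y hy h2 g ⟨c, hc, h3⟩
    obtain ⟨p, -, h4, h5⟩ := h.tr X (by simpa using hy) (h1 c hc).1 (h2 c hc)
    exact ⟨p, testBit_lmask h5, by simpa [mul_assoc] using K.mul_mem h3 h4⟩
  have hx : ∀ x ∈ gs, ∃ j < P.n, x = atm gs (2 * j) := fun x hx => by
    obtain ⟨j, hj, rfl⟩ := List.getElem_of_mem hx
    exact ⟨j, hn ▸ hj, by simp [atm, hj]⟩
  refine ⟨rep, fun g hg => ?_⟩
  induction hg using Subgroup.closure_induction_right with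
  | one => exact ⟨0, testBit_lmask h0, by simp [h.zero]⟩
  | mul_right x _ y hy ih =>
    obtain ⟨j, hj, rfl⟩ := hx y hy
    exact key (2 * j) (by omega) (fun c hc => ((h1 c hc).2 j hj).1) x ih
  | mul_inv_cancel x _ y hy ih =>
    obtain ⟨j, hj, rfl⟩ := hx y hy
    rw [← X.inv]
    exact key (iv P.im (2 * j)) (iv_lt (by omega)) (fun c hc => ((h1 c hc).2 j hj).2) x ih

/-- a subgroup is finite of order at most `N` -/
def Le (K : Subgroup G) (N : ℕ) : Prop := Finite K ∧ Nat.card K ≤ N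

theorem le_bot : Le (⊥ : Subgroup G) 1 := ⟨inferInstance, by simp⟩

theorem St.le {gs : List G} (hn : gs.length = P.n) (h : St P (atm gs) K T cnt) {live : List ℕ}
    (hf : P.fin T cnt live = true) {M : ℕ} (hK : Le K M) : Le (clo gs) (live.length * M) := by
  classical
  obtain ⟨rep, h1⟩ := h.cover hn hf
  choose! c hc using h1
  have := hK.1
  let f : clo gs → live.toFinset × K := fun g =>
    (⟨c g, List.mem_toFinset.mpr (hc g g.2).1⟩, ⟨_, (hc g g.2).2⟩)
  have hf : Function.Injective f := fun g g' e => by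
    have e1 : c g = c g' := congrArg (fun p => (p.1 : ℕ)) e
    have e2 : (g : G) * (rep (c g))⁻¹ = g' * (rep (c g'))⁻¹ := congrArg (fun p => (p.2 : G)) e
    rw [e1] at e2
    exact Subtype.ext (mul_right_cancel e2)
  refine ⟨Finite.of_injective f hf, (Nat.card_le_card_of_injective f hf).trans ?_⟩
  rw [Nat.card_prod, Nat.card_eq_finsetCard]
  exact Nat.mul_le_mul (List.toFinset_card_le _) hK.2

end

end

end Cfsg.Agent.HJ
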