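/-
The icosian Leech lattice: reflections, isometries and their matrices.
-/
import Cfsg.Agent.HJ.Ico1
import Cfsg.Agent.HJ.TC

set_option autoImplicit false

namespace Cfsg.Agent.HJ

open Quaternion Spor Z8

noncomputable section

theorem h_mem : icoH ∈ icosians := ic_wh ▸ ic_mem (by decide)
theorem hb_mem : star icoH ∈ icosians := Z8.star_mem h_mem

theorem two_eq : (2 : ℍ[ℝ]) = (2 : ℝ) • 1 := by rw [two_smul, one_add_one_eq_two]
theorem aiv (g : Equiv.Perm icoLeech) (x : icoLeech) : g (g⁻¹ x) = x := g.apply_symm_apply x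

theorem h_hb : icoH * star icoH = 2 := by
  rw [← ic_wh, ← ic_cnj, ic_mul_iff.mpr (show _ = sm 2 (sc 4) by decide), ic_sc, two_eq]
  norm_num
theorem hb_h : star icoH * icoH = 2 := by
  rw [← ic_wh, ← ic_cnj, ic_mul_iff.mpr (show _ = sm 2 (sc 4) by decide), ic_sc, two_eq]
  norm_num

theorem li_sub {q x y : ℍ[ℝ]} (hx : x ∈ leftIdeal q) (hy : y ∈ leftIdeal q) : x - y ∈ leftIdeal q := by
  obtain ⟨a, h1, rfl⟩ := hx
  obtain ⟨b, h2, rfl⟩ := hy
  exact ⟨a - b, sub_mem h1 h2, by rw [sub_mul]⟩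

theorem li_mul {q x s : ℍ[ℝ]} (hs : s ∈ icosians) (hx : x ∈ leftIdeal q) : s * x ∈ leftIdeal q := by
  obtain ⟨a, h1, rfl⟩ := hx
  exact ⟨s * a, mul_mem hs h1, by rw [mul_assoc]⟩

theorem li_zero {q : ℍ[ℝ]} : 0 ∈ leftIdeal q := ⟨0, zero_mem _, by simp⟩

theorem lam_mul {s : ℍ[ℝ]} {r : Fin 3 → ℍ[ℝ]} (hs : s ∈ icosians) (hr : r ∈ icoLeech) :
    (fun t => s * r t) ∈ icoLeech :=
  ⟨fun t => mul_mem hs (hr.1 t), by simpa [mul_sub] using li_mul hs hr.2.1,
    by simpa [mul_sub] using li_mul hs hr.2.2.1, by simpa [mul_add] using li_mul hs hr.2.2.2⟩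

theorem lam_sub {x r : Fin 3 → ℍ[ℝ]} (hx : x ∈ icoLeech) (hr : r ∈ icoLeech) :
    (fun t => x t - r t) ∈ icoLeech :=
  ⟨fun t => sub_mem (hx.1 t) (hr.1 t), by convert li_sub hx.2.1 hr.2.1 using 1; simp only; abel,
    by convert li_sub hx.2.2.1 hr.2.2.1 using 1; simp only; abel,
    by convert li_sub hx.2.2.2 hr.2.2.2 using 1; simp only; abel⟩

theorem half_qip_mem {x r : Fin 3 → ℍ[ℝ]} (hx : x ∈ icoLeech) (hr : r ∈ icoLeech) :
    (1 / 2 : ℝ) • qip x r ∈ icosians := by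
  obtain ⟨m, ⟨a, ha, e1⟩, ⟨b, hb, e2⟩, ⟨c, hc, e3⟩⟩ := hx
  obtain ⟨m', ⟨a', ha', f1⟩, ⟨b', hb', f2⟩, ⟨c', hc', f3⟩⟩ := hr
  have g1 := congrArg star f1
  have g2 := congrArg star f2
  have g3 := congrArg star f3
  simp only [star_sub, star_mul, star_add, star_star] at g1 g2 g3
  have k1 := h_hb
  have k2 := hb_h
  have : qip x r = 2 * (c * star c' - c * star icoH * star (r 1) - (a - b) * (star a' - star b') -
      x 1 * star icoH * (star a' - star b') + a * star a' + b * star b') := by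
    rw [qip, Fin.sum_univ_three, eq_add_of_sub_eq e1, eq_add_of_sub_eq g1,
      show x 2 = x 1 - b * icoH by rw [← e2]; abel,
      show star (r 2) = star (r 1) - star icoH * star b' by rw [← g2]; abel]
    rw [eq_add_of_sub_eq e1, show x 2 = x 1 - b * icoH by rw [← e2]; abel] at e3
    rw [eq_add_of_sub_eq g1, show star (r 2) = star (r 1) - star icoH * star b' by rw [← g2]; abel] at g3
    generalize star icoH = H at *
    generalize star (r 1) = R at *
    generalize star a' = A at *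
    generalize star b' = B at *
    generalize star c' = C at *
    linear_combination (norm := noncomm_ring) e3 * R + c * H * g3 + c * k2 * C + e3 * H * (A - B) -
      (a - b) * k1 * (A - B) + a * k1 * A + b * k1 * B
  rw [this, two_mul, ← two_smul ℝ, smul_smul]
  norm_num
  have := hb_mem
  have := Z8.star_mem ha'
  have := Z8.star_mem hb'
  have := Z8.star_mem hc'
  have := Z8.star_mem (m' 1)
  have := m 1
  repeat' first | assumption | apply add_mem | apply sub_mem | apply mul_mem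

theorem qip_sub (x y z : Fin 3 → ℍ[ℝ]) (s : ℍ[ℝ]) :
    qip (fun t => x t - s * y t) z = qip x z - s * qip y z := by
  simp only [qip, Fin.sum_univ_three]; noncomm_ring

theorem qip_sub' (x y z : Fin 3 → ℍ[ℝ]) (s : ℍ[ℝ]) :
    qip z (fun t => x t - s * y t) = qip z x - qip z y * star s := by
  simp only [qip, Fin.sum_univ_three, star_sub, star_mul]; noncomm_ring

theorem qip_star (x y : Fin 3 → ℍ[ℝ]) : star (qip x y) = qip y x := by
  simp [qip, Fin.sum_univ_three]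

theorem qip_mul (u : ℍ[ℝ]) (x y : Fin 3 → ℍ[ℝ]) : qip (fun t => u * x t) y = u * qip x y := by
  simp only [qip, Fin.sum_univ_three]; noncomm_ring

theorem qip_mul' (u : ℍ[ℝ]) (x y : Fin 3 → ℍ[ℝ]) : qip x (fun t => u * y t) = qip x y * star u := by
  simp only [qip, Fin.sum_univ_three, star_mul]; noncomm_ring

theorem half4 (p : ℍ[ℝ]) : (1 / 2 : ℝ) • p * 4 = p + p := by
  rw [show (4 : ℍ[ℝ]) = (4 : ℝ) • 1 by ext <;> simp <;> rfl, smul_mul_smul_comm, mul_one, ← two_smul ℝ]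
  norm_num

theorem qip_refl {r : Fin 3 → ℍ[ℝ]} (h : qip r r = 4) (x y : Fin 3 → ℍ[ℝ]) :
    qip (qrefl r x) (qrefl r y) = qip x y := by
  unfold qrefl
  rw [qip_sub, qip_sub', qip_sub', h, mul_sub, ← mul_assoc, half4, Quaternion.star_smul, qip_star]
  simp only [star_trivial, mul_smul_comm, smul_mul_assoc, add_mul, smul_add]
  module

theorem refl_refl {r : Fin 3 → ℍ[ℝ]} (h : qip r r = 4) (x : Fin 3 → ℍ[ℝ]) :
    qrefl r (qrefl r x) = x := by
  ext1 t
  rw [qrefl]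
  conv_lhs => enter [2, 1, 2]; unfold qrefl; rw [qip_sub, h, half4]
  simp only [qrefl, smul_sub, smul_add, sub_mul, add_mul]
  abel

/-- minimal vectors -/
abbrev MV : Type := {r : icoLeech // qip r.1 r.1 = 4}

/-- the reflection in a minimal vector -/
def rf (r : MV) : Equiv.Perm icoLeech := Function.Involutive.toPerm
  (fun x => ⟨qrefl r.1.1 x.1, lam_sub x.2 (lam_mul (half_qip_mem x.2 r.1.2) r.1.2)⟩)
  fun x => Subtype.ext (refl_refl r.2 x.1)

theorem rf_coe (r : MV) (x : icoLeech) : (rf r x).1 = qrefl r.1.1 x.1 := rfl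

theorem isRefl_iff {f : Equiv.Perm icoLeech} : IsIcoReflection f ↔ ∃ r, f = rf r :=
  ⟨fun ⟨r, h1, h2⟩ => ⟨⟨r, h1⟩, Equiv.ext fun x => Subtype.ext (h2 x)⟩,
    fun ⟨r, h⟩ => ⟨r.1, r.2, fun x => by rw [h, rf_coe]⟩⟩

theorem rf_mem (r : MV) : rf r ∈ twoJ2 := Subgroup.subset_closure (isRefl_iff.mpr ⟨r, rfl⟩)

theorem iso {g : Equiv.Perm icoLeech} (hg : g ∈ twoJ2) (x y : icoLeech) :
    qip (g x).1 (g y).1 = qip x.1 y.1 := by
  induction hg using Subgroup.closure_induction generalizing x y with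
  | mem g h =>
    obtain ⟨r, rfl⟩ := isRefl_iff.mp h
    exact qip_refl r.2 _ _
  | one => rfl
  | mul g g' _ _ h1 h2 => exact (h1 _ _).trans (h2 x y)
  | inv g _ h => rw [← h]; simp

theorem two_h : (2 : ℍ[ℝ]) ∈ leftIdeal icoH := ⟨_, hb_mem, hb_h.symm⟩
theorem two_hb : (2 : ℍ[ℝ]) ∈ leftIdeal (star icoH) := ⟨_, h_mem, h_hb.symm⟩

/-- twice the basis vectors -/
def eb (t : Fin 3) : icoLeech := ⟨Pi.single t 2, by
  have h2 : (2 : ℍ[ℝ]) ∈ icosians := by simpa using natCast_mem icosians 2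
  have h3 := li_sub li_zero two_h
  refine ⟨fun u => ?_, ?_, ?_, ?_⟩
  · rw [Pi.single_apply]; split_ifs; exacts [h2, zero_mem _]
  all_goals fin_cases t <;> first | simpa using two_h | simpa using h3 | simpa using li_zero | simpa using two_hb⟩

theorem qip_eb (x : Fin 3 → ℍ[ℝ]) (t : Fin 3) : qip x (eb t).1 = (2 : ℝ) • x t := by
  fin_cases t <;> simp [qip, eb, Fin.sum_univ_three, mul_two, two_smul]

theorem nondeg {g : Equiv.Perm icoLeech} {w w' : Fin 3 → ℍ[ℝ]}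
    (h : ∀ v, qip w (g v).1 = qip w' (g v).1) : w = w' := by
  ext1 t
  have := h (g.symm (eb t))
  rw [Equiv.apply_symm_apply, qip_eb, qip_eb] at this
  exact smul_right_injective _ two_ne_zero this

/-- the image of a minimal vector -/
def MV.map (r : MV) {g : Equiv.Perm icoLeech} (hg : g ∈ twoJ2) : MV := ⟨g r.1, (iso hg _ _).trans r.2⟩

theorem conj_rf (r : MV) {g : Equiv.Perm icoLeech} (hg : g ∈ twoJ2) :
    g * rf r * g⁻¹ = rf (r.map hg) := by
  rw [mul_inv_eq_iff_eq_mul]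
  refine Equiv.ext fun x => Subtype.ext (nondeg (g := g) fun v => ?_)
  simp only [Equiv.Perm.mul_apply, iso hg, rf_coe]
  unfold qrefl
  simp only [qip_sub, MV.map, iso hg]

theorem rf_unit {r r' : MV} {u : ℍ[ℝ]} (hu : normSq u = 1) (h : ∀ t, r'.1.1 t = u * r.1.1 t) :
    rf r' = rf r := by
  refine Equiv.ext fun x => Subtype.ext (funext fun t => ?_)
  simp only [rf_coe, qrefl]
  rw [show r'.1.1 = fun t => u * r.1.1 t from funext h, qip_mul', smul_mul_assoc, mul_assoc,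
    ← mul_assoc (star u), star_mul_self, hu, smul_mul_assoc]
  simp

structure V3 : Type where
  (x y z : Z8)

instance decV3 : DecidableEq V3 := fun a b =>
  decidable_of_iff (a.x = b.x ∧ a.y = b.y ∧ a.z = b.z) (by cases a; cases b; simp)

structure M9 : Type where
  (r0 r1 r2 : V3)

def V3.frc {β : Type} (v : V3) (k : V3 → β) : β :=
  v.x.frc fun x => v.y.frc fun y => v.z.frc fun z => k ⟨x, y, z⟩
def V3.em (v : V3) : Fin 3 → ℍ[ℝ] := ![emb v.x, emb v.y, emb v.z]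
def V3.sm (c : ℤ) (v : V3) : V3 := ⟨Z8.sm c v.x, Z8.sm c v.y, Z8.sm c v.z⟩
def V3.lm (u : Z8) (v : V3) : V3 := ⟨mul u v.x, mul u v.y, mul u v.z⟩
def V3.vm (v : V3) (m : M9) : V3 := v.frc fun v =>
  ⟨add (add (mul v.x m.r0.x) (mul v.y m.r1.x)) (mul v.z m.r2.x),
   add (add (mul v.x m.r0.y) (mul v.y m.r1.y)) (mul v.z m.r2.y),
   add (add (mul v.x m.r0.z) (mul v.y m.r1.z)) (mul v.z m.r2.z)⟩
def M9.row (m : M9) : Fin 3 → V3 := ![m.r0, m.r1, m.r2]
def M9.ct (m : M9) : M9 := ⟨⟨cnj m.r0.x, cnj m.r1.x, cnj m.r2.x⟩, ⟨cnj m.r0.y, cnj m.r1.y, cnj m.r2.y⟩,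
  ⟨cnj m.r0.z, cnj m.r1.z, cnj m.r2.z⟩⟩
def ebZ : Fin 3 → V3 := ![⟨sc 4, sc 0, sc 0⟩, ⟨sc 0, sc 4, sc 0⟩, ⟨sc 0, sc 0, sc 4⟩]

theorem em_sm (c : ℤ) (v : V3) : (v.sm c).em = (c : ℝ) • v.em := by
  ext1 t; fin_cases t <;> simp [V3.em, V3.sm, emb_sm]

theorem em_lm (u : Z8) (v : V3) (t : Fin 3) : (v.lm u).em t = emb u * v.em t := by
  fin_cases t <;> simp [V3.em, V3.lm, emb_mul]

theorem em_eb (t : Fin 3) : (2 : ℝ) • (eb t).1 = (ebZ t).em := by
  ext1 u
  fin_cases t <;> fin_cases u <;> simp [eb, ebZ, V3.em, emb_sc, two_eq, smul_smul] <;> norm_num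

/-- the rows of the matrix of `g` -/
def Row (g : Equiv.Perm icoLeech) (m : M9) : Prop := ∀ t, (2 : ℝ) • (g (eb t)).1 = (m.row t).em

theorem qip_smul (c : ℝ) (x y : Fin 3 → ℍ[ℝ]) : qip (c • x) y = c • qip x y := by
  simp [qip, Fin.sum_univ_three]

theorem Row.app {g : Equiv.Perm icoLeech} (hg : g ∈ twoJ2) {m : M9} (h : Row g m) {x : icoLeech}
    {c : ℝ} {w : V3} (e : c • x.1 = w.em) : (4 * c) • (g x).1 = (w.vm m).em := by
  have e1 : (w.vm m).em = fun u => w.em 0 * (m.row 0).em u + w.em 1 * (m.row 1).em u +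
      w.em 2 * (m.row 2).em u := by
    ext1 u; fin_cases u <;> simp [V3.vm, V3.frc, V3.em, M9.row, emb_add, emb_mul]
  refine nondeg (g := g) fun v => ?_
  have k : ∀ t, qip (m.row t).em (g v).1 = (4 : ℝ) • star (v.1 t) := fun t => by
    rw [← h, qip_smul, iso hg, ← qip_star, qip_eb, Quaternion.star_smul, smul_smul]; norm_num
  have e2 : qip (w.vm m).em (g v).1 = w.em 0 * qip (m.row 0).em (g v).1 +
      w.em 1 * qip (m.row 1).em (g v).1 + w.em 2 * qip (m.row 2).em (g v).1 := by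
    rw [e1]; simp only [qip, Fin.sum_univ_three]; noncomm_ring
  rw [e2, k, k, k, ← e, qip_smul, iso hg]
  simp [qip, Fin.sum_univ_three, smul_smul, mul_comm c]

theorem Row.inv {g : Equiv.Perm icoLeech} (hg : g ∈ twoJ2) {m : M9} (h : Row g m) : Row g⁻¹ m.ct := by
  intro t
  ext1 u
  have := iso hg (g⁻¹ (eb t)) (eb u)
  rw [aiv, qip_eb, ← qip_star, qip_eb] at this
  rw [Pi.smul_apply, ← this, ← Pi.smul_apply, h]
  fin_cases t <;> fin_cases u <;> simp [V3.em, M9.ct, M9.row, emb_cnj]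

theorem Row.ext {g g' : Equiv.Perm icoLeech} (hg : g ∈ twoJ2) (hg' : g' ∈ twoJ2) {m : M9}
    (h : Row g m) (h' : Row g' m) : g = g' := by
  refine inv_injective (Equiv.ext fun x => Subtype.ext (funext fun t => ?_))
  have k : ∀ {g : Equiv.Perm icoLeech}, g ∈ twoJ2 → Row g m →
      (4 : ℝ) • (g⁻¹ x).1 t = star (qip (m.row t).em x.1) := fun {g} hg h => by
    have := iso hg (g⁻¹ x) (eb t)
    rw [aiv, qip_eb] at this
    rw [← h, qip_smul, Quaternion.star_smul, qip_star, this, smul_smul]; norm_num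
  exact smul_right_injective _ (by norm_num) ((k hg h).trans (k hg' h').symm)

def rfM (w : V3) : M9 :=
  ⟨⟨sub (sc 8) (mul (cnj w.x) w.x), sub (sc 0) (mul (cnj w.x) w.y), sub (sc 0) (mul (cnj w.x) w.z)⟩,
   ⟨sub (sc 0) (mul (cnj w.y) w.x), sub (sc 8) (mul (cnj w.y) w.y), sub (sc 0) (mul (cnj w.y) w.z)⟩,
   ⟨sub (sc 0) (mul (cnj w.z) w.x), sub (sc 0) (mul (cnj w.z) w.y), sub (sc 8) (mul (cnj w.z) w.z)⟩⟩

theorem row_rf {r : MV} {w : V3} (e : (2 : ℝ) • r.1.1 = w.em) {m : M9}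
    (h : ∀ t, (m.row t).sm 2 = (rfM w).row t) : Row (rf r) m := by
  intro t
  refine smul_right_injective _ (show ((2 : ℤ) : ℝ) ≠ 0 by norm_num) ?_
  ext1 u
  have e1 : ((rfM w).row t).em u = (2 : ℝ) • (ebZ t).em u - star (w.em t) * w.em u := by
    fin_cases t <;> fin_cases u <;>
      simp [rfM, M9.row, V3.em, ebZ, emb_sub, emb_mul, emb_cnj, emb_sc, smul_smul] <;> norm_num
  beta_reduce
  rw [← em_sm, h, e1]
  simp only [← e, ← em_eb, rf_coe, qrefl, Pi.smul_apply]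
  rw [← qip_star, qip_eb]
  simp only [Quaternion.star_smul, star_trivial, smul_mul_assoc, mul_smul_comm, smul_sub, smul_smul]
  norm_num

/-- a lattice vector of norm 4 from witnesses of the congruences -/
def okV (w : V3) (a : V3) : Prop := (w.x.code ∧ w.y.code ∧ w.z.code) ∧ (a.x.code ∧ a.y.code ∧ a.z.code) ∧
  mul a.x wh = Z8.sm 2 (sub w.x w.y) ∧ mul a.y wh = Z8.sm 2 (sub w.y w.z) ∧
  mul a.z (cnj wh) = Z8.sm 2 (add (add w.x w.y) w.z) ∧
  S w.x + S w.y + S w.z = 16 ∧ N1 w.x + N1 w.y + N1 w.z = 0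

instance decOkV (w a : V3) : Decidable (okV w a) := by unfold okV; infer_instance

theorem qip_self (x : Fin 3 → ℍ[ℝ]) :
    qip x x = ((normSq (x 0) + normSq (x 1) + normSq (x 2) : ℝ) : ℍ[ℝ]) := by
  simp [qip, Fin.sum_univ_three, self_mul_star]

theorem okV.ex {w a : V3} (h : okV w a) : ∃ r : MV, (2 : ℝ) • r.1.1 = w.em := by
  obtain ⟨⟨h1, h2, h3⟩, ⟨k1, k2, k3⟩, e1, e2, e3, e4, e5⟩ := h
  refine ⟨⟨⟨![ic w.x, ic w.y, ic w.z], fun t => ?_, ⟨_, ic_mem k1, ?_⟩, ⟨_, ic_mem k2, ?_⟩,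
    ⟨_, ic_mem k3, ?_⟩⟩, ?_⟩, ?_⟩
  · fin_cases t
    exacts [ic_mem h1, ic_mem h2, ic_mem h3]
  · rw [← ic_wh, ic_mul_iff.mpr e1, ic_sub]; rfl
  · rw [← ic_wh, ic_mul_iff.mpr e2, ic_sub]; rfl
  · rw [← ic_wh, ← ic_cnj, ic_mul_iff.mpr e3, ic_add, ic_add]; rfl
  · have f4 : (S w.x + S w.y + S w.z : ℝ) = 16 := by exact_mod_cast e4
    have f5 : (N1 w.x + N1 w.y + N1 w.z : ℝ) = 0 := by exact_mod_cast e5
    refine (qip_self _).trans (congrArg (fun x : ℝ => (x : ℍ[ℝ])) (show _ = (4 : ℝ) from ?_))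
    simp only [Matrix.cons_val, normSq_ic]
    linear_combination f4 / 4 + tau / 4 * f5
  · ext1 t; fin_cases t <;> simp [V3.em, ic]

/-- the action of a word on a vector -/
def act (tab : ℕ → M9) (l : List ℕ) (w : V3) : V3 := l.foldr (fun y v => v.vm (tab y)) w

/-- matrices of the letters -/
def tabl (ms : List M9) (y : ℕ) : M9 :=
  if y % 2 = 0 then ms.getD (y / 2) ⟨ebZ 0, ebZ 1, ebZ 2⟩ else (ms.getD (y / 2) ⟨ebZ 0, ebZ 1, ebZ 2⟩).ct

theorem row_one : Row 1 ⟨ebZ 0, ebZ 1, ebZ 2⟩ := fun t => by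
  fin_cases t <;> exact em_eb _

theorem row_atm {gs : List twoJ2} {ms : List M9} (h : List.Forall₂ (fun g m => Row g.1 m) gs ms)
    (y : ℕ) : Row (atm gs y).1 (tabl ms y) := by
  have : ∀ j, Row (gs.getD j 1).1 (ms.getD j ⟨ebZ 0, ebZ 1, ebZ 2⟩) := by
    induction h with
    | nil => exact fun _ => row_one
    | cons h1 _ ih => exact fun j => by cases j; exacts [h1, ih _]
  unfold atm tabl
  split_ifs
  exacts [this _, (this _).inv (gs.getD _ 1).2]

theorem act_sound {gs : List twoJ2} {ms : List M9} (h : List.Forall₂ (fun g m => Row g.1 m) gs ms)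
    (l : List ℕ) {x : icoLeech} {w : V3} (e : (2 : ℝ) • x.1 = w.em) :
    ((4 ^ l.length * 2 : ℤ) : ℝ) • ((ev (atm gs) l).1 x).1 = (act (tabl ms) l w).em := by
  induction l with
  | nil => simpa [act] using e
  | cons y l ih =>
    have := (row_atm h y).app (atm gs y).2 ih
    rw [ev_cons, List.length_cons, pow_succ']
    push_cast at this ⊢
    rw [mul_assoc]
    exact this

theorem row_word {gs : List twoJ2} {ms : List M9} (h : List.Forall₂ (fun g m => Row g.1 m) gs ms)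
    {l : List ℕ} {m : M9} (e : ∀ t, act (tabl ms) l (ebZ t) = (m.row t).sm (4 ^ l.length)) :
    Row (ev (atm gs) l).1 m := fun t => by
  have := act_sound h l (em_eb t)
  rw [e, em_sm, Int.cast_mul, mul_smul] at this
  exact smul_right_injective _ (by positivity) this

end

end Cfsg.Agent.HJ
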