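/-
The order of the Hall–Janko group on 100 points, its point stabilisers and involution centraliser.
-/
import Cfsg.Agent.HJ.Data2

set_option autoImplicit false
set_option maxRecDepth 100000

namespace Cfsg.Agent.HJ

open Subgroup

theorem cover_of_count {G : Type*} [Group G] {β : Type*} {K B : Subgroup G} {T : List G} {c : ℕ}
    (hK : Le K (T.length * c)) (hB : B ≤ K) (hc : c ≤ Nat.card B) (F : G → β)
    (hF : ∀ t, ∀ c ∈ B, F (t * c) = F t) (hT : ∀ t ∈ T, t ∈ K) (hn : (T.map F).Nodup) :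
    ∀ x ∈ K, ∃ t ∈ T, ∃ b ∈ B, x = t * b := by
  classical
  have := hK.1
  let f : T.toFinset × B → K := fun p =>
    ⟨p.1 * p.2, K.mul_mem (hT _ (List.mem_toFinset.mp p.1.2)) (hB p.2.2)⟩
  have hf : Function.Injective f := by
    rintro ⟨⟨t, ht⟩, c⟩ ⟨⟨t', ht'⟩, c'⟩ e
    have e1 : t * c = t' * c' := congrArg Subtype.val e
    have e2 : t = t' := List.inj_on_of_nodup_map hn (List.mem_toFinset.mp ht)
      (List.mem_toFinset.mp ht') (by rw [← hF t c c.2, e1, hF t' c' c'.2])
    subst e2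
    rw [Subtype.ext (mul_left_cancel e1 : (c : G) = c')]
  have hb := hf.bijective_of_nat_card_le (by
    rw [Nat.card_prod, Nat.card_eq_finsetCard, List.toFinset_card_of_nodup (List.Nodup.of_map _ hn)]
    exact hK.2.trans (Nat.mul_le_mul_left _ hc))
  intro x hx
  obtain ⟨⟨t, b⟩, e⟩ := hb.2 ⟨x, hx⟩
  exact ⟨t, List.mem_toFinset.mp t.2, b, b.2, (congrArg Subtype.val e).symm⟩

/-- the stabiliser of a point -/
def stab (i : Fin 100) : Subgroup Γ where
  carrier := {x | x.ap i = i}
  mul_mem' := fun {a b} ha hb => by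
    simp only [Set.mem_setOf_eq] at *
    rw [PC.ap_mul _ _ i.2, hb, ha]
  one_mem' := PC.ap_one i.2
  inv_mem' := fun {a} ha => by
    simp only [Set.mem_setOf_eq] at *
    conv_lhs => rw [← ha, ← PC.ap_mul _ _ i.2, inv_mul_cancel, PC.ap_one i.2]

theorem mem_stab {i : Fin 100} {x : Γ} : x ∈ stab i ↔ x.ap i = i := Iff.rfl

theorem leL {G : Type*} [Group G] {gs : List G} (h : Sat cL.RL gs) (hn : gs.length = 2 := by rfl) :
    Le (clo gs) 168 := cL.le hn h (le_triv rfl) le_bot

theorem leU {G : Type*} [Group G] {gs : List G} (h : Sat cU.RL gs) (hn : gs.length = 3 := by rfl) :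
    Le (clo gs) 6048 := cU.le hn h (base_sel gs [0, 1]) (leL (h.ren [0, 1] (by decide)))

noncomputable def chU : List (ℕ × List Γ) := (2, T36) :: chL
noncomputable def chG : List (ℕ × List Γ) := (0, T100) :: chU

theorem chU_mem : ∀ T ∈ chU, ∀ t ∈ T.2, t ∈ clo gU :=
  List.forall_mem_cons.mpr ⟨T36_mem, fun T h t h' => L_le (chL_mem T h t h')⟩
theorem chG_mem : ∀ T ∈ chG, ∀ t ∈ T.2, t ∈ clo gG :=
  List.forall_mem_cons.mpr ⟨T100_mem, fun T h t h' => U_le (chU_mem T h t h')⟩
theorem chU_card : 6048 ≤ Nat.card (clo gU) :=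
  (by decide +kernel : PC.clen chU = 6048) ▸ PC.le_card (by decide +kernel) chU_mem
theorem chG_card : 604800 ≤ Nat.card (clo gG) :=
  (by decide +kernel : PC.clen chG = 604800) ▸ PC.le_card (by decide +kernel) chG_mem

theorem leG : Le (clo gG) 604800 := leG1 satG satH
theorem cardG : Nat.card (clo gG) = 604800 := le_antisymm leG.2 chG_card
theorem cardU : Nat.card (clo gU) = 6048 := le_antisymm (leU satU).2 chU_card
theorem cardH : Nat.card (clo gH) = 1920 := le_antisymm (leH satH).2 chH_card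

theorem H_le : clo gH ≤ clo gG := clo_le fun _ h => mem_clo (by simp at h ⊢; tauto)
theorem X_le : clo gX ≤ clo gG := clo_le fun _ h => mem_clo (by simp at h ⊢; tauto)

theorem len315 : T315.length * 1920 = 604800 := by decide +kernel
theorem nd315 : I315.Nodup := by decide +kernel

theorem centH : ∀ x ∈ clo gG, x * z0 = z0 * x → x ∈ clo gH :=
  cent_of_count (len315 ▸ leG) H_le zH chH_card T315_mem (I315_eq ▸ nd315) (by decide +kernel)

theorem cov315 : ∀ x ∈ clo gG, ∃ t ∈ T315, ∃ h ∈ clo gH, x = t * h :=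
  cover_of_count (len315 ▸ leG) H_le chH_card (fun t => t * z0 * t⁻¹) (fun t c hc => by
    rw [mul_assoc t c, zH c hc]; group) T315_mem (I315_eq ▸ nd315)

theorem cj315 : ∀ x ∈ clo gG, x * z0 * x⁻¹ ∈ I315 := fun x hx => by
  obtain ⟨t, ht, h, hh, rfl⟩ := cov315 x hx
  rw [I315_eq]
  exact List.mem_map.mpr ⟨t, ht, by rw [mul_assoc t h, zH h hh]; group⟩

theorem U_stab : clo gU ≤ stab 0 := clo_le (by simp only [mem_stab]; decide +kernel)
theorem L_stab : clo gL ≤ stab 2 := clo_le (by simp only [mem_stab]; decide +kernel)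

theorem ap_stab {i : Fin 100} (t : Γ) (c : Γ) (h : c ∈ stab i) : (t * c).ap i = t.ap i := by
  rw [PC.ap_mul _ _ i.2, h]

theorem stabU : ∀ x ∈ clo gG, x ∈ stab 0 → x ∈ clo gU :=
  stab_of_count ((by decide +kernel : T100.length * 6048 = 604800) ▸ leG) (le_inf U_le U_stab)
    chU_card (fun t => t.ap (0 : Fin 100)) ap_stab T100_mem (by decide +kernel) (by decide +kernel)

theorem stabL : ∀ x ∈ clo gU, x ∈ stab 2 → x ∈ clo gL :=
  stab_of_count ((by decide +kernel : T36.length * 168 = 6048) ▸ leU satU) (le_inf L_le L_stab)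
    chL_card (fun t => t.ap (2 : Fin 100)) ap_stab T36_mem (by decide +kernel) (by decide +kernel)

theorem enumL : PC.Enum (clo gL) chL := PC.Enum.of chL_ok chL_mem (chL_len ▸ (leL satL).2)

end Cfsg.Agent.HJ
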