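/-
Graph subgroups of `Γ × G`: transport of facts from a concrete group `Γ` to an abstract group `G`.
-/
import Cfsg.Agent.HJ.TC
import Cfsg.Agent.Core.Frobenius

set_option autoImplicit false

namespace Cfsg.Agent.HJ

variable {Γ : Type*} {G : Type*} [Group Γ] [Group G]

def Fn (Δ : Subgroup (Γ × G)) : Prop := ∀ y, ((1 : Γ), y) ∈ Δ → y = 1
def Inj (Δ : Subgroup (Γ × G)) : Prop := ∀ x, (x, (1 : G)) ∈ Δ → x = 1

section
variable {Δ : Subgroup (Γ × G)}

theorem pm_one : ((1 : Γ), (1 : G)) ∈ Δ := Δ.one_mem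
theorem pm_mul {a c : Γ} {b d : G} (h : (a, b) ∈ Δ) (h' : (c, d) ∈ Δ) : (a * c, b * d) ∈ Δ :=
  Δ.mul_mem h h'
theorem pm_inv {a : Γ} {b : G} (h : (a, b) ∈ Δ) : (a⁻¹, b⁻¹) ∈ Δ := Δ.inv_mem h
theorem pm_pow {a : Γ} {b : G} {n : ℕ} (h : (a, b) ∈ Δ) : (a ^ n, b ^ n) ∈ Δ := Δ.pow_mem h n

/-- membership of products in a graph subgroup -/
macro "gm" : tactic => `(tactic| with_reducible repeat' (first
  | assumption | exact pm_one | apply pm_mul | apply pm_inv | apply pm_pow))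

theorem Fn.eq (h : Fn Δ) {x x' : Γ} {y y' : G} (h1 : (x, y) ∈ Δ) (h2 : (x', y') ∈ Δ) (e : x = x') :
    y = y' := by
  subst e
  have := h (y * y'⁻¹) (by simpa using pm_mul h1 (pm_inv h2))
  exact mul_inv_eq_one.mp this

theorem Inj.eq (h : Inj Δ) {x x' : Γ} {y y' : G} (h1 : (x, y) ∈ Δ) (h2 : (x', y') ∈ Δ) (e : y = y') :
    x = x' := by
  subst e
  have := h (x * x'⁻¹) (by simpa using pm_mul h1 (pm_inv h2))
  exact mul_inv_eq_one.mp this

theorem Fn.mono {Δ' : Subgroup (Γ × G)} (h : Fn Δ') (hl : Δ ≤ Δ') : Fn Δ := fun y hy => h y (hl hy)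
theorem Inj.mono {Δ' : Subgroup (Γ × G)} (h : Inj Δ') (hl : Δ ≤ Δ') : Inj Δ :=
  fun y hy => h y (hl hy)

end

/-- the graph generated by corresponding lists -/
def gr (xs : List Γ) (ys : List G) : Subgroup (Γ × G) := clo (xs.zip ys)

section
variable {xs : List Γ} {ys : List G}

theorem gr_fst (hl : xs.length = ys.length) : (gr xs ys).map (MonoidHom.fst Γ G) = clo xs := by
  rw [gr, clo_map]; congr 1; exact List.map_fst_zip hl.le

theorem gr_snd (hl : xs.length = ys.length) : (gr xs ys).map (MonoidHom.snd Γ G) = clo ys := by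
  rw [gr, clo_map]; congr 1; exact List.map_snd_zip hl.ge

theorem gr_left (xs : List Γ) {y : G} (h : y ∈ clo ys) (hl : xs.length = ys.length := by rfl) :
    ∃ x ∈ clo xs, (x, y) ∈ gr xs ys := by
  rw [← gr_snd hl] at h
  obtain ⟨⟨x, y⟩, h1, rfl⟩ := h
  exact ⟨x, gr_fst hl ▸ ⟨_, h1, rfl⟩, h1⟩

theorem gr_right (ys : List G) {x : Γ} (h : x ∈ clo xs) (hl : xs.length = ys.length := by rfl) :
    ∃ y ∈ clo ys, (x, y) ∈ gr xs ys := by
  rw [← gr_fst hl] at h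
  obtain ⟨⟨x, y⟩, h1, rfl⟩ := h
  exact ⟨y, gr_snd hl ▸ ⟨_, h1, rfl⟩, h1⟩

theorem gr_mem {x : Γ} {y : G} (h : (x, y) ∈ gr xs ys) (hl : xs.length = ys.length := by rfl) :
    x ∈ clo xs ∧ y ∈ clo ys :=
  ⟨gr_fst hl ▸ ⟨_, h, rfl⟩, gr_snd hl ▸ ⟨_, h, rfl⟩⟩

theorem ev_zip (hl : xs.length = ys.length) (l : List ℕ) :
    ev (atm (xs.zip ys)) l = (ev (atm xs) l, ev (atm ys) l) := by
  refine Prod.ext ?_ ?_
  · have := ev_map (MonoidHom.fst Γ G) (xs.zip ys) l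
    rwa [MonoidHom.coe_fst, List.map_fst_zip hl.le] at this
  · have := ev_map (MonoidHom.snd Γ G) (xs.zip ys) l
    rwa [MonoidHom.coe_snd, List.map_snd_zip hl.ge] at this

theorem ev_mem_gr (hl : xs.length = ys.length) (l : List ℕ) :
    (ev (atm xs) l, ev (atm ys) l) ∈ gr xs ys := ev_zip hl l ▸ ev_mem_clo _ l

theorem Sat.zip {RL : List (List ℕ)} (h : Sat RL xs) (h' : Sat RL ys)
    (hl : xs.length = ys.length := by rfl) : Sat RL (xs.zip ys) := fun l hl' => by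
  rw [ev_zip hl, h l hl', h' l hl']; rfl

theorem Sat.append {RL RL' : List (List ℕ)} (h : Sat RL ys) (h' : Sat RL' ys) :
    Sat (RL ++ RL') ys := fun l hl => (List.mem_append.mp hl).elim (h l) (h' l)

theorem Sat.sub {RL RL' : List (List ℕ)} (h : Sat RL ys) (h' : ∀ l ∈ RL', l ∈ RL) : Sat RL' ys :=
  fun l hl => h l (h' l hl)

theorem fn_of_le {N : ℕ} (h : Le (gr xs ys) N)
    (hN : N ≤ Nat.card (clo xs)) (hl : xs.length = ys.length := by rfl) : Fn (gr xs ys) := by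
  have := h.1
  let π : gr xs ys → clo xs := fun p => ⟨p.1.1, (gr_mem p.2 hl).1⟩
  have hs : Function.Surjective π := fun x => by
    obtain ⟨y, -, h1⟩ := gr_right ys x.2 hl
    exact ⟨⟨_, h1⟩, rfl⟩
  have hb := hs.bijective_of_nat_card_le (h.2.trans hN)
  intro y hy
  have := hb.1 (a₁ := ⟨_, hy⟩) (a₂ := 1) rfl
  exact congrArg (fun p : gr xs ys => p.1.2) this

theorem inj_of_le {N : ℕ} (h : Le (gr xs ys) N)
    (hN : N ≤ Nat.card (clo ys)) (hl : xs.length = ys.length := by rfl) : Inj (gr xs ys) := by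
  have := h.1
  let π : gr xs ys → clo ys := fun p => ⟨p.1.2, (gr_mem p.2 hl).2⟩
  have hs : Function.Surjective π := fun x => by
    obtain ⟨y, -, h1⟩ := gr_left xs x.2 hl
    exact ⟨⟨_, h1⟩, rfl⟩
  have hb := hs.bijective_of_nat_card_le (h.2.trans hN)
  intro y hy
  have := hb.1 (a₁ := ⟨_, hy⟩) (a₂ := 1) rfl
  exact congrArg (fun p : gr xs ys => p.1.1) this

theorem exists_equiv_gr (hf : Fn (gr xs ys)) (hi : Inj (gr xs ys))
    (hl : xs.length = ys.length := by rfl) :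
    ∃ e : clo xs ≃* clo ys, ∀ x : clo xs, ((x : Γ), (e x : G)) ∈ gr xs ys := by
  choose f hf1 hf2 using fun x : clo xs => gr_right ys x.2 hl
  let φ : clo xs →* clo ys := MonoidHom.mk' (fun x => ⟨f x, hf1 x⟩) fun a b =>
    Subtype.ext (hf.eq (hf2 _) (pm_mul (hf2 a) (hf2 b)) rfl)
  refine ⟨MulEquiv.ofBijective φ ⟨fun a b e => Subtype.ext (hi.eq (hf2 a) (hf2 b)
    (congrArg Subtype.val e)), fun y => ?_⟩, hf2⟩
  obtain ⟨x, h1, h2⟩ := gr_left xs y.2 hl
  exact ⟨⟨x, h1⟩, Subtype.ext (hf.eq (hf2 _) h2 rfl)⟩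

theorem card_gr (hf : Fn (gr xs ys)) (hi : Inj (gr xs ys))
    (hl : xs.length = ys.length := by rfl) :
    Nat.card (clo ys) = Nat.card (clo xs) := by
  obtain ⟨e, -⟩ := exists_equiv_gr hf hi hl
  exact (Nat.card_congr e.toEquiv).symm

/-- the listed generators correspond -/
def AllM (Δ : Subgroup (Γ × G)) (xs : List Γ) (ys : List G) : List ℕ → Prop
  | [] => True
  | j :: S => (xs.getD j 1, ys.getD j 1) ∈ Δ ∧ AllM Δ xs ys S

theorem AllM.ev {Δ : Subgroup (Γ × G)} {S : List ℕ} (h : AllM Δ xs ys S) {l : List ℕ}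
    (hl : ∀ y ∈ l, y / 2 ∈ S) : (ev (atm xs) l, ev (atm ys) l) ∈ Δ := by
  have h1 : ∀ j ∈ S, (xs.getD j 1, ys.getD j 1) ∈ Δ := by
    clear hl
    induction S with
    | nil => simp
    | cons j S ih =>
      intro i hi
      rcases List.mem_cons.mp hi with rfl | hi
      · exact h.1
      · exact ih h.2 i hi
  induction l with
  | nil => exact pm_one
  | cons y l ih =>
    refine pm_mul ?_ (ih fun z hz => hl z (List.mem_cons_of_mem _ hz))
    have := h1 _ (hl y (List.mem_cons_self ..))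
    unfold atm
    split_ifs
    · exact this
    · exact pm_inv this

theorem Sat.tr {Δ : Subgroup (Γ × G)} (hf : Fn Δ) {S : List ℕ} (h : AllM Δ xs ys S)
    {RL : List (List ℕ)} (hS : ∀ l ∈ RL, ∀ y ∈ l, y / 2 ∈ S) (hx : Sat RL xs) : Sat RL ys :=
  fun l hl => hf.eq (h.ev (hS l hl)) pm_one (hx l hl)

theorem gr_le {Δ : Subgroup (Γ × G)} (h : ∀ p ∈ xs.zip ys, p ∈ Δ) : gr xs ys ≤ Δ := clo_le h

/-- elements of the subgroup generated by some words correspond to such elements -/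
theorem mem_of_gr {Δ : Subgroup (Γ × G)} (hf : Fn Δ)
    (h : gr xs ys ≤ Δ) {x : Γ} {y : G} (h1 : (x, y) ∈ Δ) (h2 : x ∈ clo xs)
    (hl : xs.length = ys.length := by rfl) :
    y ∈ clo ys ∧ (x, y) ∈ gr xs ys := by
  obtain ⟨y', h3, h4⟩ := gr_right ys h2 hl
  rw [hf.eq h1 (h h4) rfl]
  exact ⟨h3, h4⟩

end

theorem card_ge {β : Type*} {K C : Subgroup G} [Finite K] (hC : C ≤ K) (F : G → β)
    (hF : ∀ t, ∀ c ∈ C, F (t * c) = F t) {T : List G} (hT : ∀ t ∈ T, t ∈ K) (hn : (T.map F).Nodup) :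
    T.length * Nat.card C ≤ Nat.card K := by
  classical
  let f : T.toFinset × C → K := fun p =>
    ⟨p.1 * p.2, K.mul_mem (hT _ (List.mem_toFinset.mp p.1.2)) (hC p.2.2)⟩
  have hf : Function.Injective f := by
    rintro ⟨⟨t, ht⟩, c⟩ ⟨⟨t', ht'⟩, c'⟩ e
    have e1 : t * c = t' * c' := congrArg Subtype.val e
    have e2 : t = t' := List.inj_on_of_nodup_map hn (List.mem_toFinset.mp ht)
      (List.mem_toFinset.mp ht') (by rw [← hF t c c.2, e1, hF t' c' c'.2])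
    subst e2
    rw [Subtype.ext (mul_left_cancel e1 : (c : G) = c')]
  have := Nat.card_le_card_of_injective f hf
  rwa [Nat.card_prod, Nat.card_eq_finsetCard,
    List.toFinset_card_of_nodup (List.Nodup.of_map _ hn)] at this

/-- a stabiliser determined by counting -/
theorem stab_of_count {β : Type*} {K B S : Subgroup G} {T : List G} {c : ℕ}
    (hK : Le K (T.length * c)) (hB : B ≤ K ⊓ S) (hc : c ≤ Nat.card B) (F : G → β)
    (hF : ∀ t, ∀ c ∈ S, F (t * c) = F t) (hT : ∀ t ∈ T, t ∈ K) (hn : (T.map F).Nodup)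
    (h0 : T ≠ []) : ∀ x ∈ K, x ∈ S → x ∈ B := by
  have := hK.1
  have h1 := card_ge (inf_le_left : K ⊓ S ≤ K) F (fun t c hc => hF t c hc.2) hT hn
  have h2 : Nat.card (K ⊓ S : Subgroup G) ≤ Nat.card B :=
    Nat.le_of_mul_le_mul_left ((h1.trans hK.2).trans (Nat.mul_le_mul_left _ hc))
      (List.length_pos_iff.mpr h0)
  have : Finite (K ⊓ S : Subgroup G) := Finite.of_injective _ (Subgroup.inclusion_injective inf_le_left)
  have h3 := Subgroup.eq_of_le_of_card_ge hB h2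
  intro x h4 h5
  rw [h3]; exact ⟨h4, h5⟩

theorem cent_of_count {K B : Subgroup G} {T : List G} {c : ℕ} {z : G}
    (hK : Le K (T.length * c)) (hB : B ≤ K) (hz : ∀ b ∈ B, b * z = z * b) (hc : c ≤ Nat.card B)
    (hT : ∀ t ∈ T, t ∈ K) (hn : (T.map fun t => t * z * t⁻¹).Nodup) (h0 : T ≠ []) :
    ∀ x ∈ K, x * z = z * x → x ∈ B := fun x hx h =>
  stab_of_count (S := Subgroup.centralizer {z}) hK
    (le_inf hB fun b hb => Subgroup.mem_centralizer_singleton_iff.mpr (hz b hb)) hc _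
    (fun t c hc => by
      have := Subgroup.mem_centralizer_singleton_iff.mp hc
      rw [mul_assoc t c, this]; group) hT hn h0 x hx
    (Subgroup.mem_centralizer_singleton_iff.mpr h)

/-- a four-group acting without fixed points of its involutions -/
theorem eq_one_of_fpf [Finite G] {N : Subgroup G} {u v : G} (hu : ∀ x ∈ N, u * x * u⁻¹ ∈ N)
    (hv : ∀ x ∈ N, v * x * v⁻¹ ∈ N) (u2 : u * u = 1) (v2 : v * v = 1)
    (h1 : ∀ x ∈ N, x * u = u * x → x = 1) (h2 : ∀ x ∈ N, x * v = v * x → x = 1)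
    (h3 : ∀ x ∈ N, x * (u * v) = u * v * x → x = 1) : ∀ x ∈ N, x = 1 := by
  have key : ∀ u : G, (∀ x ∈ N, u * x * u⁻¹ ∈ N) → u * u = 1 →
      (∀ x ∈ N, x * u = u * x → x = 1) → ∀ x ∈ N, u * x * u⁻¹ = x⁻¹ := by
    intro u hu u2 h1
    refine (Core.inv_of_fpf_involution (Subgroup.mem_normalizer_fintype hu) u2 ?_).1
    rw [eq_bot_iff]
    rintro x ⟨hx, hc⟩
    exact h1 x hx (Subgroup.mem_centralizer_singleton_iff.mp hc)
  intro x hx
  refine h3 x hx ?_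
  have e1 := key v hv v2 h2 x hx
  have e2 := key u hu u2 h1 x⁻¹ (N.inv_mem hx)
  rw [inv_inv, ← e1] at e2
  conv_lhs => rw [← e2]
  group

theorem inj_of_fpf [Finite Γ] {Δ : Subgroup (Γ × G)} {u v : Γ} {u' v' : G} (hu : (u, u') ∈ Δ)
    (hv : (v, v') ∈ Δ) (u2 : u * u = 1) (v2 : v * v = 1)
    (h1 : ∀ x, (x, (1 : G)) ∈ Δ → x * u = u * x → x = 1)
    (h2 : ∃ c c', (c, c') ∈ Δ ∧ v = c * u * c⁻¹) (h3 : ∃ c c', (c, c') ∈ Δ ∧ u * v = c * u * c⁻¹) :
    Inj Δ := by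
  have hc : ∀ c c', (c, c') ∈ Δ → ∀ x, (x, (1 : G)) ∈ Δ → (c * x * c⁻¹, (1 : G)) ∈ Δ :=
    fun c c' h x hx => by simpa using pm_mul (pm_mul h hx) (pm_inv h)
  have key : ∀ w, (∃ c c', (c, c') ∈ Δ ∧ w = c * u * c⁻¹) →
      ∀ x, (x, (1 : G)) ∈ Δ → x * w = w * x → x = 1 := by
    rintro _ ⟨c, c', h, rfl⟩ x hx e
    have := h1 _ (hc _ _ (pm_inv h) x hx) (by
      rw [inv_inv]
      calc c⁻¹ * x * c * u = c⁻¹ * (x * (c * u * c⁻¹)) * c := by group
        _ = _ := by rw [e]; group)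
    simpa [mul_assoc, inv_mul_eq_one] using this
  exact eq_one_of_fpf (N := Δ.comap (MonoidHom.inl Γ G)) (hc u u' hu) (hc v v' hv) u2 v2 h1
    (key v h2) (key _ h3)

end Cfsg.Agent.HJ
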