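/-
Elementary lemmas on involutions: dihedral groups, strongly embedded subgroups, and groups with a
self-centralising four-group.
-/
import Cfsg.Agent.HJ.Gr
import Cfsg.Agent.HJ.Cert1
import Cfsg.Agent.Inv.Count

set_option autoImplicit false

namespace Cfsg.Agent.HJ

open Subgroup

variable {G : Type*} [Group G]

theorem mem_list_of_closed {gs L : List G} (h1 : (1 : G) ∈ L)
    (h : ∀ x ∈ L, ∀ g ∈ gs, x * g ∈ L ∧ x * g⁻¹ ∈ L) : ∀ x ∈ clo gs, x ∈ L := by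
  intro x hx
  induction hx using Subgroup.closure_induction_right with
  | one => exact h1
  | mul_right x _ y hy ih => exact (h x ih y hy).1
  | mul_inv_cancel x _ y hy ih => exact (h x ih y hy).2

theorem inv_eq_of_sq {x : G} (h : x * x = 1) : x⁻¹ = x := inv_eq_of_mul_eq_one_left h

theorem dih [Finite G] {L : Subgroup G} {x y : G} (hx : x ∈ L) (hy : y ∈ L) (x2 : x * x = 1)
    (y2 : y * y = 1) : (∃ u ∈ L, u * u = 1 ∧ u * x * u⁻¹ = y) ∨
      ∃ w ∈ L, w ≠ 1 ∧ w * w = 1 ∧ w * x = x * w ∧ w * y = y * w ∧ ∃ n : ℕ, w = (x * y) ^ n := by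
  have e1 : ∀ n : ℕ, x * (x * y) ^ n * x⁻¹ = ((x * y) ^ n)⁻¹ := fun n => by
    rw [← conj_pow, ← inv_pow]
    congr 1
    rw [mul_inv_rev, inv_eq_of_sq x2, inv_eq_of_sq y2, ← mul_assoc, x2, one_mul]
  have hm : ∀ n : ℕ, (x * y) ^ n ∈ L := fun n => L.pow_mem (L.mul_mem hx hy) n
  have h0 := pow_orderOf_eq_one (x * y)
  have hp := orderOf_pos (x * y)
  obtain ⟨j, hj | hj⟩ := Nat.even_or_odd' (orderOf (x * y))
  · have w2 : (x * y) ^ j * (x * y) ^ j = 1 := by rw [← pow_add, ← two_mul, ← hj, h0]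
    have w3 : (x * y) ^ j * x = x * (x * y) ^ j := by
      have := e1 j
      rw [inv_eq_of_sq w2, mul_inv_eq_iff_eq_mul] at this
      exact this.symm
    refine Or.inr ⟨_, hm j, pow_ne_one_of_lt_orderOf (by omega) (by omega), w2, w3, ?_, j, rfl⟩
    have w4 : (x * y) ^ j * (x * y) = x * y * (x * y) ^ j := by rw [← pow_succ, ← pow_succ']
    rw [← mul_assoc, w3, mul_assoc, mul_assoc] at w4
    exact mul_left_cancel w4
  · have e2 : x * (x * y) ^ j = ((x * y) ^ j)⁻¹ * x := by rw [← e1 j]; group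
    refine Or.inl ⟨(x * y) ^ j * x, L.mul_mem (hm j) hx, ?_, ?_⟩
    · rw [mul_assoc, ← mul_assoc x, e2]; simp [mul_assoc, x2]
    · have e3 : (x * y) ^ j * (x * y) ^ j * (x * y) = 1 := by
        rw [← pow_add, ← pow_succ, ← two_mul, ← hj, h0]
      have e4 : x * ((x * y) ^ j)⁻¹ = (x * y) ^ j * x := by
        rw [eq_comm, ← mul_inv_eq_iff_eq_mul, inv_inv, mul_assoc, e2]; group
      calc (x * y) ^ j * x * x * ((x * y) ^ j * x)⁻¹ = (x * y) ^ j * (x * ((x * y) ^ j)⁻¹) := by group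
        _ = ((x * y) ^ j * (x * y) ^ j * (x * y)) * y⁻¹ := by rw [e4]; group
        _ = y := by rw [e3, one_mul, inv_eq_of_sq y2]

/-- a strongly embedded subgroup has a subgroup of odd order transitive on its involutions -/
theorem strongly_emb [Finite G] {X Y : Subgroup G} (hXY : X ≤ Y) {z : G} (hz : z ∈ X)
    (z2 : z * z = 1) (hC : ∀ c ∈ Y, c * z = z * c → c ∈ X)
    (hI : ∀ t ∈ X, t * t = 1 → t ≠ 1 → ∃ x ∈ X, t = x * z * x⁻¹) {y : G} (hy : y ∈ Y) (hyX : y ∉ X) :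
    ∃ D ≤ X, (∀ t ∈ D, t * t = 1 → t = 1) ∧
      ∀ t ∈ X, ∀ t' ∈ X, t * t = 1 → t ≠ 1 → t' * t' = 1 → t' ≠ 1 → ∃ d ∈ D, d * t * d⁻¹ = t' := by
  have U : ∀ g ∈ Y, ∀ t ∈ X, t * t = 1 → t ≠ 1 → g * t * g⁻¹ ∈ X → g ∈ X := by
    intro g hg t ht t2 t1 h
    obtain ⟨x, hx, e⟩ := hI t ht t2 t1
    obtain ⟨x', hx', e'⟩ := hI _ h (by rw [conj_mul, t2]; simp) (by simpa using t1)
    have := hC (x'⁻¹ * g * x) (Y.mul_mem (Y.mul_mem (Y.inv_mem (hXY hx')) hg) (hXY hx)) (by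
      rw [e] at e'
      calc x'⁻¹ * g * x * z = x'⁻¹ * (g * (x * z * x⁻¹) * g⁻¹) * g * x := by group
        _ = _ := by rw [e']; group)
    simpa [mul_assoc] using X.mul_mem (X.mul_mem hx' this) (X.inv_mem hx)
  have K : ∀ t ∈ X, t * t = 1 → t ≠ 1 →
      ∃ u, u * u = 1 ∧ u * z * u⁻¹ = y * t * y⁻¹ ∧ y⁻¹ * u ∈ X := by
    intro t ht t2 t1
    have m1 : y * t * y⁻¹ ∈ Y := Y.mul_mem (Y.mul_mem hy (hXY ht)) (Y.inv_mem hy)
    rcases dih (hXY hz) m1 z2 (by rw [conj_mul, t2]; simp) with ⟨u, h1, h2, h3⟩ | ⟨w, h1, h2, h3, h4, h5, -⟩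
    · refine ⟨u, h2, h3, U _ (Y.mul_mem (Y.inv_mem hy) h1) z hz z2 ?_ ?_⟩
      · rintro rfl
        exact t1 (by simpa using h3.symm)
      · have : y⁻¹ * u * z * (y⁻¹ * u)⁻¹ = t := by
          calc _ = y⁻¹ * (u * z * u⁻¹) * y := by group
            _ = _ := by rw [h3]; group
        rwa [this]
    · have h6 := hC w h1 h4
      have h7 := U _ m1 w h6 h3 h2 (by rwa [← h5, mul_inv_cancel_right])
      exact absurd (U y hy t ht t2 t1 h7) hyX
  refine ⟨X ⊓ X.comap (MulAut.conj y).toMonoidHom, inf_le_left, fun t ht t2 => ?_, ?_⟩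
  · by_contra t1
    exact hyX (U y hy t ht.1 t2 t1 ht.2)
  · intro t ht t' ht' t2 t1 t2' t1'
    obtain ⟨u, h1, h2, h3⟩ := K t ht t2 t1
    obtain ⟨u', h1', h2', h3'⟩ := K t' ht' t2' t1'
    refine ⟨y⁻¹ * u' * u * y, ⟨?_, ?_⟩, ?_⟩
    · have := X.mul_mem h3' (X.inv_mem h3)
      rwa [mul_inv_rev, inv_eq_of_sq h1, inv_inv, ← mul_assoc] at this
    · have := X.mul_mem (X.inv_mem h3') h3
      rw [mul_inv_rev, inv_eq_of_sq h1'] at this
      simpa [mul_assoc] using this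
    · have e : u * (y * t * y⁻¹) * u⁻¹ = z := by
        rw [← h2, inv_eq_of_sq h1]
        calc u * (u * z * u) * u = (u * u) * z * (u * u) := by group
          _ = z := by simp [h1]
      calc _ = y⁻¹ * (u' * (u * (y * t * y⁻¹) * u⁻¹) * u'⁻¹) * y := by group
        _ = _ := by rw [e, h2']; group

namespace A4

instance fact4 : Fact (4 ≤ 2 ^ 2) := ⟨by norm_num⟩
noncomputable def z0 : PC 2 4 := PC.of 177
noncomputable def y0 : PC 2 4 := PC.of 201
noncomputable def LA : List (PC 2 4) := [228, 177, 201, 156, 54, 210, 99, 135, 120, 45, 27, 78].map PC.of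

theorem memA : ∀ x ∈ clo [z0, y0], x ∈ LA := mem_list_of_closed (by decide +kernel) (by decide +kernel)
theorem sat0 : Sat cA4.RL [z0, y0] := by decide +kernel
theorem card0 : 12 ≤ Nat.card (clo [z0, y0]) :=
  PC.le_card (L := [(0, [1, z0, y0 * z0 * y0⁻¹, z0 * (y0 * z0 * y0⁻¹)]), (1, [1, z0 * y0, (z0 * y0)⁻¹])])
    (by decide +kernel) (by
      have h1 : z0 ∈ clo [z0, y0] := mem_clo (by simp)
      have h2 : y0 ∈ clo [z0, y0] := mem_clo (by simp)
      simp only [List.forall_mem_cons, List.not_mem_nil, false_imp_iff, implies_true, and_true]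
      refine ⟨⟨?_, ?_, ?_, ?_⟩, ?_, ?_, ?_⟩ <;>
        repeat' first | assumption | exact one_mem _ | apply mul_mem | apply inv_mem)

/-- the involutions of the four-group -/
def iV {G : Type*} [Group G] (z q x : G) : Prop := x = z ∨ x = q ∨ x = z * q

noncomputable instance decIV (z q x : PC 2 4) : Decidable (iV z q x) := by
  unfold iV; infer_instance

noncomputable abbrev q0 : PC 2 4 := y0 * z0 * y0⁻¹

theorem f1 : ∀ x ∈ LA, x = 1 ∨ iV z0 q0 x ∨ iV z0 q0 (x * z0 * x⁻¹ * z0⁻¹) := by decide +kernel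
theorem f2 : ∀ x ∈ LA, (x * x = 1 → x = 1 ∨ iV z0 q0 x) ∧ (x * x = 1 ∨ x ^ 3 = 1) ∧
    (x * y0 = y0 * x → x = 1 ∨ x = y0 ∨ x = y0⁻¹) ∧ (z0 * x * z0⁻¹ = x⁻¹ → x * x = 1) ∧
    (x * x = 1 → x * y0 * x⁻¹ = y0 ∨ x * y0 * x⁻¹ = y0⁻¹ → x = 1) ∧
    (x * x = 1 ∨ ∃ v ∈ [1, z0, q0, z0 * q0], x = v * y0 * v⁻¹ ∨ x⁻¹ = v * y0 * v⁻¹) := by
  decide +kernel
theorem f3 : ∀ x ∈ LA, ∀ x' ∈ LA, x * x = 1 ∨ x' * x' = 1 ∨ x' = x ∨ x' = x⁻¹ ∨
    (iV z0 q0 (x * x') ∧ iV z0 q0 (x⁻¹ * x'⁻¹)) ∨ (iV z0 q0 (x * x'⁻¹) ∧ iV z0 q0 (x⁻¹ * x')) := by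
  decide +kernel

/-- a self-centralising four-group with an element of order three acting on it -/
structure Hyp {L : Type*} [Group L] (z q y : L) : Prop where
  z2 : z * z = 1
  z1 : z ≠ 1
  y3 : y ^ 3 = 1
  hq : q = y * z * y⁻¹
  hzq : z * q = y * q * y⁻¹
  ne : q ≠ z
  C : ∀ x, x * z = z * x → x = 1 ∨ iV z q x

variable {L : Type*} [Group L] {z q y : L} (h : Hyp z q y)
include h

theorem Hyp.sat : Sat cA4.RL [z, y] := by
  have e3 : y * y * y = 1 := by rw [← h.y3, pow_three']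
  have e4 : y⁻¹ * z * y = z * q := by
    rw [h.hzq, h.hq, eq_comm, ← mul_inv_eq_one]
    calc _ = y⁻¹ * (y * y * y) * z * y⁻¹ * (y * y * y)⁻¹ * y * z⁻¹ * y := by group
      _ = y⁻¹ * z * y⁻¹ * y * z⁻¹ * y := by rw [e3]; group
      _ = 1 := by group
  have q2 : q * q = 1 := by rw [h.hq, conj_mul, h.z2]; simp
  simp only [Sat, cA4.RL, List.forall_mem_cons]
  simp [atm, h.z2]
  refine ⟨by rw [← e3]; group, ?_⟩
  calc _ = z * (y * z * y⁻¹) * (y⁻¹ * (y * y * y) * z * y) := by group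
    _ = z * q * (y⁻¹ * z * y) := by rw [e3, ← h.hq]; group
    _ = y * (q * q) * y⁻¹ := by rw [e4, h.hzq]; group
    _ = 1 := by rw [q2]; simp

theorem Hyp.fn : Fn (gr [z0, y0] [z, y]) :=
  fn_of_le (cA4.le rfl (sat0.zip h.sat) (K := ⊥) (by simp [cA4.P]) le_bot) card0

omit h in
theorem gz : (z0, z) ∈ gr [z0, y0] [z, y] := mem_clo (by simp)
omit h in
theorem gy : (y0, y) ∈ gr [z0, y0] [z, y] := mem_clo (by simp)
theorem Hyp.gq : (q0, q) ∈ gr [z0, y0] [z, y] := by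
  have := gz (z := z) (y := y)
  have := gy (z := z) (y := y)
  rw [h.hq]; gm

theorem Hyp.iv {x0 : PC 2 4} {x : L} (m : (x0, x) ∈ gr [z0, y0] [z, y]) (e : iV z0 q0 x0) :
    iV z q x :=
  e.imp (h.fn.eq m gz) (Or.imp (h.fn.eq m h.gq) (h.fn.eq m (pm_mul gz h.gq)))

theorem Hyp.cj {x : L} (e : iV z q x) : ∃ c ∈ clo [z, y], x = c * z * c⁻¹ := by
  have hy : y ∈ clo [z, y] := mem_clo (by simp)
  rcases e with rfl | rfl | rfl
  · exact ⟨1, one_mem _, by simp⟩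
  · exact ⟨y, hy, h.hq⟩
  · refine ⟨y * y, mul_mem hy hy, ?_⟩
    rw [h.hzq]
    conv_lhs => rw [h.hq]
    group

theorem Hyp.iv1 {x : L} (e : iV z q x) : x ≠ 1 ∧ x * x = 1 ∧ x ∈ clo [z, y] := by
  obtain ⟨c, hc, rfl⟩ := h.cj e
  exact ⟨by simpa using h.z1, by rw [conj_mul, h.z2]; simp,
    mul_mem (mul_mem hc (mem_clo (by simp))) (inv_mem hc)⟩

theorem Hyp.inj : Inj (gr [z0, y0] [z, y]) := by
  intro x m
  have := gz (z := z) (y := y)
  rcases f1 x (memA x (gr_mem m).1) with e | e | e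
  · exact e
  · exact absurd rfl (h.iv1 (h.iv m e)).1
  · exact absurd (by simp) (h.iv1 (h.iv (x := 1 * z * 1⁻¹ * z⁻¹) (by gm) e)).1

theorem Hyp.card : Nat.card (clo [z, y]) = 12 := by
  rw [card_gr h.fn h.inj]
  exact le_antisymm (cA4.le rfl sat0 (K := ⊥) (by simp [cA4.P]) le_bot).2 card0

theorem Hyp.g2 {x : L} (hx : x ∈ clo [z, y]) : (x * x = 1 → x = 1 ∨ iV z q x) ∧
    (x * x = 1 ∨ x ^ 3 = 1) ∧
    (x * y = y * x → x = 1 ∨ x = y ∨ x = y⁻¹) ∧ (z * x * z⁻¹ = x⁻¹ → x * x = 1) ∧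
    (x * x = 1 → x * y * x⁻¹ = y ∨ x * y * x⁻¹ = y⁻¹ → x = 1) ∧
    (x * x = 1 ∨ ∃ v, (v = 1 ∨ iV z q v) ∧ (x = v * y * v⁻¹ ∨ x⁻¹ = v * y * v⁻¹)) := by
  obtain ⟨x0, h0, m⟩ := gr_left [z0, y0] hx
  obtain ⟨a1, a2, a3, a4, a5, a6⟩ := f2 x0 (memA x0 h0)
  have := gz (z := z) (y := y)
  have := gy (z := z) (y := y)
  have := h.gq
  have F := @h.fn.eq
  have I := @h.inj.eq
  refine ⟨fun e => (a1 (I (by gm) (by gm) e)).imp (F m (by gm)) (h.iv m),
    a2.imp (F (by gm) (by gm)) (F (by gm) (by gm)),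
    fun e => (a3 (I (by gm) (by gm) e)).imp (F m (by gm)) (Or.imp (F m (by gm)) (F m (by gm))),
    fun e => F (by gm) (by gm) (a4 (I (by gm) (by gm) e)),
    fun e e' => F m (by gm) (a5 (I (by gm) (by gm) e)
      (e'.imp (I (by gm) (by gm)) (I (by gm) (by gm)))),
    a6.imp (F (by gm) (by gm)) ?_⟩
  rintro ⟨v, hv, e⟩
  simp only [List.mem_cons, List.not_mem_nil, or_false] at hv
  rcases hv with rfl | rfl | rfl | rfl
  · exact ⟨1, Or.inl rfl, e.imp (F m (by gm)) (F (by gm) (by gm))⟩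
  · exact ⟨z, Or.inr (Or.inl rfl), e.imp (F m (by gm)) (F (by gm) (by gm))⟩
  · exact ⟨q, Or.inr (Or.inr (Or.inl rfl)), e.imp (F m (by gm)) (F (by gm) (by gm))⟩
  · exact ⟨z * q, Or.inr (Or.inr (Or.inr rfl)), e.imp (F m (by gm)) (F (by gm) (by gm))⟩

theorem Hyp.g3 {x x' : L} (hx : x ∈ clo [z, y]) (hx' : x' ∈ clo [z, y]) :
    x * x = 1 ∨ x' * x' = 1 ∨ x' = x ∨ x' = x⁻¹ ∨
    (iV z q (x * x') ∧ iV z q (x⁻¹ * x'⁻¹)) ∨ (iV z q (x * x'⁻¹) ∧ iV z q (x⁻¹ * x')) := by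
  obtain ⟨x0, h0, m⟩ := gr_left [z0, y0] hx
  obtain ⟨x0', h0', m'⟩ := gr_left [z0, y0] hx'
  have F := @h.fn.eq
  exact (f3 x0 (memA x0 h0) x0' (memA x0' h0')).imp (F (by gm) (by gm)) (Or.imp (F (by gm) (by gm))
    (Or.imp (F m' m) (Or.imp (F m' (by gm)) (Or.imp (And.imp (h.iv (by gm)) (h.iv (by gm)))
      (And.imp (h.iv (by gm)) (h.iv (by gm)))))))

theorem Hyp.norm {g v : L} (h1 : iV z q v) (h2 : iV z q (g * v * g⁻¹)) : g ∈ clo [z, y] := by
  obtain ⟨c, hc, rfl⟩ := h.cj h1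
  obtain ⟨c', hc', e⟩ := h.cj h2
  have h3 := h.C (c'⁻¹ * g * c) (by
    calc c'⁻¹ * g * c * z = c'⁻¹ * (g * (c * z * c⁻¹) * g⁻¹) * g * c := by group
      _ = _ := by rw [e]; group)
  have h4 : c'⁻¹ * g * c ∈ clo [z, y] := h3.elim (fun e => e ▸ one_mem _) fun e => (h.iv1 e).2.2
  simpa [mul_assoc] using mul_mem (mul_mem hc' h4) (inv_mem hc)

variable [Finite L]

theorem Hyp.isConj {u : L} (u2 : u * u = 1) (u1 : u ≠ 1) : IsConj z u := by
  rcases dih (mem_top z) (mem_top u) h.z2 u2 with ⟨c, -, -, e⟩ | ⟨w, -, w1, -, h1, h2, -⟩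
  · exact isConj_iff.mpr ⟨c, e⟩
  · obtain ⟨c, -, rfl⟩ := h.cj ((h.C w h1).resolve_left w1)
    have h3 := h.C (c⁻¹ * u * c) (by
      calc c⁻¹ * u * c * z = c⁻¹ * (u * (c * z * c⁻¹)) * c := by group
        _ = _ := by rw [← h2]; group)
    obtain ⟨c', -, e⟩ := h.cj (h3.resolve_left (by simpa [mul_assoc, inv_mul_eq_one] using u1))
    exact isConj_iff.mpr ⟨c * c', by
      calc _ = c * (c' * z * c'⁻¹) * c⁻¹ := by group
        _ = _ := by rw [← e]; group⟩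

theorem Hyp.sq {u x : L} (u2 : u * u = 1) (u1 : u ≠ 1) (e : x * u = u * x) : x * x = 1 := by
  obtain ⟨c, rfl⟩ := isConj_iff.mp (h.isConj u2 u1)
  have h3 := h.C (c⁻¹ * x * c) (by
    calc c⁻¹ * x * c * z = c⁻¹ * (x * (c * z * c⁻¹)) * c := by group
      _ = _ := by rw [e]; group)
  have h4 : (c⁻¹ * x * c) * (c⁻¹ * x * c) = 1 := h3.elim (fun e => by simp [e]) fun e => (h.iv1 e).2.1
  calc x * x = c * ((c⁻¹ * x * c) * (c⁻¹ * x * c)) * c⁻¹ := by group
    _ = 1 := by rw [h4]; simp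

theorem Hyp.y2 : y * y ≠ 1 := fun e => by
  have : y = 1 := by rw [← h.y3, pow_three', e, one_mul]
  exact h.ne (by rw [h.hq, this]; simp)

/-- elements of `A` inverted by an involution outside -/
theorem Hyp.inverted {u : L} (hu : u ∉ clo [z, y]) {x : L} (hx : x ∈ clo [z, y])
    (e : u * x * u⁻¹ = x⁻¹) : (x * x = 1 → x = 1) ∧
      ∀ x' ∈ clo [z, y], u * x' * u⁻¹ = x'⁻¹ → x = 1 ∨ x' = 1 ∨ x' = x ∨ x' = x⁻¹ := by
  have k : ∀ x ∈ clo [z, y], u * x * u⁻¹ = x⁻¹ → x * x = 1 → x = 1 := fun x hx e x2 => by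
    refine ((h.g2 hx).1 x2).resolve_right fun h1 => hu (h.norm h1 ?_)
    rwa [e, inv_eq_of_sq x2]
  refine ⟨k x hx e, fun x' hx' e' => ?_⟩
  rcases h.g3 hx hx' with h1 | h1 | h1 | h1 | h1 | h1
  · exact Or.inl (k x hx e h1)
  · exact Or.inr (Or.inl (k x' hx' e' h1))
  · tauto
  · tauto
  · exact absurd (h.norm h1.1 (by rw [← conj_mul, e, e']; exact h1.2)) hu
  · exact absurd (h.norm h1.1 (by rw [← conj_mul, ← conj_inv, e, e', inv_inv]; exact h1.2)) hu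

theorem Hyp.cardV : Nat.card (centralizer ({z} : Set L)) = 4 := by
  classical
  have h1 := h.iv1 (x := q) (Or.inr (Or.inl rfl))
  have h2 := h.iv1 (x := z * q) (Or.inr (Or.inr rfl))
  have h3 : q * z = z * q := by
    rw [← inv_eq_of_sq h2.2.1, mul_inv_rev, inv_eq_of_sq h1.2.1, inv_eq_of_sq h.z2]
  rw [Nat.subtype_card {1, z, q, z * q}, Finset.card_eq_four]
  · exact ⟨1, z, q, z * q, h.z1.symm, h1.1.symm, h2.1.symm, h.ne.symm, by simpa using h1.1,
      by simpa using h.z1, rfl⟩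
  · intro x
    rw [mem_centralizer_singleton_iff]
    simp only [Finset.mem_insert, Finset.mem_singleton]
    refine ⟨?_, h.C x⟩
    rintro (rfl | rfl | rfl | rfl) <;> simp [h3, mul_assoc]

open Finset in
theorem Hyp.count : ∃ I : Finset L, (∀ u, u ∈ I ↔ u * u = 1 ∧ u ∉ clo [z, y]) ∧
    4 * (I.card + 3) = Nat.card L ∧
    ∀ u ∈ I, ∃ x ∈ clo [z, y], x ≠ 1 ∧ u * x * u⁻¹ = x⁻¹ := by
  classical
  have := Fintype.ofFinite L
  set I := univ.filter fun u : L => u * u = 1 ∧ u ∉ clo [z, y] with hI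
  have mI : ∀ u, u ∈ I ↔ u * u = 1 ∧ u ∉ clo [z, y] := by simp [hI]
  have h1 := h.iv1 (x := q) (Or.inr (Or.inl rfl))
  have h2 := h.iv1 (x := z * q) (Or.inr (Or.inr rfl))
  have c1 : 4 * (I.card + 3) = Nat.card L := by
    rw [← Inv.card_centralizer_mul_card_class z, h.cardV, Nat.subtype_card (I ∪ {z, q, z * q}),
      card_union_of_disjoint, card_eq_three.mpr
        ⟨z, q, z * q, h.ne.symm, by simpa using h1.1, by simpa using h.z1, rfl⟩]
    · rw [disjoint_right]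
      intro x hx hx'
      exact ((mI x).mp hx').2 (h.iv1 (by simpa [iV] using hx)).2.2
    · intro x
      simp only [mem_union, mI, mem_insert, mem_singleton]
      constructor
      · rintro (⟨a, b⟩ | a)
        · exact h.isConj a (by rintro rfl; exact b (one_mem _))
        · exact h.isConj (h.iv1 a).2.1 (h.iv1 a).1
      · intro a
        obtain ⟨c, rfl⟩ := isConj_iff.mp a
        have a2 : c * z * c⁻¹ * (c * z * c⁻¹) = 1 := by rw [conj_mul, h.z2]; simp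
        by_cases b : c * z * c⁻¹ ∈ clo [z, y]
        · exact Or.inr (((h.g2 b).1 a2).resolve_left (by simpa using h.z1))
        · exact Or.inl ⟨a2, b⟩
  refine ⟨I, mI, c1, ?_⟩
  set A := univ.filter fun u : L => u ∈ clo [z, y] with hA
  have cA : A.card = 12 := by rw [← h.card, Nat.subtype_card A (by simp [hA])]
  have inv : ∀ g, ∀ u ∈ I, ∀ u' ∈ I, u * g ∈ clo [z, y] → u' * g ∈ clo [z, y] →
      u' * u ∈ clo [z, y] ∧ u * (u' * u) * u⁻¹ = (u' * u)⁻¹ := by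
    intro g u hu u' hu' a b
    have a2 := inv_eq_of_sq ((mI u).mp hu).1
    refine ⟨by simpa [mul_assoc, a2] using mul_mem b (inv_mem a), ?_⟩
    rw [mul_inv_rev, a2, inv_eq_of_sq ((mI u').mp hu').1, mul_assoc, mul_assoc, ((mI u).mp hu).1,
      mul_one]
  have le3 : ∀ g ∈ Aᶜ, (I.filter fun u => u * g ∈ clo [z, y]).card ≤ 3 := by
    intro g _
    by_contra hc
    obtain ⟨a, b, c, d, ha, hb, hc, hd, n1, n2, n3, n4, n5, n6⟩ :=
      three_lt_card_iff.mp (not_le.mp hc)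
    simp only [mem_filter] at ha hb hc hd
    have i1 := inv g a ha.1 b hb.1 ha.2 hb.2
    have i2 := inv g a ha.1 c hc.1 ha.2 hc.2
    have i3 := inv g a ha.1 d hd.1 ha.2 hd.2
    have a2 := ((mI a).mp ha.1).1
    have k : ∀ b, a ≠ b → b * a ≠ 1 := fun b n e => n (mul_right_cancel (a2.trans e.symm))
    have j1 := (h.inverted ((mI a).mp ha.1).2 i1.1 i1.2).2
    rcases j1 _ i2.1 i2.2 with e | e | e | e
    · exact k b n1 e
    · exact k c n2 e
    · exact n4 (mul_right_cancel e).symm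
    · rcases j1 _ i3.1 i3.2 with e' | e' | e' | e'
      · exact k b n1 e'
      · exact k d n3 e'
      · exact n5 (mul_right_cancel e').symm
      · exact n6 (mul_right_cancel (e.trans e'.symm))
  have tot : ∑ g ∈ Aᶜ, (I.filter fun u => u * g ∈ clo [z, y]).card = ∑ _g ∈ Aᶜ, 3 := by
    have e1 : ∑ g ∈ Aᶜ, (I.filter fun u => u * g ∈ clo [z, y]).card = ∑ _u ∈ I, 12 := by
      simp only [card_filter]
      rw [sum_comm]
      refine sum_congr rfl fun u hu => ?_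
      rw [← card_filter, ← cA]
      refine card_bij (fun g _ => u * g) (fun g hg => by simpa [hA] using (mem_filter.mp hg).2)
        (fun a _ b _ e => mul_left_cancel e) fun b hb => ⟨u⁻¹ * b, ?_, by simp⟩
      have hb' : b ∈ clo [z, y] := by simpa [hA] using hb
      simp only [hA, mem_filter, mem_compl, mem_univ, true_and, mul_inv_cancel_left, hb', and_true]
      intro c
      exact ((mI u).mp hu).2 (by simpa using inv_mem (mul_mem c (inv_mem hb')))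
    rw [e1, sum_const, sum_const, card_compl, cA, ← Nat.card_eq_fintype_card, ← c1]
    simp only [smul_eq_mul]
    omega
  intro u hu
  have e3 := (sum_eq_sum_iff_of_le le3).mp tot u (by simpa [hA] using ((mI u).mp hu).2)
  obtain ⟨u', h3, h4⟩ := exists_mem_ne (s := I.filter fun u' => u' * u ∈ clo [z, y]) (by omega) u
  rw [mem_filter] at h3
  have := inv u u hu u' h3.1 (by rw [((mI u).mp hu).1]; exact one_mem _) h3.2
  exact ⟨_, this.1, fun e => h4 (mul_right_cancel (e.trans ((mI u).mp hu).1.symm)), this.2⟩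

theorem Hyp.inv_y {u x : L} (hu : u ∉ clo [z, y]) (hx : x ∈ clo [z, y]) (x1 : x ≠ 1)
    (e : u * x * u⁻¹ = x⁻¹) : ∃ v, (v = 1 ∨ iV z q v) ∧ v⁻¹ * u * v * y * (v⁻¹ * u * v)⁻¹ = y⁻¹ := by
  obtain ⟨v, h1, h2⟩ := (h.g2 hx).2.2.2.2.2.resolve_left fun x2 => x1 ((h.inverted hu hx e).1 x2)
  have e2 : u * (v * y * v⁻¹) * u⁻¹ = (v * y * v⁻¹)⁻¹ := by
    rcases h2 with h2 | h2 <;> rw [← h2]
    · exact e
    · rw [← conj_inv, e]
  refine ⟨v, h1, ?_⟩
  calc _ = v⁻¹ * (u * (v * y * v⁻¹) * u⁻¹) * v := by group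
    _ = _ := by rw [e2]; group

open Finset in
theorem Hyp.main : (∀ x, x * y = y * x → x = 1 ∨ x = y ∨ x = y⁻¹) ∧
    ((∀ x, x ∈ clo [z, y]) ∨ ∃ k, k * k = 1 ∧ k * y * k⁻¹ = y⁻¹ ∧ (k * z) ^ 3 = 1 ∧
      k ∉ clo [z, y] ∧ ∀ x, x ∈ clo [z, y, k]) := by
  classical
  have := Fintype.ofFinite L
  obtain ⟨I, mI, c1, hI⟩ := h.count
  have hz : z ∈ clo [z, y] := mem_clo (by simp)
  have hy : y ∈ clo [z, y] := mem_clo (by simp)
  rcases I.eq_empty_or_nonempty with rfl | ⟨u0, hu0⟩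
  · have : clo [z, y] = ⊤ := eq_top_of_card_eq _ (by rw [h.card, ← c1]; rfl)
    have h1 : ∀ x, x ∈ clo [z, y] := fun x => this ▸ mem_top x
    exact ⟨fun x => (h.g2 (h1 x)).2.2.1, Or.inl h1⟩
  have mV : ∀ v, (v = 1 ∨ iV z q v) → v ∈ clo [z, y] ∧ v * v = 1 := fun v hv =>
    hv.elim (fun e => by simp [e]) fun e => ⟨(h.iv1 e).2.2, (h.iv1 e).2.1⟩
  have toJ : ∀ u ∈ I, ∃ v, (v = 1 ∨ iV z q v) ∧ v⁻¹ * u * v ∈ I ∧
      v⁻¹ * u * v * y * (v⁻¹ * u * v)⁻¹ = y⁻¹ := by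
    intro u hu
    obtain ⟨x, h1, h2, h3⟩ := hI u hu
    obtain ⟨v, h4, h5⟩ := h.inv_y ((mI u).mp hu).2 h1 h2 h3
    refine ⟨v, h4, (mI _).mpr ⟨?_, fun c => ((mI u).mp hu).2 ?_⟩, h5⟩
    · calc _ = v⁻¹ * (u * u) * v := by group
        _ = 1 := by rw [((mI u).mp hu).1]; simp
    · simpa [mul_assoc] using mul_mem (mul_mem (mV v h4).1 c) (inv_mem (mV v h4).1)
  obtain ⟨v0, -, k1, k2⟩ := toJ u0 hu0
  generalize v0⁻¹ * u0 * v0 = k at k1 k2
  obtain ⟨kk, kA⟩ := (mI k).mp k1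
  have k0 : k ≠ 1 := by rintro rfl; exact kA (one_mem _)
  have noinv : ∀ c, c * y = y * c → c * c = 1 → c = 1 := fun c e c2 => by
    by_contra c1
    exact h.y2 (h.sq c2 c1 e.symm)
  have kinv : ∀ c ∈ centralizer ({y} : Set L), k * c * k⁻¹ = c⁻¹ := by
    refine (Core.inv_of_fpf_involution (mem_normalizer_fintype fun c hc => ?_) kk ?_).1
    · rw [SetLike.mem_coe, mem_centralizer_singleton_iff] at hc ⊢
      have e : k⁻¹ * y * k = y⁻¹ := by rw [← k2, inv_eq_of_sq kk]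
      have hc' : c * y⁻¹ = y⁻¹ * c := (Commute.inv_right hc).eq
      calc k * c * k⁻¹ * y = k * (c * (k⁻¹ * y * k)) * k⁻¹ := by group
        _ = k * ((k⁻¹ * y * k) * c) * k⁻¹ := by rw [e, hc']
        _ = _ := by group
    · rw [eq_bot_iff]
      rintro c ⟨h1, h2⟩
      exact noinv c (mem_centralizer_singleton_iff.mp h1)
        (h.sq kk k0 (mem_centralizer_singleton_iff.mp h2))
  set C := univ.filter fun c : L => c ∈ centralizer ({y} : Set L) with hC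
  set V := univ.filter fun c : L => c ∈ centralizer ({z} : Set L) with hV
  have cV : V.card = 4 := by rw [← h.cardV, Nat.subtype_card V (by simp [hV])]
  have cC : Nat.card (centralizer ({y} : Set L)) = C.card := Nat.subtype_card C (by simp [hC])
  have q2 := (h.iv1 (x := q) (Or.inr (Or.inl rfl))).2.1
  have zq2 := (h.iv1 (x := z * q) (Or.inr (Or.inr rfl))).2.1
  have qz : q * z = z * q := by
    rw [← inv_eq_of_sq zq2, mul_inv_rev, inv_eq_of_sq q2, inv_eq_of_sq h.z2]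
  have mV2 : ∀ v, v ∈ V ↔ v = 1 ∨ iV z q v := fun v => by
    simp only [hV, mem_filter, mem_univ, true_and, mem_centralizer_singleton_iff]
    refine ⟨h.C v, ?_⟩
    rintro (rfl | rfl | rfl | rfl) <;> simp [qz, mul_assoc]
  have mC : ∀ c, c ∈ C ↔ c * y = y * c := by simp [hC, mem_centralizer_singleton_iff]
  have kc : ∀ c ∈ C, k * c * y * (k * c)⁻¹ = y⁻¹ ∧ k * c * (k * c) = 1 ∧ k * c ∉ clo [z, y] := by
    intro c hc
    have e1 : k * c * y * (k * c)⁻¹ = y⁻¹ := by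
      rw [mul_assoc k c, (mC c).mp hc, ← k2]; group
    have e2 : k * c * (k * c) = 1 := by
      have := kinv c (by simpa [hC] using hc)
      rw [inv_eq_of_sq kk] at this
      rw [← mul_assoc, this]; simp
    refine ⟨e1, e2, fun m => ?_⟩
    have := (h.g2 m).2.2.2.2.1 e2 (Or.inr e1)
    rw [this] at e1
    exact h.y2 (by simpa using mul_eq_one_iff_eq_inv.mpr e1)
  have cI : (V ×ˢ C).card = I.card := by
    refine card_bij (fun p _ => p.1 * (k * p.2) * p.1⁻¹) ?_ ?_ ?_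
    · rintro ⟨v, c⟩ hp
      rw [mem_product, mV2] at hp
      refine (mI _).mpr ⟨by rw [conj_mul, (kc c hp.2).2.1]; simp, fun m => (kc c hp.2).2.2 ?_⟩
      simpa [mul_assoc] using mul_mem (mul_mem (inv_mem (mV v hp.1).1) m) (mV v hp.1).1
    · rintro ⟨v, c⟩ hp ⟨v', c'⟩ hp' e
      rw [mem_product] at hp hp'
      dsimp only at e
      have w1 : v'⁻¹ * v = 1 ∨ iV z q (v'⁻¹ * v) := (mV2 _).mp (by
        simp only [hV, mem_filter, mem_univ, true_and] at hp hp' ⊢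
        exact mul_mem (inv_mem hp'.1) hp.1)
      have w2 : k * c' = v'⁻¹ * v * (k * c) * (v'⁻¹ * v)⁻¹ := by
        calc _ = v'⁻¹ * (v' * (k * c') * v'⁻¹) * v' := by group
          _ = _ := by rw [← e]; group
      generalize hw : v'⁻¹ * v = w at w1 w2
      have w3 : k * c' * (w * y * w⁻¹) * (k * c')⁻¹ = (w * y * w⁻¹)⁻¹ := by
        rw [w2]
        calc _ = w * (k * c * y * (k * c)⁻¹) * w⁻¹ := by group
          _ = _ := by rw [(kc c hp.2).1]; group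
      have w4 := (h.inverted (kc c' hp'.2).2.2 hy (kc c' hp'.2).1).2 _
        (mul_mem (mul_mem (mV w w1).1 hy) (inv_mem (mV w w1).1)) w3
      have y1 : y ≠ 1 := fun e => h.y2 (by simp [e])
      have w5 : w = 1 := (h.g2 (mV w w1).1).2.2.2.2.1 (mV w w1).2
        ((w4.resolve_left y1).resolve_left (by simpa using y1))
      subst w5
      obtain rfl : v' = v := inv_mul_eq_one.mp hw
      simp at w2
      rw [w2]
    · intro u hu
      obtain ⟨v, h1, -, h3⟩ := toJ u hu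
      refine ⟨(v, k⁻¹ * (v⁻¹ * u * v)), mem_product.mpr ⟨(mV2 v).mpr h1, (mC _).mpr ?_⟩, by group⟩
      have e : k⁻¹ * y⁻¹ * k = y := by rw [← k2]; group
      calc _ = k⁻¹ * (v⁻¹ * u * v * y * (v⁻¹ * u * v)⁻¹) * (v⁻¹ * u * v) := by group
        _ = (k⁻¹ * y⁻¹ * k) * (k⁻¹ * (v⁻¹ * u * v)) := by rw [h3]; group
        _ = _ := by rw [e]
  rw [card_product, cV] at cI
  have d1 : C.card ∣ 12 := by
    have h1 := card_subgroup_dvd_card (centralizer ({y} : Set L))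
    rw [cC, ← c1, ← cI] at h1
    exact (Nat.dvd_add_right (Dvd.intro_left 16 rfl)).mp (by convert h1 using 1; ring)
  have d2 : ¬ 2 ∣ C.card := fun d => by
    obtain ⟨c, hc⟩ := exists_prime_orderOf_dvd_card' (G := centralizer ({y} : Set L)) 2 (cC ▸ d)
    have h1 : c * c = 1 := by rw [← pow_two, ← hc, pow_orderOf_eq_one]
    have h2 : c = 1 := Subtype.ext
      (noinv c (mem_centralizer_singleton_iff.mp c.2) (congrArg Subtype.val h1))
    rw [h2, orderOf_one] at hc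
    omega
  have y1 : y ≠ 1 := fun e => h.y2 (by simp [e])
  have sub : ({1, y, y⁻¹} : Finset L) ⊆ C := by
    intro x hx
    simp only [mem_insert, mem_singleton] at hx
    rcases hx with rfl | rfl | rfl <;> simp [mC]
  have c3 : ({1, y, y⁻¹} : Finset L).card = 3 := card_eq_three.mpr
    ⟨1, y, y⁻¹, y1.symm, by simpa using y1, fun e => h.y2 (mul_eq_one_iff_eq_inv.mpr e), rfl⟩
  have d3 := card_le_card sub
  have d4 : C.card = 3 := by
    have := Nat.le_of_dvd (by norm_num) d1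
    rw [c3] at d3
    generalize C.card = m at *
    interval_cases m <;> omega
  refine ⟨fun x hx => by
    have := (mC x).mpr hx
    rw [← eq_of_subset_of_card_le sub (by omega)] at this
    simpa using this, Or.inr ?_⟩
  have zk : k * z * k⁻¹ ∈ I := (mI _).mpr ⟨by rw [conj_mul, h.z2]; simp, fun m =>
    kA (h.norm (Or.inl rfl) (((h.g2 m).1 (by rw [conj_mul, h.z2]; simp)).resolve_left
      (by simpa using h.z1)))⟩
  obtain ⟨x, x1, x2, x3⟩ := hI _ zk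
  have x4 : x ^ 3 = 1 := (h.g2 x1).2.1.resolve_left fun e =>
    x2 ((h.inverted ((mI _).mp zk).2 x1 x3).1 e)
  have b1 : z * (k⁻¹ * x * k) * z⁻¹ = (k⁻¹ * x * k)⁻¹ := by
    calc _ = k⁻¹ * (k * z * k⁻¹ * x * (k * z * k⁻¹)⁻¹) * k := by group
      _ = _ := by rw [x3]; group
  have b3 : (k⁻¹ * x * k) ^ 3 = 1 := by
    have : k⁻¹ * x * k = k⁻¹ * x * k⁻¹⁻¹ := by rw [inv_inv]
    rw [this, conj_pow, x4]; simp
  have b0 : k⁻¹ * x * k ≠ 1 := by simpa [mul_assoc, inv_mul_eq_one] using x2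
  generalize k⁻¹ * x * k = b at b1 b3 b0
  have zb : z * b ∈ I := (mI _).mpr ⟨by
    rw [inv_eq_of_sq h.z2] at b1
    rw [← mul_assoc, b1]; simp, fun m => by
    have m1 : b ∈ clo [z, y] := by simpa using mul_mem (inv_mem hz) m
    have := (h.g2 m1).2.2.2.1 b1
    exact b0 (by rw [← b3, pow_three', this, one_mul])⟩
  obtain ⟨v, h1, h2, h3⟩ := toJ _ zb
  have vz : v * z = z * v := by
    have := (mV2 v).mpr h1
    simpa [hV, mem_centralizer_singleton_iff] using this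
  refine ⟨_, ((mI _).mp h2).1, h3, ?_, ((mI _).mp h2).2, ?_⟩
  · have : v⁻¹ * (z * b) * v * z = v⁻¹ * b⁻¹ * v⁻¹⁻¹ := by
      rw [mul_assoc _ v, vz, ← b1, inv_eq_of_sq h.z2]; group
    rw [this, conj_pow, inv_pow, b3]; simp
  · have hk := ((mI _).mp h2).2
    generalize v⁻¹ * (z * b) * v = k' at hk
    have l1 : clo [z, y] ≤ clo [z, y, k'] := clo_le fun x hx => mem_clo (by simp at hx ⊢; tauto)
    have l2 := card_dvd_of_le l1
    have l3 := card_subgroup_dvd_card (clo [z, y, k'])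
    have l4 : Nat.card (clo [z, y, k']) ≠ 12 := fun e =>
      hk (eq_of_le_of_card_ge l1 (by rw [e, h.card]) ▸ mem_clo (by simp))
    have l5 : Nat.card L = 60 := by omega
    rw [h.card] at l2
    rw [l5] at l3
    have l6 : clo [z, y, k'] = ⊤ := eq_top_of_card_eq _ (by
      have := Nat.le_of_dvd (by norm_num) l3
      obtain ⟨m, hm⟩ := l2
      rw [l5]
      rw [hm] at l3 l4 this ⊢
      have : m ≤ 5 := by omega
      interval_cases m <;> omega)
    exact fun x => l6 ▸ mem_top x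

end A4

end Cfsg.Agent.HJ
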