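/-
Transfer into an elementary abelian Sylow subgroup, and relative forms of the `A₄/A₅` lemma.
-/
import Cfsg.Agent.HJ.Abs1
import Cfsg.Agent.PLoc.Transfer2

set_option autoImplicit false

namespace Cfsg.Agent.HJ

open Subgroup A4
open scoped commutatorElement

variable {G : Type*} [Group G]

theorem transfer_lem [Finite G] {T E V : Subgroup G} (hE : PLoc.IsSylowOf 2 E T)
    (hc : ∀ x ∈ E, ∀ y ∈ E, x * y = y * x) (h2 : ∀ x ∈ E, x * x = 1)
    (hV : ∀ n ∈ T, (∀ x ∈ E, n * x * n⁻¹ ∈ E) → ∀ x ∈ E, x * n * x⁻¹ * n⁻¹ ∈ V) :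
    ∃ K ≤ T, (∀ t ∈ T, ∀ k ∈ K, t * k * t⁻¹ ∈ K) ∧ (∀ x ∈ K, x ∈ E → x ∈ V) ∧
      (∀ t ∈ T, t * t ∈ K) ∧ ∀ t ∈ T, ∃ k ∈ K, ∃ e ∈ E, t = k * e := by
  obtain ⟨S, hS, -⟩ := hE.exists_sylow
  have mS : ∀ x : T, x ∈ (S : Subgroup T) ↔ (x : G) ∈ E := fun x => by rw [hS, mem_subgroupOf]
  have : IsMulCommutative S := PLoc.isMulCommutative_of_forall fun x hx y hy =>
    Subtype.ext (hc _ ((mS x).mp hx) _ ((mS y).mp hy))
  let φ := (S : Subgroup T).transferFocal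
  refine ⟨φ.ker.map T.subtype, map_subtype_le _, ?_, ?_, fun t ht => ?_, fun t ht => ?_⟩
  · rintro t ht _ ⟨k, hk, rfl⟩
    exact ⟨_, (MonoidHom.normal_ker φ).conj_mem k hk ⟨t, ht⟩, rfl⟩
  · rintro _ ⟨k, hk, rfl⟩ hx
    have h1 : k ∈ (S : Subgroup T).focalSubgroup :=
      ker_transferFocal_inf_eq_focalSubgroup S ▸ ⟨hk, (mS k).mpr hx⟩
    refine (closure_le (V.subgroupOf T)).mpr ?_ h1
    rintro _ ⟨h3, x, h4, u, rfl⟩
    obtain ⟨n, h5, h6⟩ := S.conj_eq_normalizer_conj_of_mem x⁻¹ u⁻¹ (inv_mem h4) (show _ ∈ (S : Subgroup T) by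
      simpa [commutatorElement_def, mul_assoc] using mul_mem (inv_mem h4) h3)
    have h7 := hV n⁻¹ (inv_mem n.2) (fun y hy => (mS _).mp
      ((mem_normalizer_iff.mp (inv_mem h5) ⟨y, hE.le hy⟩).mp ((mS _).mpr hy))) x ((mS x).mp h4)
    have h8 : ⁅x, u⁆ = x * n⁻¹ * x⁻¹ * n⁻¹⁻¹ := by
      rw [inv_inv] at h6 ⊢
      rw [commutatorElement_def, mul_assoc x, mul_assoc x, h6]; group
    show ((⁅x, u⁆ : T) : G) ∈ V
    rw [h8]; exact h7
  · refine ⟨⟨t, ht⟩ * ⟨t, ht⟩, ?_, rfl⟩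
    obtain ⟨e, he⟩ := QuotientGroup.mk_surjective (φ ⟨t, ht⟩)
    show φ _ = 1
    rw [map_mul, ← he, ← QuotientGroup.mk_mul,
      show e * e = 1 from Subtype.ext (Subtype.ext (h2 _ ((mS _).mp e.2))), QuotientGroup.mk_one]
  · obtain ⟨x, hx⟩ := focalSubgroupOf.pow_index_surjective S (φ ⟨t, ht⟩)
    obtain ⟨e, rfl⟩ := QuotientGroup.mk_surjective x
    refine ⟨t * (e : T)⁻¹, ⟨⟨t, ht⟩ * (e : T)⁻¹, ?_, rfl⟩, e, (mS _).mp e.2, by simp⟩
    show φ _ = 1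
    rw [map_mul, map_inv, ← hx, show φ e = _ from transferFocal_eq_pow _ e, mul_inv_cancel]

theorem memV {z q : G} (z2 : z * z = 1) (q2 : q * q = 1) (qz : q * z = z * q) :
    ∀ x ∈ clo [z, q], x = 1 ∨ iV z q x := fun x hx => by
  have := mem_list_of_closed (gs := [z, q]) (L := [1, z, q, z * q]) (by simp) (by
    simp [inv_eq_of_sq z2, inv_eq_of_sq q2, z2, q2, qz, mul_assoc, ← mul_assoc z z]) x hx
  simpa [iV] using this

theorem iV_mem {z q x : G} (h : iV z q x) : x ∈ clo [z, q] := by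
  rcases h with rfl | rfl | rfl
  · exact mem_clo (by simp)
  · exact mem_clo (by simp)
  · exact mul_mem (mem_clo (by simp)) (mem_clo (by simp))

theorem A4.sub [Finite G] {K : Subgroup G} {z q y : G} (mz : z ∈ K) (my : y ∈ K) (z2 : z * z = 1)
    (z1 : z ≠ 1) (y3 : y ^ 3 = 1) (hq : q = y * z * y⁻¹) (hzq : z * q = y * q * y⁻¹) (ne : q ≠ z)
    (C : ∀ x ∈ K, x * z = z * x → x = 1 ∨ iV z q x) :
    (∀ x ∈ K, x * y = y * x → x = 1 ∨ x = y ∨ x = y⁻¹) ∧ ((∀ x ∈ K, x ∈ clo [z, y]) ∨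
      ∃ k ∈ K, k * k = 1 ∧ k * y * k⁻¹ = y⁻¹ ∧ (k * z) ^ 3 = 1 ∧ ∀ x ∈ K, x ∈ clo [z, y, k]) := by
  have mq : q ∈ K := hq ▸ mul_mem (mul_mem my mz) (inv_mem my)
  have h : Hyp (L := K) ⟨z, mz⟩ ⟨q, mq⟩ ⟨y, my⟩ := ⟨Subtype.ext z2, fun e => z1 (congrArg Subtype.val e),
    Subtype.ext y3, Subtype.ext hq, Subtype.ext hzq, fun e => ne (congrArg Subtype.val e),
    fun x e => (C x x.2 (congrArg Subtype.val e)).imp Subtype.ext
      (Or.imp Subtype.ext (Or.imp Subtype.ext Subtype.ext))⟩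
  obtain ⟨h1, h2⟩ := h.main
  refine ⟨fun x hx e => (h1 ⟨x, hx⟩ (Subtype.ext e)).imp (congrArg Subtype.val)
    (Or.imp (congrArg Subtype.val) (congrArg Subtype.val)), h2.imp (fun h x hx => ?_) ?_⟩
  · have := mem_map_of_mem K.subtype (h ⟨x, hx⟩)
    rwa [clo_map] at this
  · rintro ⟨k, k1, k2, k3, -, k4⟩
    refine ⟨k, k.2, congrArg Subtype.val k1, congrArg Subtype.val k2, congrArg Subtype.val k3,
      fun x hx => ?_⟩
    have := mem_map_of_mem K.subtype (k4 ⟨x, hx⟩)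
    rwa [clo_map] at this

theorem mem_zp3 {y v : G} (y3 : y ^ 3 = 1) (h : v ∈ zpowers y) : v = 1 ∨ v = y ∨ v = y⁻¹ := by
  have e1 : y * y = y⁻¹ := by rw [eq_inv_iff_mul_eq_one, ← y3, pow_three']
  have e2 : y⁻¹ * y⁻¹ = y := by rw [← mul_inv_rev, e1, inv_inv]
  rw [zpowers_eq_closure] at h
  have := mem_list_of_closed (gs := [y]) (L := [1, y, y⁻¹]) (by simp) (by simp [e1, e2]) v
    (by simpa [clo] using h)
  simpa using this

theorem eq_one_of_sq_cube {v : G} (h2 : v * v = 1) (h3 : v ^ 3 = 1) : v = 1 := by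
  rwa [pow_three', h2, one_mul] at h3

theorem A4.quot [Finite G] {y a c d : G} (y3 : y ^ 3 = 1) (ay : a * y = y * a) (dy : d * y = y * d)
    (a2 : a * a = 1) (d3 : d ^ 3 = 1) (hc : c = d * a * d⁻¹) (hac : a * c = d * c * d⁻¹)
    (a1 : a ≠ 1) (ne : c ≠ a)
    (C : ∀ x, x * y = y * x → x * a = a * x → ∃ w, (w = 1 ∨ iV a c w) ∧ w⁻¹ * x ∈ zpowers y) :
    ∀ x, x * y = y * x → x * d = d * x →
      ∃ v, (v = 1 ∨ v = y ∨ v = y⁻¹) ∧ (x = v ∨ x = d * v ∨ x = d⁻¹ * v) := by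
  let Y := centralizer ({y} : Set G)
  have mY : ∀ {x}, x * y = y * x → x ∈ Y := mem_centralizer_singleton_iff.mpr
  let N := (zpowers y).subgroupOf Y
  have cN : ∀ v ∈ zpowers y, ∀ x ∈ Y, x * v = v * x := fun v hv x hx => by
    obtain ⟨n, rfl⟩ := mem_zpowers_iff.mp hv
    exact (Commute.zpow_right (mem_centralizer_singleton_iff.mp hx) n).eq
  have : N.Normal := ⟨fun v hv x => by
    rw [show x * v * x⁻¹ = v from Subtype.ext (mul_inv_eq_iff_eq_mul.mpr (cN v hv x x.2))]; exact hv⟩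
  have N1 : ∀ v ∈ zpowers y, v * v = 1 → v = 1 := fun v hv e => eq_one_of_sq_cube e (by
    obtain ⟨n, rfl⟩ := mem_zpowers_iff.mp hv
    rw [← zpow_natCast, ← zpow_mul, mul_comm, zpow_mul, zpow_natCast, y3, one_zpow])
  have mc : c ∈ Y := hc ▸ mul_mem (mul_mem (mY dy) (mY ay)) (inv_mem (mY dy))
  let π := QuotientGroup.mk' N
  have eqi : ∀ x x' : Y, π x = π x' ↔ (x : G)⁻¹ * x' ∈ zpowers y := fun x x' => QuotientGroup.eq
  have c2 : c * c = 1 := by rw [hc, conj_mul, a2]; simp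
  have h : Hyp (π ⟨a, mY ay⟩) (π ⟨c, mc⟩) (π ⟨d, mY dy⟩) := by
    refine ⟨?_, fun e => a1 ?_, ?_, ?_, ?_, fun e => ne ?_, fun x e => ?_⟩
    · rw [← map_mul, show (⟨a, mY ay⟩ * ⟨a, mY ay⟩ : Y) = 1 from Subtype.ext a2, map_one]
    · exact N1 a (by simpa using (eqi 1 _).mp (e.symm ▸ map_one π)) a2
    · rw [← map_pow, show (⟨d, mY dy⟩ ^ 3 : Y) = 1 from Subtype.ext d3, map_one]
    · rw [← map_inv, ← map_mul, ← map_mul]; exact congrArg π (Subtype.ext hc)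
    · rw [← map_inv, ← map_mul, ← map_mul, ← map_mul]; exact congrArg π (Subtype.ext hac)
    · have := N1 _ ((eqi _ _).mp e.symm) (by
        show a⁻¹ * c * (a⁻¹ * c) = 1
        rw [inv_eq_of_sq a2, hac, conj_mul, c2]; simp)
      exact (inv_mul_eq_one.mp this).symm
    · obtain ⟨x, rfl⟩ := QuotientGroup.mk'_surjective N x
      rw [← map_mul, ← map_mul] at e
      have e1 : ((x : G) * a)⁻¹ * (a * x) ∈ zpowers y := (eqi _ _).mp e
      have e2 := N1 _ e1 (by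
        have := cN _ e1 a (mY ay)
        generalize hv : ((x : G) * a)⁻¹ * (a * x) = v at *
        have e3 : (x : G)⁻¹ * a * x = a * v := by rw [← hv]; group
        have e4 : a * v * (a * v) = 1 := by
          rw [← e3]; simp [mul_assoc, ← mul_assoc a a, a2]
        rwa [mul_assoc, ← mul_assoc v, ← this, ← mul_assoc, ← mul_assoc, a2, one_mul] at e4)
      obtain ⟨w, h1, h2⟩ := C x (mem_centralizer_singleton_iff.mp x.2) (inv_mul_eq_one.mp e2)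
      rcases h1 with rfl | rfl | rfl | rfl
      · exact Or.inl (((eqi 1 x).mpr h2).symm.trans (map_one π))
      · exact Or.inr (Or.inl ((eqi ⟨_, _⟩ x).mpr h2).symm)
      · exact Or.inr (Or.inr (Or.inl ((eqi ⟨_, _⟩ x).mpr h2).symm))
      · exact Or.inr (Or.inr (Or.inr (((eqi (⟨a, mY ay⟩ * ⟨c, mc⟩) x).mpr h2).symm.trans (map_mul π _ _))))
  intro x h1 h2
  rcases h.main.1 (π ⟨x, mY h1⟩) (by
    rw [← map_mul, ← map_mul]; exact congrArg π (Subtype.ext h2)) with e | e | e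
  · exact ⟨_, mem_zp3 y3 ((eqi 1 _).mp ((map_one π).trans e.symm)), by simp⟩
  · exact ⟨_, mem_zp3 y3 ((eqi _ _).mp e.symm), by simp⟩
  · exact ⟨_, mem_zp3 y3 ((eqi _ _).mp ((map_inv π _).trans e.symm)), by simp⟩

end Cfsg.Agent.HJ
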