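/-
Finite facts about the local subgroups of the permutation group on 100 points.
-/
import Cfsg.Agent.HJ.Data

set_option autoImplicit false
set_option maxRecDepth 100000

namespace Cfsg.Agent.HJ

open A4 (iV)

instance decIV' {G : Type*} [Group G] [DecidableEq G] (z q x : G) : Decidable (iV z q x) := by
  unfold iV; infer_instance

theorem card_le_of_count {G : Type*} [Group G] {K C : Subgroup G} {T : List G} {c : ℕ} {z : G}
    (hK : Le K (T.length * c)) (hC : C ≤ K) (hz : ∀ b ∈ C, b * z = z * b) (hT : ∀ t ∈ T, t ∈ K)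
    (hn : (T.map fun t => t * z * t⁻¹).Nodup) (h0 : T ≠ []) : Nat.card C ≤ c := by
  have := hK.1
  refine Nat.le_of_mul_le_mul_left ((card_ge hC _ (fun t c hc => ?_) hT hn).trans hK.2)
    (List.length_pos_iff.mpr h0)
  rw [mul_assoc t c, hz c hc]; group

theorem comm_clo {G : Type*} [Group G] {gs : List G} {z : G} (h : ∀ x ∈ gs, x * z = z * x) :
    ∀ x ∈ clo gs, x * z = z * x := fun _ hx => Subgroup.mem_centralizer_singleton_iff.mp
  (clo_le (fun x hx => Subgroup.mem_centralizer_singleton_iff.mpr (h x hx)) hx)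

theorem clo_le_clo {G : Type*} [Group G] {gs gs' : List G} {W : List (List ℕ)}
    (h : gs = W.map (ev (atm gs'))) : clo gs ≤ clo gs' := clo_le (list_mem h)

theorem memQ : ∀ x ∈ clo gQ, x ∈ LQ := mem_list_of_closed (by decide +kernel) (by decide +kernel)
theorem memE : ∀ x ∈ clo gE, x ∈ LE := mem_list_of_closed (by decide +kernel) (by decide +kernel)
theorem memD : ∀ x ∈ clo gD, x ∈ LD := mem_list_of_closed (by decide +kernel) (by decide +kernel)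
theorem memA : ∀ x ∈ clo gA, x ∈ LA := mem_list_of_closed (by decide +kernel) (by decide +kernel)

theorem fQ : ∀ x ∈ LQ, (x * x = 1 → x = 1 ∨ x = z0 ∨ x ∈ I10) ∧
    (x = 1 ∨ x = z0 ∨ ∃ w ∈ [q0, r0, s0, t0], x * w * x⁻¹ * w⁻¹ = z0) := by decide +kernel

theorem nQ : ∀ h ∈ gH, ∀ x ∈ gQ, h * x * h⁻¹ ∈ LQ := by decide +kernel

/-- possible images of the generators of `Q` -/
noncomputable def L4 : List (Γ × Γ × Γ × Γ) :=
  I10.flatMap fun a => (I10.filter fun b => b ≠ a ∧ b ≠ z0 * a).flatMap fun b =>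
    (I10.filter fun c => (c ≠ a ∧ c ≠ z0 * a) ∧ c ≠ b ∧ c ≠ z0 * b).flatMap fun c =>
      (I10.filter fun d => (d ≠ a ∧ d ≠ z0 * a) ∧ (d ≠ b ∧ d ≠ z0 * b) ∧ d ≠ c ∧ d ≠ z0 * c).map
        fun d => (a, b, c, d)

theorem L4_len : L4.length = 1920 := by decide +kernel

theorem fQ2 : (∀ x ∈ [q0, r0, s0, t0], x * x = 1 ∧ x ≠ 1 ∧ x ≠ z0) ∧ z0 ≠ 1 ∧
    (r0 ≠ q0 ∧ r0 ≠ z0 * q0) ∧ (s0 ≠ q0 ∧ s0 ≠ z0 * q0) ∧ (s0 ≠ r0 ∧ s0 ≠ z0 * r0) ∧
    (t0 ≠ q0 ∧ t0 ≠ z0 * q0) ∧ (t0 ≠ r0 ∧ t0 ≠ z0 * r0) ∧ (t0 ≠ s0 ∧ t0 ≠ z0 * s0) ∧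
    z0 = q0 * r0 * q0 * r0 := by decide +kernel

theorem fH : ∀ x ∈ clo gH, (x * x = 1 ∨ x * x = z0 → x ∈ LQ ∨ x ∈ I120) ∧
    (x * q0 = q0 * x → x * r0 = r0 * x → x * s0 = s0 * x → x * t0 = t0 * x → x = 1 ∨ x = z0) ∧
    (x * d0 = d0 * x → x ∈ LD) := enumH.all (by decide +kernel)

theorem zH : ∀ x ∈ clo gH, x * z0 = z0 * x := comm_clo (by decide +kernel)

theorem C_le : clo gC ≤ clo gH := clo_le_clo (W := [[0], [8], [2, 4], [10], [14]]) (by decide +kernel)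
theorem E_le : clo gE ≤ clo gH := clo_le_clo (W := [[8], [0], [10], [14, 10, 15]]) (by decide +kernel)
theorem B_le : clo gB ≤ clo gM :=
  clo_le_clo (W := [[0], [2], [4], [6], [8], [10], [12]]) (by decide +kernel)
theorem A_le : clo gA ≤ clo gM :=
  clo_le_clo (W := [[8], [0], [10], [12, 10, 13], [14, 0, 2, 4, 6, 12]]) (by decide +kernel)
theorem D_le : clo gD ≤ clo gX := clo_le_clo (W := [[0], [2], [4], [6]]) (by decide +kernel)

theorem len10 : T10.length * 192 = 1920 := by decide +kernel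
theorem len120 : T120.length * 16 = 1920 := by decide +kernel
theorem len24 : T24.length * 48 = 1152 := by decide +kernel
theorem len45 : T45.length * 24 = 1080 := by decide +kernel
theorem nd10 : I10.Nodup := by decide +kernel

theorem centC : ∀ x ∈ clo gH, x * q0 = q0 * x → x ∈ clo gC :=
  cent_of_count (len10 ▸ leH satH) C_le (comm_clo (by decide +kernel)) chC_card T10_mem
    (I10_eq ▸ nd10) (by decide +kernel)

theorem enumC : PC.Enum (clo gC) chC :=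
  PC.Enum.of chC_ok chC_mem (chC_len ▸ card_le_of_count (len10 ▸ leH satH) C_le
    (comm_clo (by decide +kernel)) T10_mem (I10_eq ▸ nd10) (by decide +kernel))

theorem centE : ∀ x ∈ clo gH, x * a0 = a0 * x → x ∈ clo gE :=
  cent_of_count (len120 ▸ leH satH) E_le (comm_clo (by decide +kernel)) chE_card T120_mem
    (I120_eq ▸ by decide +kernel) (by decide +kernel)

theorem centB : ∀ x ∈ clo gM, x * z0 = z0 * x → x ∈ clo gB :=
  cent_of_count (T := [1, g0, q0 * r0 * s0 * t0 * g0]) (leM satM) B_le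
    (comm_clo (by decide +kernel)) chB_card
    (list_mem (W := [[], [14], [0, 2, 4, 6, 14]]) (by decide +kernel)) (by decide +kernel) (by simp)

theorem centA : ∀ x ∈ clo gM, x * a0 = a0 * x → x ∈ clo gA :=
  cent_of_count (len24 ▸ leM satM) A_le (comm_clo (by decide +kernel)) chA_card T24_mem
    (by decide +kernel) (by decide +kernel)

theorem centD : ∀ x ∈ clo gX, x * z0 = z0 * x → x ∈ clo gD :=
  cent_of_count (len45 ▸ leX satX) D_le (comm_clo (by decide +kernel)) chD_card T45_mem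
    (I45_eq ▸ by decide +kernel) (by decide +kernel)

theorem fC : ∀ x ∈ clo gC,
    (x ^ 3 = 1 → x = 1 ∨ ∃ c ∈ T16, c * x * c⁻¹ = d0 ∨ c * x * c⁻¹ = d0⁻¹) ∧
    (x * d0 * x⁻¹ = d0 ∨ x * d0 * x⁻¹ = d0⁻¹ → x * d0 = d0 * x ∧ (x ^ 3 = 1 ∨ iV z0 q0 (x ^ 3)) ∧
      (x ^ 3 = 1 → x = 1 ∨ x = d0 ∨ x = d0⁻¹)) ∧
    (x * x = q0 → x * (d0 * x * d0⁻¹) * (d0⁻¹ * x * d0) = 1 →
      ((u0 * (d0 * x * d0⁻¹)) ^ 2 = 1 ↔ (x * (d0 * u0 * d0⁻¹)) ^ 2 = 1) →
        x * (r0 * (a0 * t0)) = 1) := enumC.all (by decide +kernel)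

theorem fE : ∀ x ∈ LE, x * x = 1 ∧ (x = 1 ∨ iV z0 q0 x ∨ x ∈ I120) ∧ (∀ y ∈ gE, x * y = y * x) ∧
    ∃ v ∈ [1, z0, q0, z0 * q0], ∃ w ∈ [1, a0, c0, a0 * c0], x = v * w := by decide +kernel

theorem fA : ∀ n ∈ LA, iV z0 q0 (n * z0 * n⁻¹) ∧ (n ∈ LE ∨ n * n ≠ 1 ∧ (n * n) ^ 3 = 1) ∧
    ∀ x ∈ LE, x * n * x⁻¹ * n⁻¹ = 1 ∨ iV z0 q0 (x * n * x⁻¹ * n⁻¹) := by decide +kernel

theorem fX : ∀ x ∈ clo gX, x * x = 1 → x = 1 ∨ x ∈ I45 := enumX.all (by decide +kernel)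

/-- visibly of even order -/
def Ev {G : Type*} [Group G] (w : G) : Prop := (w ^ 3) ^ 5 ≠ 1 ∧ ((w ^ 3) ^ 5) ^ 4 = 1

instance decEv {G : Type*} [Group G] [DecidableEq G] (w : G) : Decidable (Ev w) := by
  unfold Ev; infer_instance

theorem fX2 : ∀ x ∈ LD, Ev (g0 * x) ∨ ∀ x' ∈ LD, Ev (k0 * p0 * z0 * k0 * x') ∨
    Ev (g0 * x * (k0 * p0 * z0 * k0 * x')) ∨ Ev (g0 * x * (k0 * p0 * z0 * k0 * x')⁻¹) := by
  decide +kernel

theorem fX3 : ∀ x ∈ LD, (k0 * p0 * z0 * k0 * x) * (k0 * p0 * z0 * k0 * x) = 1 →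
    (k0 * p0 * z0 * k0 * x * q0) ^ 3 = 1 →
    k0 * p0 * z0 * k0 * x * (p0 * (k0 * (z0 * (k0 * (p0 * k0))))) = 1 ∨
      k0 * p0 * z0 * k0 * x * (k0 * (z0 * (p0 * k0))) = 1 := by decide +kernel

end Cfsg.Agent.HJ
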