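/-
Groups with an involution centraliser of shape `2^{1+4}.A₅`: the structure of the centraliser.
-/
import Cfsg.Agent.HJ.Facts
import Cfsg.Agent.PLoc.Transfer2

set_option autoImplicit false

namespace Cfsg.Agent.HJ

open Subgroup A4

variable {G : Type*} [Group G]

/-- the hypothesis on the centraliser of `z` -/
structure HypQ (z : G) (Q : Subgroup G) : Prop where
  z2 : z * z = 1
  z1 : z ≠ 1
  le : ∀ x ∈ Q, x * z = z * x
  norm : ∀ h, h * z = z * h → ∀ x ∈ Q, h * x * h⁻¹ ∈ Q
  card : Nat.card Q = 32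
  cardH : Nat.card (centralizer ({z} : Set G)) = 1920
  cent : ∀ h, h * z = z * h → (∀ x ∈ Q, h * x = x * h) → h = 1 ∨ h = z
  zmem : z ∈ Q
  comm : ∀ x ∈ Q, ∀ y ∈ Q, x * y = y * x ∨ x * y = y * x * z
  sq : ∀ x ∈ Q, x * x = 1 ∨ x * x = z

theorem exists_not_mem_list {Q : Subgroup G} [Finite Q] (L : List G) (h : L.length < Nat.card Q) :
    ∃ x ∈ Q, x ∉ L := by
  classical
  by_contra hc
  push Not at hc
  have := Nat.card_le_card_of_injective (fun x : Q => (⟨x.1, List.mem_toFinset.mpr (hc x x.2)⟩ : L.toFinset))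
    fun a b e => Subtype.ext (congrArg (fun y : L.toFinset => (y : G)) e)
  rw [Nat.card_eq_finsetCard] at this
  have := List.toFinset_card_le L
  omega

variable [Finite G] {z : G} {Q : Subgroup G} (h : HypQ z Q)
include h

theorem HypQ.exists_inv : ∃ u ∈ Q, u * u = 1 ∧ u ≠ 1 ∧ u ≠ z := by
  by_contra hc
  push Not at hc
  have sq : ∀ x ∈ Q, x ≠ 1 → x ≠ z → x * x = z := fun x hx h1 h2 =>
    (h.sq x hx).resolve_left fun e => h2 (hc x hx e h1)
  obtain ⟨x, hx, nx⟩ := exists_not_mem_list (Q := Q) [1, z] (by rw [h.card]; simp)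
  simp only [List.mem_cons, List.not_mem_nil, or_false, not_or] at nx
  have x2 := sq x hx nx.1 nx.2
  have key : ∀ y ∈ Q, x * y = y * x → y ∈ [1, z, x⁻¹, x⁻¹ * z] := by
    intro y hy e
    by_contra ny
    simp only [List.mem_cons, List.not_mem_nil, or_false, not_or] at ny
    have y2 := sq y hy ny.1 ny.2.1
    have := hc (x * y) (Q.mul_mem hx hy) (by
      calc x * y * (x * y) = x * (y * x) * y := by group
        _ = x * x * (y * y) := by rw [← e]; group
        _ = 1 := by rw [x2, y2, h.z2]) (fun e => ny.2.2.1 (eq_inv_of_mul_eq_one_right e))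
    exact ny.2.2.2 (by rw [← this]; simp)
  obtain ⟨y, hy, ny⟩ := exists_not_mem_list (Q := Q) [1, z, x⁻¹, x⁻¹ * z] (by rw [h.card]; simp)
  obtain ⟨w, hw, nw⟩ := exists_not_mem_list (Q := Q)
    ([1, z, x⁻¹, x⁻¹ * z] ++ [1, z, x⁻¹, x⁻¹ * z].map (y⁻¹ * ·)) (by rw [h.card]; simp)
  rw [List.mem_append, not_or] at nw
  have e1 := (h.comm x hx y hy).resolve_left fun e => ny (key y hy e)
  have e2 := (h.comm x hx w hw).resolve_left fun e => nw.1 (key w hw e)
  refine nw.2 (List.mem_map.mpr ⟨y * w, key _ (Q.mul_mem hy hw) ?_, by simp⟩)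
  calc x * (y * w) = y * (x * (z * w)) := by rw [← mul_assoc, e1]; group
    _ = y * (x * w * z) := by rw [← h.le w hw, mul_assoc]
    _ = y * w * x * (z * z) := by rw [e2]; group
    _ = _ := by rw [h.z2, mul_one]

theorem HypQ.exists_gens : ∃ q r s t, q ∈ Q ∧ r ∈ Q ∧ s ∈ Q ∧ t ∈ Q ∧ Sat cQ.RL [q, r, s, t, z] := by
  classical
  have : Fact (Nat.Prime 5) := ⟨by norm_num⟩
  obtain ⟨f, hf, f5⟩ := PLoc.exists_mem_orderOf_eq_prime (H := centralizer ({z} : Set G))
    (p := 5) (by norm_num) (by rw [h.cardH]; norm_num)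
  rw [mem_centralizer_singleton_iff] at hf
  have f5' : f ^ 5 = 1 := by rw [← f5, pow_orderOf_eq_one]
  have hP : IsPGroup 5 (zpowers f) := PLoc.isPGroup_zpowers (k := 1) (by simpa using f5')
  have md : ∀ W : Subgroup G, W ≤ Q → (∀ x ∈ W, f * x * f⁻¹ ∈ W) →
      Nat.card W ≡ Nat.card (W ⊓ centralizer {f} : Subgroup G) [MOD 5] := fun W _ hW => by
    rw [← PLoc.centralizer_zpowers]
    exact PLoc.card_modEq_card_inf_centralizer hP
      (zpowers_le.mpr (PLoc.mem_normalizer_of_conj_mem hW))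
  have dv : ∀ W : Subgroup G, W ≤ Q → Nat.card W % 5 = 2 → Nat.card W = 2 ∨ W = Q := by
    intro W hW e
    have d := card_dvd_of_le hW
    rw [h.card] at d
    have : Nat.card W = 2 ∨ Nat.card W = 32 := by
      have := Nat.le_of_dvd (by norm_num) d
      generalize Nat.card W = m at *
      interval_cases m <;> omega
    exact this.imp id fun e => eq_of_le_of_card_ge hW (by rw [e, h.card])
  have two : ∀ W : Subgroup G, z ∈ W → Nat.card W = 2 → ∀ x ∈ W, x = 1 ∨ x = z := by
    intro W hz e x hx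
    have e2 : zpowers z = W := eq_of_le_of_card_ge (zpowers_le.mpr hz) (by
      rw [e, Nat.card_zpowers, orderOf_eq_prime (p := 2) (by rw [pow_two, h.z2]) h.z1])
    rw [← e2, mem_zpowers_iff_mem_range_orderOf,
      orderOf_eq_prime (p := 2) (by rw [pow_two, h.z2]) h.z1] at hx
    simp at hx
    obtain ⟨a, h1, rfl⟩ := hx
    interval_cases a <;> simp
  have c1 := md Q le_rfl (h.norm f hf)
  have c2 : Nat.card (Q ⊓ centralizer {f} : Subgroup G) = 2 := by
    refine (dv _ inf_le_left (by rw [← c1, h.card])).resolve_right fun e => ?_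
    rcases h.cent f hf (fun x hx => by
      rw [← e] at hx; exact (mem_centralizer_singleton_iff.mp hx.2).symm) with e | e
    · rw [e, orderOf_one] at f5; omega
    · rw [e, orderOf_eq_prime (p := 2) (by rw [pow_two, h.z2]) h.z1] at f5; omega
  have fix : ∀ x ∈ Q, f * x = x * f ∨ f * x = x * z * f → x = 1 ∨ x = z := by
    intro x hx e
    refine two (Q ⊓ centralizer {f}) ⟨h.zmem, mem_centralizer_singleton_iff.mpr hf.symm⟩ c2 x
      ⟨hx, mem_centralizer_singleton_iff.mpr ?_⟩
    rcases e with e | e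
    · exact e.symm
    · have e2 : Commute (f * f) x := by
        show f * f * x = x * (f * f)
        rw [mul_assoc, e, ← mul_assoc, ← mul_assoc, e, mul_assoc _ f z, hf]
        simp [mul_assoc, ← mul_assoc z z, h.z2]
      have e3 := e2.pow_left 3
      rw [← pow_two, ← pow_mul, pow_succ, f5', one_mul] at e3
      exact e3.symm.eq
  obtain ⟨u, hu, u2, u1, uz⟩ := h.exists_inv
  set φ := MulAut.conj f with hφ
  have φz : φ z = z := by simp [hφ, hf]
  have φQ : ∀ x ∈ Q, φ x ∈ Q := h.norm f hf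
  have φ5 : φ (φ (φ (φ (φ u)))) = u := by
    have : f * f * f * f * f = 1 := by rw [← f5']; simp [pow_succ]
    calc _ = (f * f * f * f * f) * u * (f * f * f * f * f)⁻¹ := by simp [hφ, mul_assoc]
      _ = u := by simp [this]
  have tr : ∀ {x y e : G}, φ e = e → x * y = y * x * e → φ x * φ y = φ y * φ x * e :=
    fun he hh => by rw [← map_mul, hh, map_mul, map_mul, he]
  have sq' : ∀ {x : G}, x * x = 1 → φ x * φ x = 1 := fun hh => by rw [← map_mul, hh, map_one]
  have m1 := φQ _ hu
  have m2 := φQ _ m1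
  have m3 := φQ _ m2
  have m4 := φQ _ m3
  have s1 := sq' u2
  have s2 := sq' s1
  have s3 := sq' s2
  have s4 := sq' s3
  have main : ∀ α β : G, (α = 1 ∨ α = z) → (β = 1 ∨ β = z) → φ u * u = u * φ u * α →
      φ (φ u) * u = u * φ (φ u) * β → α = z ∧ β = z := by
    intro α β hα hβ a0 b0
    have φα : φ α = α := by rcases hα with e | e <;> simp [e, φz]
    have φβ : φ β = β := by rcases hβ with e | e <;> simp [e, φz]
    have a1 := tr φα a0
    have a2 := tr φα a1
    have a3 := tr φα a2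
    have a4 := tr φα a3
    have b1 := tr φβ b0
    have b2 := tr φβ b1
    have b3 := tr φβ b2
    have b4 := tr φβ b3
    rw [φ5] at a4 b3 b4
    have hw : φ (u * φ u * φ (φ u) * φ (φ (φ u)) * φ (φ (φ (φ u)))) =
        u⁻¹ * (u * φ u * φ (φ u) * φ (φ (φ u)) * φ (φ (φ (φ u)))) * u := by
      simp only [map_mul, φ5]; group
    have φW : ∀ x ∈ clo [u, φ u, φ (φ u), φ (φ (φ u)), φ (φ (φ (φ u))), z],
        f * x * f⁻¹ ∈ clo [u, φ u, φ (φ u), φ (φ (φ u)), φ (φ (φ (φ u))), z] := by
      intro x hx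
      refine clo_le (K := (clo _).comap φ.toMonoidHom) (fun y hy => mem_clo ?_) hx
      simp only [List.mem_cons, List.not_mem_nil, or_false] at hy
      rcases hy with rfl | rfl | rfl | rfl | rfl | rfl <;> simp [φ5, φz]
    generalize φ (φ (φ (φ u))) = u4 at *
    generalize φ (φ (φ u)) = u3 at *
    generalize φ (φ u) = u2' at *
    generalize φ u = u1' at *
    have mw : u * u1' * u2' * u3 * u4 ∈ Q := by
      repeat' first | assumption | apply mul_mem
    have w2 : (u * u1' * u2' * u3 * u4) * (u * u1' * u2' * u3 * u4) = 1 := by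
      generalize u * u1' * u2' * u3 * u4 = w at *
      have : f * w = w * f ∨ f * w = w * z * f := by
        have e : f * w = u⁻¹ * w * u * f := by rw [← hw]; simp [hφ]
        rcases h.comm w mw u hu with e1 | e1
        · left; rw [e, mul_assoc u⁻¹, e1]; group
        · right; rw [e, mul_assoc u⁻¹, e1]; group
      rcases fix w mw this with rfl | rfl
      · simp
      · exact h.z2
    have zz : ∀ x, z * (z * x) = x := fun x => by rw [← mul_assoc, h.z2, one_mul]
    have zm : ∀ y ∈ Q, ∀ x, z * (y * x) = y * (z * x) := fun y hy x => by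
      rw [← mul_assoc, ← h.le y hy, mul_assoc]
    have sw : ∀ {x y e : G}, x * y = y * x * e → ∀ w, x * (y * w) = y * (x * (e * w)) :=
      fun hh w => by rw [← mul_assoc, hh]; group
    have sw' : ∀ {x y e : G}, (e = 1 ∨ e = z) → x * y = y * x * e → y * x = x * y * e := by
      rintro x y e (rfl | rfl) hh
      · simp [hh]
      · rw [hh, mul_assoc (y * x), h.z2, mul_one]
    have ss : ∀ {x : G}, x * x = 1 → ∀ w, x * (x * w) = w := fun hh w => by
      rw [← mul_assoc, hh, one_mul]
    have a4' := sw' hα a4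
    have b3' := sw' hβ b3
    have b4' := sw' hβ b4
    have w3 : (u * u1' * u2' * u3 * u4) * (u * u1' * u2' * u3 * u4) * 1 = 1 := by rw [w2, mul_one]
    rcases hα with rfl | rfl <;> rcases hβ with rfl | rfl
    · exfalso
      have l : clo [u, u1', u2', u3, u4, z] ≤ Q := clo_le (by simp [*, h.zmem])
      have c3 := md _ l φW
      have c4 : clo [u, u1', u2', u3, u4, z] ⊓ centralizer {f} = Q ⊓ centralizer {f} := by
        refine le_antisymm (inf_le_inf_right _ l) fun x hx => ⟨?_, hx.2⟩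
        rcases two (Q ⊓ centralizer {f}) ⟨h.zmem, mem_centralizer_singleton_iff.mpr hf.symm⟩ c2 x hx with rfl | rfl
        · exact one_mem _
        · exact mem_clo (by simp)
      rw [c4, c2] at c3
      rcases dv _ l c3 with e | e
      · rcases two _ (mem_clo (by simp)) e u (mem_clo (by simp)) with e | e <;> contradiction
      · have := h.cent u (h.le u hu) fun x hx => (comm_clo (gs := [u, u1', u2', u3, u4, z]) (by
          simp only [mul_one] at *
          simp [a0, b0, a4', b3', h.le u hu]) x (e ▸ hx)).symm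
        tauto
    · simp only [mul_assoc, sw a0, sw a1, sw a2, sw a3, sw a4', sw b0, sw b1, sw b2, sw b3', sw b4',
        one_mul, zm _ hu, zm _ m1, zm _ m2, zm _ m3, zm _ m4, zz, ss u2, ss s1, ss s2, ss s3, ss s4] at w3
      exact absurd (by simpa using w3) h.z1
    · simp only [mul_assoc, sw a0, sw a1, sw a2, sw a3, sw a4', sw b0, sw b1, sw b2, sw b3', sw b4',
        one_mul, zm _ hu, zm _ m1, zm _ m2, zm _ m3, zm _ m4, zz, ss u2, ss s1, ss s2, ss s3, ss s4] at w3
      exact absurd (by simpa using w3) h.z1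
    · exact ⟨rfl, rfl⟩
  have a0 : φ u * u = u * φ u * z ∧ φ (φ u) * u = u * φ (φ u) * z := by
    rcases h.comm _ m1 u hu with e | e <;> rcases h.comm _ m2 u hu with e' | e'
    · exact absurd (main 1 1 (by simp) (by simp) (by simpa) (by simpa)).1.symm h.z1
    · exact absurd (main 1 z (by simp) (by simp) (by simpa) e').1.symm h.z1
    · exact absurd (main z 1 (by simp) (by simp) e (by simpa)).2.symm h.z1
    · exact ⟨e, e'⟩
  have a1 := tr φz a0.1
  have a2 := tr φz a1
  have b1 := tr φz a0.2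
  have b3 := tr φz (tr φz b1)
  rw [φ5] at b3
  have k : ∀ {x y : G}, x * x = 1 → y * y = 1 → y ∈ Q → y * x = x * y * z →
      x * (y * (x * (y * z))) = 1 := fun {x y} hx hy my e => by
    rw [← mul_assoc y x, e]
    calc _ = (x * x) * y * (z * y) * z := by group
      _ = (x * x) * (y * y) * (z * z) := by rw [← h.le y my]; group
      _ = 1 := by simp [hx, hy, h.z2]
  have k2 : ∀ {x : G}, x * x = 1 → x ∈ Q → x * (z * (x * z)) = 1 := fun {x} hx mx => by
    rw [← mul_assoc z, ← h.le x mx]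
    calc _ = (x * x) * (z * z) := by group
      _ = 1 := by simp [hx, h.z2]
  refine ⟨u, φ u, φ (φ u), φ (φ (φ u)), hu, m1, m2, m3, ?_⟩
  simp only [Sat, cQ.RL, List.forall_mem_cons]
  simp [atm, u2, s1, s2, s3, h.z2, k u2 s1 m1 a0.1, k u2 s2 m2 a0.2, k s1 s2 m2 a1, k s1 s3 m3 b1,
    k s2 s3 m3 a2, k2 u2 hu, k2 s1 m1, k2 s2 m2, k2 s3 m3]
  refine k u2 s3 m3 ?_
  rw [b3, mul_assoc (_ * _), h.z2, mul_one]

end Cfsg.Agent.HJ
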