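/-
Identification of the centraliser with the concrete group `2^{1+4}:A₅`.
-/
import Cfsg.Agent.HJ.StepA

set_option autoImplicit false

namespace Cfsg.Agent.HJ

open Subgroup A4

theorem mulEquiv_ext_clo {G M : Type*} [Group G] [Group M] {gs : List G} {φ ψ : clo gs →* M}
    (h : ∀ x (hx : x ∈ gs), φ ⟨x, mem_clo hx⟩ = ψ ⟨x, mem_clo hx⟩) : φ = ψ := by
  ext ⟨x, hx⟩
  induction hx using Subgroup.closure_induction with
  | mem x hx => exact h x hx
  | one => exact (map_one φ).trans (map_one ψ).symm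
  | mul x y hx hy ih1 ih2 =>
    exact (map_mul φ ⟨x, hx⟩ ⟨y, hy⟩).trans ((congrArg₂ _ ih1 ih2).trans
      (map_mul ψ ⟨x, hx⟩ ⟨y, hy⟩).symm)
  | inv x hx ih =>
    exact (map_inv φ ⟨x, hx⟩).trans ((congrArg _ ih).trans (map_inv ψ ⟨x, hx⟩).symm)

theorem zQ : ∀ x ∈ clo gQ, x * z0 = z0 * x := comm_clo (by decide +kernel)

theorem card_aut : Nat.card (MulAut (clo gQ)) ≤ 1920 := by
  classical
  obtain ⟨h1, z1, ⟨a1, a2⟩, ⟨a3, a4⟩, ⟨a5, a6⟩, ⟨a7, a8⟩, ⟨a9, a10⟩, ⟨a11, a12⟩, ez⟩ := fQ2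
  let q : clo gQ := ⟨q0, mem_clo (by simp)⟩
  let r : clo gQ := ⟨r0, mem_clo (by simp)⟩
  let s : clo gQ := ⟨s0, mem_clo (by simp)⟩
  let t : clo gQ := ⟨t0, mem_clo (by simp)⟩
  let z : clo gQ := ⟨z0, mem_clo (by simp)⟩
  have hz : ∀ φ : MulAut (clo gQ), φ z = z := fun φ => by
    rcases (fQ _ (memQ _ (φ z).2)).2 with e | e | ⟨w, hw, e⟩
    · exact absurd (congrArg Subtype.val (φ.injective ((Subtype.ext e).trans (map_one φ).symm))) z1
    · exact Subtype.ext e
    · have hw' : w ∈ clo gQ := mem_clo (by simp at hw ⊢; tauto)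
      have : φ z * ⟨w, hw'⟩ = ⟨w, hw'⟩ * φ z := by
        obtain ⟨v, hv⟩ := φ.surjective ⟨w, hw'⟩
        rw [← hv, ← map_mul, ← map_mul]
        exact congrArg φ (Subtype.ext (zQ v v.2).symm)
      have e2 : (φ z : Γ) * w = w * φ z := congrArg Subtype.val this
      rw [e2] at e
      exact absurd (by simpa using e.symm) z1
  have hI : ∀ φ : MulAut (clo gQ), ∀ x : clo gQ, (x : Γ) ∈ [q0, r0, s0, t0] → (φ x : Γ) ∈ I10 := by
    intro φ x hx
    obtain ⟨b1, b2, b3⟩ := h1 x hx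
    have : φ x * φ x = 1 := by rw [← map_mul, show x * x = 1 from Subtype.ext b1, map_one]
    refine (((fQ _ (memQ _ (φ x).2)).1 (congrArg Subtype.val this)).resolve_left fun e => b2 ?_).resolve_left
      fun e => b3 ?_
    · exact congrArg Subtype.val (φ.injective ((Subtype.ext e).trans (map_one φ).symm))
    · exact congrArg Subtype.val (φ.injective ((Subtype.ext e).trans (hz φ).symm))
  have hN : ∀ φ : MulAut (clo gQ), ∀ x y : clo gQ, (y : Γ) ≠ x → (y : Γ) ≠ z0 * x →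
      (φ y : Γ) ≠ φ x ∧ (φ y : Γ) ≠ z0 * φ x := fun φ x y b1 b2 =>
    ⟨fun e => b1 (congrArg Subtype.val (φ.injective (Subtype.ext e))), fun e => b2
      (congrArg Subtype.val (φ.injective (show φ y = φ (z * x) by
        rw [map_mul, hz]; exact Subtype.ext e)))⟩
  let F : MulAut (clo gQ) → L4.toFinset := fun φ => ⟨(φ q, φ r, φ s, φ t), by
    simp only [List.mem_toFinset, L4, List.mem_flatMap, List.mem_filter, List.mem_map,
      decide_eq_true_eq]
    exact ⟨_, hI φ q (by simp [q]), _, ⟨hI φ r (by simp [r]), hN φ q r a1 a2⟩, _,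
      ⟨hI φ s (by simp [s]), hN φ q s a3 a4, hN φ r s a5 a6⟩, _,
      ⟨hI φ t (by simp [t]), hN φ q t a7 a8, hN φ r t a9 a10, hN φ s t a11 a12⟩, rfl⟩⟩
  have hF : Function.Injective F := fun φ ψ e => by
    have e1 := congrArg Subtype.val e
    simp only [F, Prod.mk.injEq] at e1
    have : φ.toMonoidHom = ψ.toMonoidHom := mulEquiv_ext_clo fun x hx => by
      simp only [List.mem_cons, List.not_mem_nil, or_false] at hx
      rcases hx with rfl | rfl | rfl | rfl | rfl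
      · exact Subtype.ext e1.1
      · exact Subtype.ext e1.2.1
      · exact Subtype.ext e1.2.2.1
      · exact Subtype.ext e1.2.2.2
      · exact (hz φ).trans (hz ψ).symm
    exact MulEquiv.toMonoidHom_injective this
  have := Nat.card_le_card_of_injective F hF
  rw [Nat.card_eq_finsetCard] at this
  exact this.trans ((List.toFinset_card_le _).trans L4_len.le)

variable {G : Type*} [Group G]

theorem norm_clo [Finite G] {gs : List G} {h : G} (hh : ∀ x ∈ gs, h * x * h⁻¹ ∈ clo gs) :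
    h ∈ normalizer (clo gs : Set G) :=
  PLoc.mem_normalizer_of_conj_mem fun _ hx =>
    clo_le (K := (clo gs).comap (MulAut.conj h).toMonoidHom) hh hx

theorem normQ : clo gH ≤ normalizer (clo gQ : Set Γ) :=
  clo_le fun h hh => norm_clo fun x hx => LQ_mem _ (nQ h hh x hx)

theorem nconj {Δ : Subgroup (Γ × G)} {h0 x0 : Γ} {h x : G}
    (h1 : (h0, h) ∈ normalizer (Δ : Set (Γ × G))) (h2 : (x0, x) ∈ Δ) :
    (h0 * x0 * h0⁻¹, h * x * h⁻¹) ∈ Δ := (mem_normalizer_iff.mp h1 _).mp h2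

/-- the centraliser is the concrete split extension -/
structure HD (z q r s t a b d : G) : Prop where
  sat : Sat cH.RL [q, r, s, t, z, a, b, d]
  fn : Fn (gr gH [q, r, s, t, z, a, b, d])
  inj : Inj (gr gH [q, r, s, t, z, a, b, d])
  eq : ∀ x, x ∈ clo [q, r, s, t, z, a, b, d] ↔ x * z = z * x

theorem fA2 : b0 = a0 * b0 * a0 * (a0 * b0)⁻¹ ∧ d0 * b0 = d0⁻¹ * a0 * b0 * a0 * (d0⁻¹ * a0 * b0)⁻¹ ∧
    d0 ^ 3 = 1 ∧ (d0 * a0) ^ 3 = 1 ∧ (a0 * b0) ^ 3 = 1 ∧ a0 * a0 = 1 := by decide +kernel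

variable [Finite G] {z : G} {Q : Subgroup G} (h : HypQ z Q)
include h

theorem HypQ.struct : (∃ q, ∀ x, x * z = z * x → x * x = 1 → x = 1 ∨ x = z ∨ IsConj q x) ∨
    ∃ q r s t a b d, HD z q r s t a b d ∧ Q = clo [q, r, s, t, z] := by
  obtain ⟨q, r, s, t, mq, mr, ms, mt, sat⟩ := h.exists_gens
  set Δ := gr gQ [q, r, s, t, z] with hΔ
  have fn : Fn Δ := fn_of_le (leQ (satQ.zip sat)) chQ_card
  have gq : (q0, q) ∈ Δ := mem_clo (by simp)
  have gr' : (r0, r) ∈ Δ := mem_clo (by simp)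
  have gs : (s0, s) ∈ Δ := mem_clo (by simp)
  have gt : (t0, t) ∈ Δ := mem_clo (by simp)
  have gz : (z0, z) ∈ Δ := mem_clo (by simp)
  have inj : Inj Δ := fun x m => by
    rcases (fQ x (memQ x (gr_mem m).1)).2 with e | e | ⟨w, hw, e⟩
    · exact e
    · exact absurd (fn.eq m gz e).symm h.z1
    · obtain ⟨w', -, m'⟩ := gr_right [q, r, s, t, z]
        (show w ∈ clo gQ from mem_clo (by simp at hw ⊢; tauto))
      exact absurd (by simpa using (fn.eq (y := 1 * w' * 1⁻¹ * w'⁻¹) (by gm) gz e).symm) h.z1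
  have eQ : clo [q, r, s, t, z] = Q :=
    eq_of_le_of_card_ge (clo_le (by simp [*, h.zmem])) (by rw [h.card, card_gr fn inj]; exact chQ_card)
  set N := normalizer (Δ : Set (Γ × G)) with hN
  have L1 : ∀ x, x * z = z * x → ((1 : Γ), x) ∈ N → x = 1 ∨ x = z := fun x hx m =>
    h.cent x hx fun y hy => by
      obtain ⟨y0, -, m'⟩ := gr_left gQ (eQ ▸ hy)
      have := fn.eq (nconj m m') m' (by simp)
      rwa [mul_inv_eq_iff_eq_mul] at this
  have zN : ((1 : Γ), z) ∈ N := PLoc.mem_normalizer_of_conj_mem fun p hp => by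
    have := h.le _ (eQ ▸ (gr_mem (x := p.1) (y := p.2) hp).2)
    have e : ((1 : Γ), z) * p * ((1 : Γ), z)⁻¹ = p := Prod.ext (by simp) (by simp [← this])
    rwa [e]
  obtain ⟨e, he⟩ := exists_equiv_gr fn inj
  have hle : centralizer ({z} : Set G) ≤ normalizer (clo [q, r, s, t, z] : Set G) := fun x hx => by
    rw [eQ]; exact PLoc.mem_normalizer_of_conj_mem (h.norm x (mem_centralizer_singleton_iff.mp hx))
  let ρ : centralizer ({z} : Set G) →* MulAut (clo gQ) := (MulAut.congr e.symm).toMonoidHom.comp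
    ((clo [q, r, s, t, z]).normalizerMonoidHom.comp (inclusion hle))
  have hρ : ∀ x (y : clo gQ), (e (ρ x y) : G) = x * e y * (x : G)⁻¹ := fun x y => by
    simp [ρ, normalizerMonoidHom]; rfl
  have toN : ∀ (h0 : Γ) x, (∀ y : clo gQ, (ρ x y : Γ) = h0 * y * h0⁻¹) → (h0, (x : G)) ∈ N :=
    fun h0 x hx => PLoc.mem_normalizer_of_conj_mem fun p hp => by
      have m := gr_mem (x := p.1) (y := p.2) hp
      have m1 := he (ρ x ⟨p.1, m.1⟩)
      rw [hρ, hx, ← fn.eq hp (he ⟨p.1, m.1⟩) rfl] at m1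
      exact m1
  have cρ : 960 ≤ Nat.card ρ.range := by
    have h1 := card_mul_index ρ.ker
    rw [index_ker, h.cardH] at h1
    have h2 : Nat.card ρ.ker ≤ 2 := by
      classical
      have := Nat.card_le_card_of_injective
        (fun x : ρ.ker => (⟨x.1.1, by
          simpa using L1 _ (mem_centralizer_singleton_iff.mp x.1.2) (toN 1 x.1 fun y => by
            rw [MonoidHom.mem_ker.mp x.2]; simp)⟩ : ({1, z} : Finset G)))
        fun a b e => Subtype.ext (Subtype.ext (congrArg (fun y : ({1, z} : Finset G) => (y : G)) e))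
      rw [Nat.card_eq_finsetCard] at this
      exact this.trans Finset.card_le_two
    nlinarith
  have L2 : ∀ h0 ∈ clo gH, h0 ^ 3 = 1 → ∃ x, x * z = z * x ∧ x ^ 3 = 1 ∧ (h0, x) ∈ N := by
    intro h0 m h3
    let κ := (clo gQ).normalizerMonoidHom ⟨h0, normQ m⟩
    have k3 : κ ^ 3 = 1 := by rw [← map_pow, show (⟨h0, normQ m⟩ : normalizer _) ^ 3 = 1 from
      Subtype.ext h3, map_one]
    have h1 := card_mul_index ρ.range
    have h2 := card_aut
    have h4 : ρ.range.index ≠ 0 := index_ne_zero_of_finite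
    have h5 : κ ∈ ρ.range := by
      have : ρ.range.index = 1 ∨ ρ.range.index = 2 := by
        have : ρ.range.index ≤ 2 := by nlinarith
        omega
      rcases this with e | e
      · rw [index_eq_one.mp e]; exact mem_top _
      · have := sq_mem_of_index_two e (κ ^ 2)
        rwa [← pow_mul, pow_succ, k3, one_mul] at this
    obtain ⟨x, hx⟩ := h5
    have m1 : (h0, (x : G)) ∈ N := toN h0 x fun y => by rw [hx]; rfl
    have xz := mem_centralizer_singleton_iff.mp x.2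
    rcases L1 (x ^ 3) ((Commute.pow_left xz 3).eq) (h3 ▸ pm_pow m1) with e | e
    · exact ⟨x, xz, e, m1⟩
    · refine ⟨x * z, by rw [mul_assoc, ← mul_assoc z, ← xz, mul_assoc], ?_, by simpa using pm_mul m1 zN⟩
      rw [Commute.mul_pow xz, e, ← pow_succ', show 3 + 1 = 2 * 2 from rfl, pow_mul, pow_two z, h.z2,
        one_pow]
  obtain ⟨f1, f2, f3, f4, f5, f6⟩ := fA2
  have ma : a0 ∈ clo gH := mem_clo (by simp)
  have mb : b0 ∈ clo gH := mem_clo (by simp)
  have md : d0 ∈ clo gH := mem_clo (by simp)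
  obtain ⟨d, dz, d3, gd⟩ := L2 d0 md f3
  obtain ⟨x1, x1z, x13, g1⟩ := L2 _ (mul_mem md ma) f4
  obtain ⟨x2, x2z, x23, g2⟩ := L2 _ (mul_mem ma mb) f5
  obtain ⟨a, rfl⟩ : ∃ a, x1 = d * a := ⟨d⁻¹ * x1, by simp⟩
  obtain ⟨b, rfl⟩ : ∃ b, x2 = a * b := ⟨a⁻¹ * x2, by simp⟩
  have ga : (a0, a) ∈ N := by simpa using pm_mul (pm_inv gd) g1
  have gb : (b0, b) ∈ N := by simpa using pm_mul (pm_inv ga) g2
  have cz : ∀ x, x * z = z * x ↔ x ∈ centralizer ({z} : Set G) :=
    fun x => mem_centralizer_singleton_iff.symm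
  rw [cz] at dz x1z x2z
  have az : a ∈ centralizer ({z} : Set G) := by simpa using mul_mem (inv_mem dz) x1z
  have bz : b ∈ centralizer ({z} : Set G) := by simpa using mul_mem (inv_mem az) x2z
  have sqe : ∀ x0 x y, (x0, x) ∈ N → (x0, y) ∈ N → x ∈ centralizer ({z} : Set G) →
      y ∈ centralizer ({z} : Set G) → x * x = y * y := fun x0 x y m1 m2 c1 c2 => by
    rcases L1 (x⁻¹ * y) ((cz _).mpr (mul_mem (inv_mem c1) c2))
      (by simpa using pm_mul (pm_inv m1) m2) with e | e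
    · rw [inv_mul_eq_one.mp e]
    · rw [inv_mul_eq_iff_eq_mul.mp e, mul_assoc, ← mul_assoc z, ← (cz _).mpr c1, mul_assoc, h.z2,
        mul_one]
  have a2 := L1 (a * a) ((cz _).mpr (mul_mem az az)) (f6 ▸ pm_mul ga ga)
  have cj : ∀ c0 c x, (c0, c) ∈ N → (c0 * a0 * c0⁻¹, x) ∈ N → c ∈ centralizer ({z} : Set G) →
      x ∈ centralizer ({z} : Set G) → x * x = a * a := fun c0 c x m1 m2 c1 c2 => by
    rw [sqe _ x (c * a * c⁻¹) m2 (by gm) c2 (mul_mem (mul_mem c1 az) (inv_mem c1)), conj_mul]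
    rcases a2 with e | e <;> rw [e]
    · simp
    · rw [(cz _).mpr c1]; simp
  have ΔN : Δ ≤ N := le_normalizer
  rcases a2 with a2 | a2
  · have b2 := cj _ _ b g2 (f1 ▸ gb) x2z bz
    have db2 := cj _ (d⁻¹ * a * b) (d * b) (by gm) (f2 ▸ pm_mul gd gb)
      (mul_mem (mul_mem (inv_mem dz) az) bz) (mul_mem dz bz)
    have sH := satH
    simp only [cH.RL, Sat, List.forall_mem_append] at sH
    have sat' : Sat cH.RL [q, r, s, t, z, a, b, d] := by
      refine Sat.append (Sat.append ?_ ?_) ?_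
      · exact Sat.tr fn (xs := gH) (ys := [q, r, s, t, z, a, b, d]) (S := [0, 1, 2, 3, 4])
          ⟨gq, gr', gs, gt, gz, trivial⟩ (by decide) sH.1.1
      · simp only [Sat, cH.R2, List.forall_mem_cons]
        simp only [pow_succ, pow_zero, one_mul, mul_assoc, a2] at d3 x13 x23 b2 db2
        simp [atm, a2, b2, d3, x13, x23, db2]
      · exact Sat.act fn (xs := gH) (ys := [q, r, s, t, z, a, b, d]) (S := [0, 1, 2, 3, 4])
          (J := [5, 6, 7]) ⟨gq, gr', gs, gt, gz, trivial⟩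
          ⟨ga, gb, gd, trivial⟩ (by decide) sH.2
    have fn' := fn_of_le (leH (satH.zip sat')) chH_card
    have le1 : gr gH [q, r, s, t, z, a, b, d] ≤ N :=
      gr_le (by simp [ΔN gq, ΔN gr', ΔN gs, ΔN gt, ΔN gz, ga, gb, gd])
    have inj' : Inj (gr gH [q, r, s, t, z, a, b, d]) := fun x m => by
      have k : ∀ w0 w, (w0, w) ∈ Δ → x * w0 = w0 * x := fun w0 w mw => by
        have := inj.eq (nconj (le1 m) mw) mw (by simp)
        rwa [mul_inv_eq_iff_eq_mul] at this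
      refine ((fH x (gr_mem m).1).2.1 (k _ _ gq) (k _ _ gr') (k _ _ gs) (k _ _ gt)).resolve_right
        fun e => h.z1 (fn'.eq (mem_clo (by simp)) m e.symm)
    refine Or.inr ⟨q, r, s, t, a, b, d, ⟨sat', fn', inj', fun x => ?_⟩, eQ.symm⟩
    rw [cz, eq_of_le_of_card_ge (H := clo [q, r, s, t, z, a, b, d]) (K := centralizer {z})
      (clo_le (by simp [← cz, h.le, mq, mr, ms, mt, (cz _).mpr az, (cz _).mpr bz, (cz _).mpr dz]))
      (by rw [h.cardH, card_gr fn' inj']; exact chH_card)]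
  · let Λ := N ⊓ (clo gH).prod (centralizer ({z} : Set G))
    have s1 : Λ.map (MonoidHom.fst Γ G) = clo gH := by
      refine le_antisymm (by rintro _ ⟨p, hp, rfl⟩; exact hp.2.1) (clo_le ?_)
      have k : ∀ x0 x, x0 ∈ gH → (x0, x) ∈ N → x * z = z * x → x0 ∈ Λ.map (MonoidHom.fst Γ G) :=
        fun x0 x m1 m2 m3 => ⟨(x0, x), ⟨m2, mem_clo m1, (cz _).mp m3⟩, rfl⟩
      simp only [List.forall_mem_cons]
      exact ⟨k _ _ (by simp) (ΔN gq) (h.le _ mq), k _ _ (by simp) (ΔN gr') (h.le _ mr),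
        k _ _ (by simp) (ΔN gs) (h.le _ ms), k _ _ (by simp) (ΔN gt) (h.le _ mt),
        k _ _ (by simp) (ΔN gz) rfl, k _ _ (by simp) ga ((cz _).mpr az),
        k _ _ (by simp) gb ((cz _).mpr bz), k _ _ (by simp) gd ((cz _).mpr dz), by simp⟩
    have c1 := PLoc.card_map_mul_card_ker_inf (MonoidHom.fst Γ G) Λ
    have c2 := PLoc.card_map_mul_card_ker_inf (MonoidHom.snd Γ G) Λ
    have c3 : 2 ≤ Nat.card ((MonoidHom.fst Γ G).ker ⊓ Λ : Subgroup _) := by
      rw [Nat.succ_le_iff, Finite.one_lt_card_iff_nontrivial]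
      exact ⟨⟨⟨(1, z), rfl, zN, one_mem _, (cz _).mp rfl⟩, 1, fun e =>
        h.z1 (congrArg (fun p => p.1.2) e)⟩⟩
    have c4 : Nat.card ((MonoidHom.snd Γ G).ker ⊓ Λ : Subgroup _) ≤ 2 := by
      classical
      have := Nat.card_le_card_of_injective
        (fun x : ((MonoidHom.snd Γ G).ker ⊓ Λ : Subgroup _) => (⟨x.1.1, by
          have e : x.1.2 = 1 := x.2.1
          have m : (x.1.1, (1 : G)) ∈ N := e ▸ x.2.2.1
          have k : ∀ w0 w, (w0, w) ∈ Δ → x.1.1 * w0 = w0 * x.1.1 := fun w0 w mw => by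
            have := inj.eq (nconj m mw) mw (by simp)
            rwa [mul_inv_eq_iff_eq_mul] at this
          simpa using (fH _ x.2.2.2.1).2.1 (k _ _ gq) (k _ _ gr') (k _ _ gs) (k _ _ gt)⟩ :
            ({1, z0} : Finset Γ)))
        fun a b e => Subtype.ext (Prod.ext (congrArg (fun y : ({1, z0} : Finset Γ) => (y : Γ)) e)
          ((show a.1.2 = 1 from a.2.1).trans (show b.1.2 = 1 from b.2.1).symm))
      rw [Nat.card_eq_finsetCard] at this
      exact this.trans Finset.card_le_two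
    have s2 : Λ.map (MonoidHom.snd Γ G) = centralizer {z} := by
      refine eq_of_le_of_card_ge (by rintro _ ⟨p, hp, rfl⟩; exact hp.2.2) ?_
      have := chH_card
      rw [s1] at c1
      rw [h.cardH]
      nlinarith
    have lift : ∀ c0 ∈ clo gH, ∃ c ∈ centralizer ({z} : Set G), (c0, c) ∈ N := fun c0 m => by
      obtain ⟨p, hp, rfl⟩ : c0 ∈ Λ.map (MonoidHom.fst Γ G) := s1 ▸ m
      exact ⟨p.2, hp.2.2, hp.1⟩
    refine Or.inl ⟨q, fun x xz x2 => ?_⟩
    obtain ⟨⟨x0, x⟩, ⟨m1, m2, m3⟩, rfl⟩ : x ∈ Λ.map (MonoidHom.snd Γ G) := s2 ▸ (cz x).mp xz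
    dsimp only [MonoidHom.coe_snd] at *
    have k : ∀ w0 w, (w0, w) ∈ Δ → x0 * x0 * w0 = w0 * (x0 * x0) := fun w0 w mw => by
      have := inj.eq (nconj (pm_mul m1 m1) mw) mw (by simp [x2])
      rwa [mul_inv_eq_iff_eq_mul] at this
    rcases (fH x0 m2).1 ((fH _ (mul_mem m2 m2)).2.1 (k _ _ gq) (k _ _ gr') (k _ _ gs) (k _ _ gt))
      with e | e
    · obtain ⟨y, my, m4⟩ := gr_right [q, r, s, t, z] (LQ_mem _ e)
      have xQ : x ∈ clo [q, r, s, t, z] := by
        rcases L1 (y⁻¹ * x) ((cz _).mpr (mul_mem (inv_mem ((cz _).mp (h.le _ (eQ ▸ my)))) m3))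
          (by simpa using pm_mul (pm_inv (ΔN m4)) m1) with e | e
        · rwa [← inv_mul_eq_one.mp e]
        · rw [inv_mul_eq_iff_eq_mul.mp e]; exact mul_mem my (mem_clo (by simp))
      obtain ⟨y0, m5, m6⟩ := gr_left gQ xQ
      refine ((fQ y0 (memQ _ m5)).1 (inj.eq (by gm) pm_one x2)).imp (fn.eq m6 pm_one)
        (Or.imp (fn.eq m6 gz) fun e => ?_)
      rw [I10_eq, List.mem_map] at e
      obtain ⟨c0, e1, e2⟩ := e
      obtain ⟨c, -, e3⟩ := lift c0 (T10_mem _ e1)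
      exact isConj_iff.mpr ⟨c, fn.eq (nconj e3 gq) m6 e2⟩
    · rw [I120_eq, List.mem_map] at e
      obtain ⟨c0, e1, rfl⟩ := e
      obtain ⟨c, e2, e3⟩ := lift c0 (T120_mem _ e1)
      exact absurd ((cj c0 c x e3 m1 e2 m3).symm.trans x2) (a2 ▸ h.z1)

end Cfsg.Agent.HJ
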