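/-
Groups of Hall–Janko type: the normaliser of the four-group `V = ⟨z, q⟩`.
-/
import Cfsg.Agent.HJ.StepA2

set_option autoImplicit false
set_option maxRecDepth 100000

namespace Cfsg.Agent.HJ

open Subgroup A4

variable {G : Type*} [Group G] {z q r s t a b d p c g : G}

set_option hygiene false in
local notation "ΔH" => gr gH [q, r, s, t, z, a, b, d]
set_option hygiene false in
local notation "ΔM" => gr gM [q, r, s, t, z, a, d, g]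

theorem HD.lift (H : HD z q r s t a b d) {x : G} (hx : x * z = z * x) :
    ∃ x0 ∈ clo gH, (x0, x) ∈ ΔH := gr_left gH ((H.eq x).mpr hx)

theorem HD.cz (H : HD z q r s t a b d) {x0 : Γ} {x : G} (m : (x0, x) ∈ ΔH) : x * z = z * x :=
  (H.eq x).mp (gr_mem m).2

theorem HD.down (H : HD z q r s t a b d) {x0 : Γ} (h : x0 ∈ clo gH) :
    ∃ x, x * z = z * x ∧ (x0, x) ∈ ΔH := by
  obtain ⟨x, -, m⟩ := gr_right [q, r, s, t, z, a, b, d] h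
  exact ⟨x, H.cz m, m⟩

theorem HD.invol (H : HD z q r s t a b d) {x : G} (hx : x * z = z * x) (x2 : x * x = 1) :
    x = 1 ∨ x = z ∨ (∃ h, h * z = z * h ∧ x = h * q * h⁻¹) ∨
      ∃ h, h * z = z * h ∧ x = h * a * h⁻¹ := by
  have gq : (q0, q) ∈ ΔH := mem_clo (by simp)
  have gz : (z0, z) ∈ ΔH := mem_clo (by simp)
  have ga : (a0, a) ∈ ΔH := mem_clo (by simp)
  obtain ⟨x0, m0, m⟩ := H.lift hx
  have e : x0 * x0 = 1 := H.inj.eq (by gm) pm_one x2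
  rcases (fH x0 m0).1 (Or.inl e) with f | f
  · refine ((fQ x0 f).1 e).imp (H.fn.eq m pm_one) (Or.imp (H.fn.eq m gz) fun f => Or.inl ?_)
    rw [I10_eq, List.mem_map] at f
    obtain ⟨h0, f1, f2⟩ := f
    obtain ⟨h, hz, m'⟩ := H.down (T10_mem _ f1)
    exact ⟨h, hz, H.fn.eq m (by gm) f2.symm⟩
  · rw [I120_eq, List.mem_map] at f
    obtain ⟨h0, f1, f2⟩ := f
    obtain ⟨h, hz, m'⟩ := H.down (T120_mem _ f1)
    exact Or.inr (Or.inr (Or.inr ⟨h, hz, H.fn.eq m (by gm) f2.symm⟩))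

/-- names for two more elements -/
structure H0 (z q r s t a b d p c : G) : Prop extends HD z q r s t a b d where
  ep : p = q * r * s * t
  ec : c = d * a * d⁻¹

/-- the standing hypothesis: `z` is fused to `q` but not to `a` -/
structure H1 (z q r s t a b d p c : G) : Prop extends H0 z q r s t a b d p c where
  zq : IsConj z q
  za : ¬ IsConj z a

theorem H0.m (H : H0 z q r s t a b d p c) : (q0, q) ∈ ΔH ∧ (r0, r) ∈ ΔH ∧ (s0, s) ∈ ΔH ∧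
    (t0, t) ∈ ΔH ∧ (z0, z) ∈ ΔH ∧ (a0, a) ∈ ΔH ∧ (b0, b) ∈ ΔH ∧ (d0, d) ∈ ΔH ∧ (p0, p) ∈ ΔH ∧
    (c0, c) ∈ ΔH := by
  have gq : (q0, q) ∈ ΔH := mem_clo (by simp)
  have gr' : (r0, r) ∈ ΔH := mem_clo (by simp)
  have gs : (s0, s) ∈ ΔH := mem_clo (by simp)
  have gt : (t0, t) ∈ ΔH := mem_clo (by simp)
  have ga : (a0, a) ∈ ΔH := mem_clo (by simp)
  have gd : (d0, d) ∈ ΔH := mem_clo (by simp)
  refine ⟨gq, gr', gs, gt, mem_clo (by simp), ga, mem_clo (by simp), gd, ?_, ?_⟩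
  · rw [H.ep, e_p]; gm
  · rw [H.ec, e_c]; gm

theorem fB1 : (z0 * z0 = 1 ∧ q0 * q0 = 1 ∧ p0 * p0 = 1 ∧ a0 * a0 = 1 ∧ b0 * b0 = 1 ∧ c0 * c0 = 1 ∧
    d0 ^ 3 = 1) ∧ (q0 * z0 = z0 * q0 ∧ p0 * z0 = z0 * p0 ∧ p0 * q0 * p0⁻¹ = z0 * q0 ∧
    d0 * z0 = z0 * d0 ∧ d0 * q0 = q0 * d0 ∧ d0 * p0 = p0 * d0 ∧ b0 * z0 = z0 * b0 ∧
    b0 * q0 * b0⁻¹ = p0 ∧ b0 * d0 * b0⁻¹ = d0⁻¹) ∧ (a0 * z0 = z0 * a0 ∧ a0 * q0 = q0 * a0 ∧
    c0 * z0 = z0 * c0 ∧ c0 * q0 = q0 * c0 ∧ c0 * a0 = a0 * c0 ∧ d0 * c0 * d0⁻¹ = a0 * c0) ∧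
    z0 ≠ 1 ∧ q0 ≠ z0 ∧ d0⁻¹ ≠ d0 ∧ a0 ≠ 1 ∧ c0 ≠ a0 := by decide +kernel

theorem H0.rel (H : H0 z q r s t a b d p c) : (z * z = 1 ∧ q * q = 1 ∧ p * p = 1 ∧ a * a = 1 ∧
    b * b = 1 ∧ c * c = 1 ∧ d ^ 3 = 1) ∧ (q * z = z * q ∧ p * z = z * p ∧ p * q * p⁻¹ = z * q ∧
    d * z = z * d ∧ d * q = q * d ∧ d * p = p * d ∧ b * z = z * b ∧
    b * q * b⁻¹ = p ∧ b * d * b⁻¹ = d⁻¹) ∧ (a * z = z * a ∧ a * q = q * a ∧
    c * z = z * c ∧ c * q = q * c ∧ c * a = a * c ∧ d * c * d⁻¹ = a * c) ∧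
    z ≠ 1 ∧ q ≠ z ∧ d⁻¹ ≠ d ∧ a ≠ 1 ∧ c ≠ a := by
  obtain ⟨gq, -, -, -, gz, ga, gb, gd, gp, gc⟩ := H.m
  obtain ⟨⟨a1, a2, a3, a4, a5, a6, a7⟩, ⟨b1, b2, b3, b4, b5, b6, b7, b8, b9⟩,
    ⟨c1, c2, c3, c4, c5, c6⟩, d1, d2, d3, d4, d5⟩ := fB1
  have f := @H.fn.eq
  have i := @H.inj.eq
  exact ⟨⟨f (by gm) (by gm) a1, f (by gm) (by gm) a2, f (by gm) (by gm) a3, f (by gm) (by gm) a4,
    f (by gm) (by gm) a5, f (by gm) (by gm) a6, f (by gm) (by gm) a7⟩,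
    ⟨f (by gm) (by gm) b1, f (by gm) (by gm) b2, f (by gm) (by gm) b3, f (by gm) (by gm) b4,
    f (by gm) (by gm) b5, f (by gm) (by gm) b6, f (by gm) (by gm) b7, f (by gm) (by gm) b8,
    f (by gm) (by gm) b9⟩, ⟨f (by gm) (by gm) c1, f (by gm) (by gm) c2, f (by gm) (by gm) c3,
    f (by gm) (by gm) c4, f (by gm) (by gm) c5, f (by gm) (by gm) c6⟩,
    fun e => d1 (i (by gm) (by gm) e), fun e => d2 (i (by gm) (by gm) e),
    fun e => d3 (i (by gm) (by gm) e), fun e => d4 (i (by gm) (by gm) e),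
    fun e => d5 (i (by gm) (by gm) e)⟩

theorem H0.iv (H : H0 z q r s t a b d p c) {x0 : Γ} {x : G} (m : (x0, x) ∈ ΔH) (e : iV z0 q0 x0) :
    iV z q x := by
  obtain ⟨gq, -, -, -, gz, -⟩ := H.m
  exact e.imp (H.fn.eq m gz) (Or.imp (H.fn.eq m gq) (H.fn.eq m (pm_mul gz gq)))

theorem H0.liftC (H : H0 z q r s t a b d p c) {x : G} (h1 : x * z = z * x) (h2 : x * q = q * x) :
    ∃ x0 ∈ clo gC, (x0, x) ∈ ΔH := by
  obtain ⟨gq, -⟩ := H.m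
  obtain ⟨x0, m0, m⟩ := H.lift h1
  exact ⟨x0, centC x0 m0 (H.inj.eq (by gm) (by gm) h2), m⟩

theorem H0.fC2 (H : H0 z q r s t a b d p c) {x : G} (h1 : x * z = z * x) (h2 : x * q = q * x)
    (h3 : x * d * x⁻¹ = d ∨ x * d * x⁻¹ = d⁻¹) : x * d = d * x ∧ (x ^ 3 = 1 ∨ iV z q (x ^ 3)) ∧
      (x ^ 3 = 1 → x = 1 ∨ x = d ∨ x = d⁻¹) := by
  obtain ⟨gq, -, -, -, gz, -, -, gd, -⟩ := H.m
  obtain ⟨x0, m0, m⟩ := H.liftC h1 h2
  obtain ⟨f1, f2, f3⟩ := (fC x0 m0).2.1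
    (h3.imp (H.inj.eq (by gm) (by gm)) (H.inj.eq (by gm) (by gm)))
  exact ⟨H.fn.eq (by gm) (by gm) f1, f2.imp (H.fn.eq (by gm) (by gm)) (H.iv (by gm)),
    fun e => (f3 (H.inj.eq (by gm) (by gm) e)).imp (H.fn.eq m (by gm))
      (Or.imp (H.fn.eq m (by gm)) (H.fn.eq m (by gm)))⟩

theorem cj_comm {g x y : G} (h : x * y = y * x) :
    g * x * g⁻¹ * (g * y * g⁻¹) = g * y * g⁻¹ * (g * x * g⁻¹) := by
  rw [conj_mul, conj_mul, h]

theorem comm_of_cj {x y : G} (h : x * y * x⁻¹ = y) : x * y = y * x := mul_inv_eq_iff_eq_mul.mp h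
theorem cj_of_comm {x y : G} (h : x * y = y * x) : x * y * x⁻¹ = y := mul_inv_eq_iff_eq_mul.mpr h

theorem cj_mul' (g h x : G) : g * h * x * (g * h)⁻¹ = g * (h * x * h⁻¹) * g⁻¹ := by group

theorem fB2 : u0 * u0 = z0 ∧ u0 * (d0 * u0 * d0⁻¹) * (d0⁻¹ * u0 * d0) = 1 ∧ u0 * z0 = z0 * u0 ∧
    u0 * q0 = q0 * u0 := by decide +kernel

theorem H1.exists_g (H : H1 z q r s t a b d p c) : ∃ g, g * g = 1 ∧ g * z * g⁻¹ = q ∧
    g * d = d * g ∧ (g * p) ^ 3 = 1 ∧ g * (r * s) * g⁻¹ * (r * (a * t)) = 1 := by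
  obtain ⟨⟨z2, q2, p2, -, -, -, d3⟩, ⟨qz, pz, pq, dz, dq, dp, -⟩, -, z1, qn, dn, -⟩ := H.rel
  obtain ⟨gq, gr', gs, gt, gz, ga, gb, gd, gp, gc⟩ := H.m
  obtain ⟨g0, e0⟩ := isConj_iff.mp H.zq
  obtain ⟨g1, e1, e2⟩ : ∃ g1, g1 * z * g1⁻¹ = q ∧ g1 * q * g1⁻¹ = z := by
    have w1 : g0⁻¹ * z * g0 * z = z * (g0⁻¹ * z * g0) := by
      have := cj_comm (g := g0⁻¹) qz.symm
      rwa [← e0, inv_inv, show g0⁻¹ * (g0 * z * g0⁻¹) * g0 = z by group] at this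
    rcases H.invol w1 (by simp [mul_assoc, ← mul_assoc z z, z2]) with e | e | ⟨h, hz, e⟩ | ⟨h, hz, e⟩
    · exact absurd (by simpa [mul_assoc, inv_mul_eq_one] using e) z1
    · refine absurd ?_ qn
      rw [← e0]
      conv_lhs => rw [← e]
      group
    · exact ⟨g0 * h, by rw [cj_mul', cj_of_comm hz, e0], by rw [cj_mul', ← e]; group⟩
    · exact absurd (isConj_iff.mpr ⟨h⁻¹ * g0⁻¹, by rw [cj_mul', inv_inv g0, e]; group⟩) H.za
  have sw : ∀ {g x : G}, g * z * g⁻¹ = q → g * q * g⁻¹ = z → x * z = z * x → x * q = q * x →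
      g * x * g⁻¹ * z = z * (g * x * g⁻¹) ∧ g * x * g⁻¹ * q = q * (g * x * g⁻¹) :=
    fun h1 h2 h3 h4 => ⟨h2 ▸ cj_comm h4, h1 ▸ cj_comm h3⟩
  obtain ⟨g2, e1, e2, e3⟩ : ∃ g2, g2 * z * g2⁻¹ = q ∧ g2 * q * g2⁻¹ = z ∧
      (g2 * d * g2⁻¹ = d ∨ g2 * d * g2⁻¹ = d⁻¹) := by
    obtain ⟨h1, h2⟩ := sw e1 e2 dz dq
    obtain ⟨x0, m0, m⟩ := H.liftC h1 h2
    rcases (fC x0 m0).1 (H.inj.eq (by gm) pm_one (by rw [conj_pow, d3]; simp)) with e | ⟨c0, f1, f2⟩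
    · have : d = 1 := by simpa using H.fn.eq m pm_one e
      exact absurd (by simp [this]) dn
    · obtain ⟨c', cz, m'⟩ := H.down (C_le (T16_mem _ f1))
      have cq : c' * q = q * c' := H.fn.eq (by gm) (by gm)
        (comm_clo (gs := gC) (z := q0) (by decide +kernel) c0 (T16_mem _ f1))
      exact ⟨c' * g1, by rw [cj_mul', e1, cj_of_comm cq], by rw [cj_mul', e2, cj_of_comm cz], by
        rw [cj_mul']; exact f2.imp (H.fn.eq (by gm) (by gm)) (H.fn.eq (by gm) (by gm))⟩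
  have cyc : ∀ {g : G}, g * z * g⁻¹ = q → g * q * g⁻¹ = z →
      (g * p * z * (g * p)⁻¹ = q ∧ g * p * q * (g * p)⁻¹ = z * q ∧
        g * p * (z * q) * (g * p)⁻¹ = z) ∧
      (g * p) ^ 3 * z = z * (g * p) ^ 3 ∧ (g * p) ^ 3 * q = q * (g * p) ^ 3 := by
    intro g h1 h2
    have k1 : g * p * z * (g * p)⁻¹ = q := by rw [cj_mul', cj_of_comm pz, h1]
    have k2 : g * p * q * (g * p)⁻¹ = z * q := by rw [cj_mul', pq, ← conj_mul, h1, h2, qz]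
    have k3 : g * p * (z * q) * (g * p)⁻¹ = z := by
      rw [← conj_mul, k1, k2, ← mul_assoc, qz, mul_assoc, q2, mul_one]
    refine ⟨⟨k1, k2, k3⟩, comm_of_cj ?_, comm_of_cj ?_⟩
    · rw [pow_three, cj_mul' (g * p), cj_mul' (g * p), k1, k2, k3]
    · rw [pow_three, cj_mul' (g * p), cj_mul' (g * p), k2, k3, k1]
  have e4 : g2 * d = d * g2 := by
    refine comm_of_cj (e3.resolve_right fun e => dn ?_)
    have k1 : g2 * p * d * (g2 * p)⁻¹ = d⁻¹ := by rw [cj_mul', cj_of_comm dp.symm, e]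
    have k2 : g2 * p * d⁻¹ * (g2 * p)⁻¹ = d := by rw [← conj_inv, k1, inv_inv]
    have k3 : (g2 * p) ^ 3 * d * ((g2 * p) ^ 3)⁻¹ = d⁻¹ := by
      rw [pow_three, cj_mul' (g2 * p), cj_mul' (g2 * p), k1, k2, k1]
    rw [← k3, cj_of_comm (H.fC2 (cyc e1 e2).2.1 (cyc e1 e2).2.2 (Or.inr k3)).1]
  obtain ⟨g, g2', e1, e2, e4⟩ : ∃ g, g * g = 1 ∧ g * z * g⁻¹ = q ∧ g * q * g⁻¹ = z ∧
      g * d = d * g := by
    have k1 : g2 ^ 3 * z * (g2 ^ 3)⁻¹ = q := by rw [pow_three, cj_mul', cj_mul', e1, e2, e1]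
    have k2 : g2 ^ 3 * q * (g2 ^ 3)⁻¹ = z := by rw [pow_three, cj_mul', cj_mul', e2, e1, e2]
    have k3 : g2 ^ 3 * d = d * g2 ^ 3 := (Commute.pow_left e4 3).eq
    have k4 : (g2 * g2) ^ 3 = g2 ^ 3 * g2 ^ 3 := by rw [← pow_two, ← pow_mul, ← pow_add]
    have k5 := (H.fC2 (x := g2 * g2) (comm_of_cj (by rw [cj_mul', e1, e2]))
      (comm_of_cj (by rw [cj_mul', e2, e1]))
      (Or.inl (by rw [cj_mul', cj_of_comm e4, cj_of_comm e4]))).2.1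
    rw [k4] at k5
    generalize g2 ^ 3 = g3 at *
    rcases k5 with e | e | e | e
    · exact ⟨g3, e, k1, k2, k3⟩
    · exact absurd (by rw [← k1, ← e]; group) qn
    · exact absurd (by rw [← k2, ← e]; group) qn
    · refine ⟨g3 * z, ?_, by rw [cj_mul', mul_inv_cancel_right, k1],
        by rw [cj_mul', cj_of_comm qz.symm, k2], by rw [mul_assoc, ← dz, ← mul_assoc, k3, mul_assoc]⟩
      calc g3 * z * (g3 * z) = g3 * z * g3⁻¹ * (g3 * g3) * z := by group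
        _ = 1 := by rw [k1, e, ← qz, ← mul_assoc, q2, one_mul, z2]
  have gi := inv_eq_of_sq g2'
  refine ⟨g, g2', e1, e4, ?_, ?_⟩
  · obtain ⟨⟨k1, k2, k3⟩, k4, k5⟩ := cyc e1 e2
    have k6 : Commute (g * p) d := Commute.mul_left e4 dp.symm
    obtain ⟨-, f2, f3⟩ := H.fC2 k4 k5 (Or.inl (cj_of_comm (k6.pow_left 3).eq))
    have k7 : g * p * ((g * p) ^ 3) ^ 3 * (g * p)⁻¹ = ((g * p) ^ 3) ^ 3 :=
      cj_of_comm (((Commute.refl (g * p)).pow_right 3).pow_right 3).eq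
    have k8 : g * (g * p) ^ 3 * g⁻¹ = ((g * p) ^ 3)⁻¹ := by
      rw [← conj_pow, ← inv_pow, mul_inv_rev, inv_eq_of_sq p2, ← mul_assoc, g2', one_mul]
    have k9 : g * d⁻¹ * g⁻¹ = d⁻¹ := by rw [← conj_inv, cj_of_comm e4]
    rcases f2 with e | e | e | e
    · rcases f3 e with e | e | e
      · exact e
      · rw [e, cj_of_comm e4] at k8; exact absurd k8.symm dn
      · rw [e, k9, inv_inv] at k8; exact absurd k8 dn
    · rw [e, k1] at k7; exact absurd k7 qn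
    · rw [e, k2] at k7; exact absurd (by simpa using k7) z1
    · rw [e, k3] at k7
      have q1 : q = 1 := by simpa using k7
      exact absurd (by simpa [q1] using e1) z1
  · obtain ⟨f1, f2, f3, f4⟩ := fB2
    have gu : (u0, r * s) ∈ ΔH := by rw [e_u]; gm
    generalize r * s = u at *
    have u1 : u * u = z := H.fn.eq (by gm) (by gm) f1
    have u2 : u * (d * u * d⁻¹) * (d⁻¹ * u * d) = 1 := H.fn.eq (by gm) (by gm) f2
    obtain ⟨h1, h2⟩ := sw (x := u) e1 e2 (H.fn.eq (by gm) (by gm) f3) (H.fn.eq (by gm) (by gm) f4)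
    obtain ⟨x0, m0, m⟩ := H.liftC h1 h2
    have k1 : ∀ w, d * (g * w * g⁻¹) * d⁻¹ = g * (d * w * d⁻¹) * g⁻¹ := fun w => by
      rw [← cj_mul', ← cj_mul', e4]
    have k2 : ∀ w, d⁻¹ * (g * w * g⁻¹) * d = g * (d⁻¹ * w * d) * g⁻¹ := fun w => by
      have := k1 (d⁻¹ * w * d)
      rw [show d * (d⁻¹ * w * d) * d⁻¹ = w by group] at this
      rw [← this]; group
    have k3 : g * (u * (d * (g * u * g⁻¹) * d⁻¹)) ^ 2 * g⁻¹ = (g * u * g⁻¹ * (d * u * d⁻¹)) ^ 2 := by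
      rw [← conj_pow, ← conj_mul, k1, ← cj_mul' g g, g2']; simp
    refine H.fn.eq (by gm) pm_one ((fC x0 m0).2.2 (H.inj.eq (by gm) gq (by rw [conj_mul, u1, e1]))
      (H.inj.eq (by gm) pm_one (by rw [k1, k2, conj_mul, conj_mul, u2]; simp)) ⟨fun e => ?_, fun e => ?_⟩)
    · refine H.inj.eq (by gm) pm_one ?_
      rw [← k3, H.fn.eq (y := (u * (d * (g * u * g⁻¹) * d⁻¹)) ^ 2) (by gm) pm_one e]; simp
    · refine H.inj.eq (y := (u * (d * (g * u * g⁻¹) * d⁻¹)) ^ 2) (by gm) pm_one ?_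
      rw [H.fn.eq (y := (g * u * g⁻¹ * (d * u * d⁻¹)) ^ 2) (by gm) pm_one e] at k3
      simpa using k3

/-- the normaliser of `V` is the concrete one -/
structure H2 (z q r s t a b d p c g : G) : Prop extends H1 z q r s t a b d p c where
  satM : Sat cM.RL [q, r, s, t, z, a, d, g]
  fnM : Fn (gr gM [q, r, s, t, z, a, d, g])
  injM : Inj (gr gM [q, r, s, t, z, a, d, g])
  g2 : g * g = 1
  gz : g * z * g⁻¹ = q
  gq : g * q * g⁻¹ = z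
  gd : g * d = d * g
  gp : (g * p) ^ 3 = 1

theorem B_leH : gr gB [q, r, s, t, z, a, d] ≤ ΔH := gr_le fun _ h => mem_clo (by simp at h ⊢; tauto)
theorem B_leM : gr gB [q, r, s, t, z, a, d] ≤ ΔM := gr_le fun _ h => mem_clo (by simp at h ⊢; tauto)

theorem fB3 : z0 * z0 = 1 ∧ q0 * q0 = 1 ∧ q0 = g0 * z0 * g0⁻¹ ∧
    z0 * q0 = p0 * g0 * z0 * (p0 * g0)⁻¹ := by decide +kernel

theorem H1.exists_H2 (H : H1 z q r s t a b d p c) : ∃ g, H2 z q r s t a b d p c g := by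
  obtain ⟨g, g2, e1, e4, e5, e6⟩ := H.exists_g
  obtain ⟨gq, gr', gs, gt, gz, ga, gb, gd, gp, gc⟩ := H.m
  have gi := inv_eq_of_sq g2
  have e2 : g * q * g⁻¹ = z := by rw [← e1, ← cj_mul', g2]; simp
  have sM := satM
  simp only [cM.RL, Sat, List.forall_mem_append] at sM
  have sat : Sat cM.RL [q, r, s, t, z, a, d, g] := by
    refine Sat.append (Sat.tr H.fn (xs := gM) (ys := [q, r, s, t, z, a, d, g])
      (S := [0, 1, 2, 3, 4, 5, 6]) ⟨gq, gr', gs, gt, gz, ga, gd, trivial⟩ (by decide) sM.1) ?_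
    simp only [Sat, cM.R2, List.forall_mem_cons]
    have q2 := H.rel.1.2.1
    rw [H.ep] at e5
    rw [gi] at e1 e6
    simp only [pow_succ, pow_zero, one_mul, mul_assoc] at e5 e6 e1
    have e7 : g * (z * (g * q)) = 1 := by
      rw [← mul_assoc z, ← mul_assoc g, e1, q2]
    have e8 : g * (d * (g * d⁻¹)) = 1 := by rw [← mul_assoc, e4, mul_assoc, ← mul_assoc g g, g2]; simp
    simp [atm, g2, e5, e6, e7, e8]
  have fn := fn_of_le (leM (satM.zip sat)) chM_card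
  obtain ⟨f1, f2, f3, f4⟩ := fB3
  have mg : (g0, g) ∈ ΔM := mem_clo (by simp)
  have mp : (p0, p) ∈ ΔM := B_leM (by
    rw [H.ep, e_p]
    exact pm_mul (pm_mul (pm_mul (mem_clo (by simp)) (mem_clo (by simp))) (mem_clo (by simp)))
      (mem_clo (by simp)))
  refine ⟨g, H, sat, fn, inj_of_fpf (u' := z) (v' := q) (mem_clo (by simp)) (mem_clo (by simp)) f1 f2
    (fun x m e => ?_) ⟨_, _, mg, f3⟩ ⟨_, _, pm_mul mp mg, f4⟩, g2, e1, e2, e4, e5⟩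
  obtain ⟨y, -, m'⟩ := gr_right [q, r, s, t, z, a, d] (centB x (gr_mem m).1 e)
  rw [fn.eq (B_leM m') m rfl] at m'
  exact H.inj x (B_leH m')

theorem H2.mM (H : H2 z q r s t a b d p c g) : (q0, q) ∈ ΔM ∧ (z0, z) ∈ ΔM ∧ (a0, a) ∈ ΔM ∧
    (d0, d) ∈ ΔM ∧ (p0, p) ∈ ΔM ∧ (c0, c) ∈ ΔM ∧ (g0, g) ∈ ΔM ∧ (y0, g * p * d) ∈ ΔM := by
  have gq : (q0, q) ∈ ΔM := mem_clo (by simp)
  have gr' : (r0, r) ∈ ΔM := mem_clo (by simp)
  have gs : (s0, s) ∈ ΔM := mem_clo (by simp)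
  have gt : (t0, t) ∈ ΔM := mem_clo (by simp)
  have ga : (a0, a) ∈ ΔM := mem_clo (by simp)
  have gd : (d0, d) ∈ ΔM := mem_clo (by simp)
  have gg : (g0, g) ∈ ΔM := mem_clo (by simp)
  have gp : (p0, p) ∈ ΔM := by rw [H.ep, e_p]; gm
  refine ⟨gq, mem_clo (by simp), ga, gd, gp, ?_, gg, ?_⟩
  · rw [H.ec, e_c]; gm
  · rw [e_y]; gm

theorem C_leB : clo gC ≤ clo gB := clo_le_clo (W := [[0], [8], [2, 4], [10], [12]]) (by decide +kernel)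

theorem H2.normV (H : H2 z q r s t a b d p c g) {n : G} (h1 : iV z q (n * z * n⁻¹))
    (h2 : iV z q (n * q * n⁻¹)) : ∃ n0 ∈ clo gM, (n0, n) ∈ ΔM := by
  obtain ⟨⟨z2, q2, p2, -⟩, ⟨qz, pz, pq, -⟩, -, z1, qn, -⟩ := H.rel
  obtain ⟨mq, mz, -, -, mp, -, mg, -⟩ := H.mM
  suffices h : n ∈ clo [q, r, s, t, z, a, d, g] from gr_left gM h
  have hp := (gr_mem mp).2
  have hg := (gr_mem mg).2
  have pzq : p * (z * q) * p⁻¹ = q := by
    rw [← conj_mul, cj_of_comm pz, pq, ← mul_assoc, z2, one_mul]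
  have k0 : ∀ n, n * z * n⁻¹ = z → n * q * n⁻¹ = q → n ∈ clo [q, r, s, t, z, a, d, g] := by
    intro n h1 h2
    obtain ⟨x0, m0, m⟩ := H.liftC (comm_of_cj h1) (comm_of_cj h2)
    exact (gr_mem (B_leM (mem_of_gr H.fn B_leH m (C_leB m0)).2)).2
  have k1 : ∀ n, n * z * n⁻¹ = z → iV z q (n * q * n⁻¹) → n ∈ clo [q, r, s, t, z, a, d, g] := by
    rintro n h1 (h2 | h2 | h2)
    · exact absurd (by simpa using h2.trans h1.symm) qn
    · exact k0 n h1 h2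
    · simpa using mul_mem (inv_mem hp) (k0 (p * n) (by rw [cj_mul', h1, cj_of_comm pz])
        (by rw [cj_mul', h2, pzq]))
  have ig : ∀ x, iV z q x → iV z q (g * x * g⁻¹) := by
    rintro x (rfl | rfl | rfl)
    · exact Or.inr (Or.inl H.gz)
    · exact Or.inl H.gq
    · exact Or.inr (Or.inr (by rw [← conj_mul, H.gz, H.gq, qz]))
  have ip : ∀ x, iV z q x → iV z q (p * x * p⁻¹) := by
    rintro x (rfl | rfl | rfl)
    · exact Or.inl (cj_of_comm pz)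
    · exact Or.inr (Or.inr pq)
    · exact Or.inr (Or.inl pzq)
  rcases h1 with h1 | h1 | h1
  · exact k1 n h1 h2
  · simpa using mul_mem (inv_mem hg) (k1 (g * n) (by rw [cj_mul', h1, H.gq])
      (by rw [cj_mul']; exact ig _ h2))
  · simpa [mul_assoc] using mul_mem (inv_mem (mul_mem hg hp)) (k1 (g * p * n)
      (by rw [cj_mul', h1, cj_mul', pzq, H.gq]) (by rw [cj_mul', cj_mul']; exact ig _ (ip _ h2)))

end Cfsg.Agent.HJ
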