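/-
Groups of Hall–Janko type: the centraliser of a non-central involution.
-/
import Cfsg.Agent.HJ.StepB
import Cfsg.Agent.HJ.Abs2

set_option autoImplicit false
set_option maxRecDepth 100000

namespace Cfsg.Agent.HJ

open Subgroup A4

variable {G : Type*} [Group G] {z q r s t a b d p c g : G}

set_option hygiene false in
local notation "ΔH" => gr gH [q, r, s, t, z, a, b, d]
set_option hygiene false in
local notation "ΔM" => gr gM [q, r, s, t, z, a, d, g]
set_option hygiene false in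
local notation "ΔE" => gr gE [z, q, a, c]

theorem H0.E_leH (H : H0 z q r s t a b d p c) : ΔE ≤ ΔH := by
  obtain ⟨gq, -, -, -, gz, ga, -, -, -, gc⟩ := H.m
  exact gr_le (by simp [gq, gz, ga, gc])

theorem H2.E_leM (H : H2 z q r s t a b d p c g) : ΔE ≤ ΔM := by
  obtain ⟨gq, gz, ga, -, -, gc, -⟩ := H.mM
  exact gr_le (by simp [gq, gz, ga, gc])

theorem H0.liftE (H : H0 z q r s t a b d p c) {x : G} (h1 : x * z = z * x) (h2 : x * a = a * x) :
    ∃ x0 ∈ clo gE, (x0, x) ∈ ΔE := by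
  obtain ⟨-, -, -, -, -, ga, -⟩ := H.m
  obtain ⟨x0, m0, m⟩ := H.lift h1
  have := centE x0 m0 (H.inj.eq (by gm) (by gm) h2)
  exact ⟨x0, this, (mem_of_gr H.fn H.E_leH m this).2⟩

theorem H0.fE' (H : H0 z q r s t a b d p c) {x : G} (h1 : x * z = z * x) (h2 : x * a = a * x) :
    x * x = 1 ∧ (x = 1 ∨ iV z q x ∨ ∃ h, h * z = z * h ∧ x = h * a * h⁻¹) ∧
    (∀ y, y * z = z * y → y * a = a * y → x * y = y * x) ∧
    ∃ v w, (v = 1 ∨ iV z q v) ∧ (w = 1 ∨ iV a c w) ∧ x = v * w := by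
  obtain ⟨gq, -, -, -, gz, ga, -, -, -, gc⟩ := H.m
  obtain ⟨x0, m0, m⟩ := H.liftE h1 h2
  have m := H.E_leH m
  obtain ⟨f1, f2, f3, v0, f4, w0, f5, f6⟩ := fE x0 (memE x0 m0)
  refine ⟨H.fn.eq (by gm) pm_one f1, f2.imp (H.fn.eq m pm_one) (Or.imp (H.iv m) fun f => ?_),
    fun y k1 k2 => ?_, ?_⟩
  · rw [I120_eq, List.mem_map] at f
    obtain ⟨h0, f1, f2⟩ := f
    obtain ⟨h, hz, m'⟩ := H.down (T120_mem _ f1)
    exact ⟨h, hz, H.fn.eq m (by gm) f2.symm⟩
  · obtain ⟨y0, m1, m'⟩ := H.liftE k1 k2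
    have m' := H.E_leH m'
    exact H.fn.eq (by gm) (by gm) (comm_clo (fun y hy => (f3 y hy).symm) y0 m1).symm
  · obtain ⟨v, k1, k2⟩ : ∃ v, (v = 1 ∨ iV z q v) ∧ (v0, v) ∈ ΔH := by
      simp only [List.mem_cons, List.not_mem_nil, or_false] at f4
      rcases f4 with rfl | rfl | rfl | rfl
      exacts [⟨1, by simp, pm_one⟩, ⟨z, by simp [iV], gz⟩, ⟨q, by simp [iV], gq⟩,
        ⟨z * q, by simp [iV], by gm⟩]
    obtain ⟨w, k3, k4⟩ : ∃ w, (w = 1 ∨ iV a c w) ∧ (w0, w) ∈ ΔH := by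
      simp only [List.mem_cons, List.not_mem_nil, or_false] at f5
      rcases f5 with rfl | rfl | rfl | rfl
      exacts [⟨1, by simp, pm_one⟩, ⟨a, by simp [iV], ga⟩, ⟨c, by simp [iV], gc⟩,
        ⟨a * c, by simp [iV], by gm⟩]
    exact ⟨v, w, k1, k3, H.fn.eq m (by gm) f6⟩

theorem H1.cjV (H : H1 z q r s t a b d p c) {x : G} (h : iV z q x) : IsConj z x := by
  rcases h with rfl | rfl | rfl
  · exact IsConj.refl _
  · exact H.zq
  · exact H.zq.trans (isConj_iff.mpr ⟨p, H.rel.2.1.2.2.1⟩)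

theorem H1.ivE (H : H1 z q r s t a b d p c) {x : G} (h1 : x * z = z * x) (h2 : x * a = a * x)
    (h3 : IsConj z x) : iV z q x := by
  rcases (H.fE' h1 h2).2.1 with e | e | ⟨h, -, e⟩
  · exact absurd (by simpa [e] using h3) H.rel.2.2.2.1
  · exact e
  · exact absurd (h3.trans (isConj_iff.mpr ⟨h⁻¹, by rw [e]; group⟩)) H.za

theorem H2.ivM (H : H2 z q r s t a b d p c g) {x0 : Γ} {x : G} (m : (x0, x) ∈ ΔM)
    (e : iV z0 q0 x0) : iV z q x := by
  obtain ⟨gq, gz, -⟩ := H.mM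
  exact e.imp (H.fnM.eq m gz) (Or.imp (H.fnM.eq m gq) (H.fnM.eq m (pm_mul gz gq)))

theorem H2.fA' (H : H2 z q r s t a b d p c g) {n : G} (h : n * a = a * n)
    (h1 : iV z q (n * z * n⁻¹)) (h2 : iV z q (n * q * n⁻¹)) :
    (n * z = z * n ∨ n * n ≠ 1 ∧ (n * n) ^ 3 = 1) ∧ ∀ x, x * z = z * x → x * a = a * x →
      x * n * x⁻¹ * n⁻¹ = 1 ∨ iV z q (x * n * x⁻¹ * n⁻¹) := by
  obtain ⟨gq, gz, ga, -⟩ := H.mM
  obtain ⟨n0, m0, m⟩ := H.normV h1 h2
  obtain ⟨-, f2, f3⟩ := fA n0 (memA n0 (centA n0 m0 (H.injM.eq (by gm) (by gm) h)))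
  refine ⟨f2.imp (fun f => ?_) fun f => ⟨fun e => f.1 (H.injM.eq (by gm) pm_one e),
    H.fnM.eq (by gm) pm_one f.2⟩, fun x k1 k2 => ?_⟩
  · exact H.fnM.eq (by gm) (by gm) ((fE n0 f).2.2.1 z0 (by simp))
  · obtain ⟨x0, m1, m'⟩ := H.liftE k1 k2
    have m' := H.E_leM m'
    exact (f3 x0 (memE x0 m1)).imp (H.fnM.eq (by gm) pm_one) (H.ivM (by gm))

theorem H1.normE (H : H1 z q r s t a b d p c) {n : G}
    (h : ∀ x ∈ centralizer {z} ⊓ centralizer {a}, n * x * n⁻¹ ∈ centralizer {z} ⊓ centralizer {a}) :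
    iV z q (n * z * n⁻¹) ∧ iV z q (n * q * n⁻¹) := by
  obtain ⟨-, ⟨qz, -⟩, ⟨az, aq, -⟩, -⟩ := H.rel
  simp only [mem_inf, mem_centralizer_singleton_iff] at h
  have h1 := h z ⟨rfl, az.symm⟩
  have h2 := h q ⟨qz, aq.symm⟩
  exact ⟨H.ivE h1.1 h1.2 (isConj_iff.mpr ⟨n, rfl⟩),
    H.ivE h2.1 h2.2 (H.zq.trans (isConj_iff.mpr ⟨n, rfl⟩))⟩

variable [Finite G]

theorem H2.sylE (H : H2 z q r s t a b d p c g) :
    PLoc.IsSylowOf 2 (centralizer {z} ⊓ centralizer {a}) (centralizer ({a} : Set G)) := by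
  refine PLoc.isSylowOf_of_maximal (PLoc.isPGroup_iff_forall.mpr fun x hx => ⟨1, ?_⟩) inf_le_right
    fun Q hQ h1 h2 => ?_
  · simp only [mem_inf, mem_centralizer_singleton_iff] at hx
    rw [pow_one, pow_two, (H.fE' hx.1 hx.2).1]
  · by_contra ne
    obtain ⟨x, m1, m2, m3⟩ := PLoc.exists_mem_normalizer_not_mem hQ (lt_of_le_of_ne h2 (Ne.symm ne))
    obtain ⟨k1, k2⟩ := H.normE fun y hy => (mem_normalizer_iff.mp m2 y).mp hy
    rcases (H.fA' (mem_centralizer_singleton_iff.mp (h1 m1)) k1 k2).1 with e | ⟨e1, e2⟩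
    · exact m3 ⟨mem_centralizer_singleton_iff.mpr e, h1 m1⟩
    · exact e1 (PLoc.eq_one_of_isPGroup_of_coprime hQ (mul_mem m1 m1)
        (Nat.Coprime.coprime_dvd_left (orderOf_dvd_of_pow_eq_one e2) (by norm_num)))

theorem H2.sylT (H : H2 z q r s t a b d p c g) {w : G} (h : w * a = a * w) (w2 : w * w = 1) :
    ∃ x, x * a = a * x ∧ x * w * x⁻¹ * z = z * (x * w * x⁻¹) ∧ x * w * x⁻¹ * a = a * (x * w * x⁻¹) := by
  obtain ⟨x, h1, h2⟩ := H.sylE.exists_cj_le (PLoc.isPGroup_zpowers (x := w) (k := 1)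
    (by rw [pow_one, pow_two, w2])) (zpowers_le.mpr (mem_centralizer_singleton_iff.mpr h))
  have := h2 (PLoc.conj_mem_cj.mpr (mem_zpowers w))
  simp only [mem_inf, mem_centralizer_singleton_iff] at this h1
  exact ⟨x, h1, this⟩

theorem fB4 : y0 ^ 3 = 1 ∧ q0 = y0 * z0 * y0⁻¹ ∧ z0 * q0 = y0 * q0 * y0⁻¹ ∧ y0 * a0 = a0 * y0 ∧
    y0 * c0 = c0 * y0 ∧ d0 * y0 = y0 * d0 ∧ p0 * y0 * p0⁻¹ = y0⁻¹ * d0⁻¹ := by decide +kernel

omit [Finite G] in
theorem H2.rely (H : H2 z q r s t a b d p c g) {y : G} (hy : y = g * p * d) :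
    y ^ 3 = 1 ∧ q = y * z * y⁻¹ ∧ z * q = y * q * y⁻¹ ∧ y * a = a * y ∧
    y * c = c * y ∧ d * y = y * d ∧ p * y * p⁻¹ = y⁻¹ * d⁻¹ := by
  obtain ⟨gq, gz, ga, gd, gp, gc, -, gy⟩ := H.mM
  rw [← hy] at gy
  obtain ⟨a1, a2, a3, a4, a5, a6, a7⟩ := fB4
  have f := @H.fnM.eq
  exact ⟨f (by gm) (by gm) a1, f (by gm) (by gm) a2, f (by gm) (by gm) a3, f (by gm) (by gm) a4,
    f (by gm) (by gm) a5, f (by gm) (by gm) a6, f (by gm) (by gm) a7⟩

theorem H2.exists_K (H : H2 z q r s t a b d p c g) :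
    ∃ K : Subgroup G, (∀ x ∈ K, x * a = a * x) ∧ (∀ t, t * a = a * t → ∀ k ∈ K, t * k * t⁻¹ ∈ K) ∧
      (∀ x ∈ K, x * z = z * x → x = 1 ∨ iV z q x) ∧ (∀ t, t * a = a * t → t ^ 3 = 1 → t ∈ K) ∧
      z ∈ K ∧ q ∈ K ∧ ∀ t, t * a = a * t → ∃ k ∈ K, ∃ w, (w = 1 ∨ iV a c w) ∧ t = k * w := by
  obtain ⟨⟨z2, q2, -⟩, ⟨qz, -⟩, ⟨az, -⟩, -⟩ := H.rel
  obtain ⟨y3, e1, e2, ya, -⟩ := H.rely rfl
  generalize g * p * d = y at *
  obtain ⟨K, h1, h2, h3, h4, h5⟩ := transfer_lem (V := clo [z, q]) H.sylE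
    (fun x hx y hy => by
      simp only [mem_inf, mem_centralizer_singleton_iff] at hx hy
      exact (H.fE' hx.1 hx.2).2.2.1 y hy.1 hy.2)
    (fun x hx => by
      simp only [mem_inf, mem_centralizer_singleton_iff] at hx
      exact (H.fE' hx.1 hx.2).1)
    (fun n hn h x hx => by
      simp only [mem_inf, mem_centralizer_singleton_iff] at hx hn
      rcases (H.fA' hn (H.normE h).1 (H.normE h).2).2 x hx.1 hx.2 with e | e
      · rw [e]; exact one_mem _
      · exact iV_mem e)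
  simp only [mem_inf, mem_centralizer_singleton_iff] at h2 h3 h4 h5
  have h1 : ∀ x ∈ K, x * a = a * x := fun x hx => mem_centralizer_singleton_iff.mp (h1 hx)
  have h6 : ∀ t, t * a = a * t → t ^ 3 = 1 → t ∈ K := fun t ht e => by
    have := h4 (t * t) (Commute.mul_left ht ht)
    rwa [← mul_assoc, ← pow_three', e, one_mul] at this
  have my := h6 y ya y3
  have mqz : q * z ∈ K := by
    have := mul_mem my (h2 z az.symm _ (inv_mem my))
    rwa [inv_eq_of_sq z2, ← mul_assoc, ← mul_assoc, ← e1] at this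
  have mz : z ∈ K := by
    have := mul_mem (mul_mem my mqz) (inv_mem my)
    rwa [← conj_mul, ← e1, ← e2, mul_assoc, q2, mul_one] at this
  have mq : q ∈ K := by simpa [mul_assoc, z2] using mul_mem mqz mz
  refine ⟨K, h1, h2, fun x hx e => memV z2 q2 qz x (h3 x hx ⟨e, h1 x hx⟩), h6, mz, mq, fun t ht => ?_⟩
  obtain ⟨k, hk, e, he, rfl⟩ := h5 t ht
  obtain ⟨v, w, k1, k2, rfl⟩ := (H.fE' he.1 he.2).2.2.2
  refine ⟨k * v, mul_mem hk ?_, w, k2, by rw [mul_assoc]⟩
  rcases k1 with rfl | rfl | rfl | rfl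
  exacts [one_mem _, mz, mq, mul_mem mz mq]

theorem H2.exists_k (H : H2 z q r s t a b d p c g) {y : G} (hy : y = g * p * d) :
    ∃ k, k * k = 1 ∧ k * y * k⁻¹ = y⁻¹ ∧ (k * z) ^ 3 = 1 ∧ k * d = d * k ∧ (k * p) ^ 3 = 1 ∧
      k * a = a * k ∧ ∀ x, x * a = a * x → x ∈ clo [z, y, k, a, c] := by
  obtain ⟨⟨z2, q2, p2, a2, b2, c2, d3⟩, ⟨qz, pz, pq, dz, dq, dp, bz, bq, -⟩,
    ⟨az, aq, cz, cq, ca, dc⟩, z1, qn, dn, a1, cn⟩ := H.rel
  obtain ⟨y3, e1, e2, ya, yc, dy, py⟩ := H.rely hy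
  obtain ⟨K, h1, h2, h3, h4, mz, mq, h5⟩ := H.exists_K
  have my := h4 y ya y3
  have cV : ∀ w, (w = 1 ∨ iV a c w) → ∀ x, x * a = a * x → x * c = c * x → x * w = w * x := by
    rintro w (rfl | rfl | rfl | rfl) x k1 k2
    exacts [by simp, k1, k2, Commute.mul_right k1 k2]
  have y2 : y⁻¹ = y * y := by rw [inv_eq_iff_mul_eq_one, ← y3, pow_three]
  have e3 : y * (z * q) * y⁻¹ = z := by rw [← conj_mul, ← e1, ← e2, ← mul_assoc, qz, mul_assoc, q2, mul_one]
  have zq2 : z * q * (z * q) = 1 := by rw [mul_assoc, ← mul_assoc q, qz, mul_assoc, q2, mul_one, z2]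
  obtain ⟨Cy, hK | ⟨k, mk, k2, ky, kz, hK⟩⟩ := A4.sub mz my z2 z1 y3 e1 e2 qn h3
  · exfalso
    have nV : ∀ x, x * a = a * x → ∀ v ∈ clo [z, q], x * v * x⁻¹ ∈ clo [z, q] := by
      intro x hx
      obtain ⟨k, hk, w, hw, rfl⟩ := h5 x hx
      refine fun v hv => (mem_normalizer_iff.mp (mul_mem (clo_le (K := normalizer _) ?_ (hK k hk))
        (norm_clo ?_)) v).mp hv
      · simp only [List.forall_mem_cons]
        refine ⟨le_normalizer (mem_clo (by simp)), norm_clo ?_, by simp⟩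
        simp only [List.forall_mem_cons, ← e1, ← e2]
        exact ⟨iV_mem (by simp [iV]), iV_mem (by simp [iV]), by simp⟩
      · simp only [List.forall_mem_cons, cj_of_comm (cV w hw z az.symm cz.symm).symm,
          cj_of_comm (cV w hw q aq.symm cq.symm).symm]
        exact ⟨iV_mem (by simp [iV]), iV_mem (by simp [iV]), by simp⟩
    have inE : ∀ x, x * a = a * x → x * x = 1 → x * z = z * x := fun x hx x2 => by
      have k : ∀ v, iV z q v → iV z q (x * v * x⁻¹) := fun v hv =>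
        (memV z2 q2 qz _ (nV x hx v (iV_mem hv))).resolve_left fun e => by
          have := H.cjV hv
          rw [show v = 1 by simpa using e] at this
          exact z1 (by simpa using this)
      exact (H.fA' hx (k z (by simp [iV])) (k q (by simp [iV]))).1.resolve_right fun e => e.1 x2
    have key : ∀ z', IsConj z z' → ∃ v, iV z q v ∧ z' * v = v * z' := by
      intro z' hz'
      have z2' : z' * z' = 1 := by
        obtain ⟨x, rfl⟩ := isConj_iff.mp hz'
        rw [conj_mul, z2]; simp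
      rcases dih (mem_top z') (mem_top a) z2' a2 with ⟨u, -, -, e⟩ | ⟨w, -, w1, w2, k1, k2, -⟩
      · exact absurd (hz'.trans (isConj_iff.mpr ⟨u, e⟩)) H.za
      · rcases (H.fE' (inE w k2 w2) k2).2.1 with e | e | ⟨h, hz, e⟩
        · exact absurd e w1
        · exact ⟨w, e, k1.symm⟩
        · refine ⟨z, by simp [iV], ?_⟩
          have := inE (h⁻¹ * z' * h) (by
            have := cj_comm (g := h⁻¹) k1.symm
            rwa [e, inv_inv, show h⁻¹ * (h * a * h⁻¹) * h = a by group] at this)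
            (by simp [mul_assoc, ← mul_assoc z' z', z2'])
          have := cj_comm (g := h) this
          rwa [cj_of_comm hz, show h * (h⁻¹ * z' * h) * h⁻¹ = z' by group] at this
    have k1 : g * p * g⁻¹ * q = q * (g * p * g⁻¹) := H.gz ▸ cj_comm pz
    have k2 : ¬ Commute (g * p * g⁻¹) z := fun e => by
      have := cj_comm (g := g⁻¹) e.eq
      rw [← H.gq] at this
      simp only [inv_inv, mul_assoc, inv_mul_cancel_left, inv_mul_cancel, mul_one] at this
      rw [this] at pq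
      exact z1 (by simpa using pq.symm)
    have k3 : p * q * (p * q) = z := by
      rw [inv_eq_of_sq p2] at pq
      rw [← mul_assoc, pq, mul_assoc, q2, mul_one]
    obtain ⟨v, hv, e⟩ := key (b⁻¹ * (g * p * g⁻¹) * b) (H.zq.trans (isConj_iff.mpr
      ⟨b⁻¹ * g * b, by rw [← bq]; group⟩))
    have e := cj_comm (g := b) e
    rw [show b * (b⁻¹ * (g * p * g⁻¹) * b) * b⁻¹ = g * p * g⁻¹ by group] at e
    generalize g * p * g⁻¹ = x at *
    rcases hv with rfl | rfl | rfl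
    · rw [cj_of_comm bz] at e; exact k2 e
    · rw [bq] at e
      exact k2 (k3 ▸ (Commute.mul_right e k1).mul_right (Commute.mul_right e k1))
    · rw [← conj_mul, bq, cj_of_comm bz] at e
      have := (Commute.mul_right e k1).mul_right (Commute.mul_right e k1)
      rw [show z * p * q * (z * p * q) = z * (p * (q * z)) * (p * q) by group, qz, ← mul_assoc p, pz,
        show z * (z * p * q) * (p * q) = z * z * (p * q * (p * q)) by group, z2, one_mul, k3] at this
      exact k2 this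
  have ki := inv_eq_of_sq k2
  have tri : ∀ k' ∈ K, k' * y * k'⁻¹ = y⁻¹ → k' = k ∨ k' = k * y ∨ k' = k * y⁻¹ := fun k' m e => by
    have := Cy (k * k') (mul_mem mk m) (comm_of_cj (by rw [cj_mul', e, ← conj_inv, ky, inv_inv]))
    refine this.imp (fun e => ?_) (Or.imp (fun e => ?_) fun e => ?_)
    · rw [← ki]; exact eq_inv_of_mul_eq_one_right e
    · rw [← e, ← mul_assoc, k2, one_mul]
    · rw [← e, ← mul_assoc, k2, one_mul]
  have y1 : ∀ v, v ^ 3 = 1 → c * v = v * c → c * k * c⁻¹ = k * v → c * k * c⁻¹ = k := by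
    intro v v3 vc e
    have : c * (c * k * c⁻¹) * c⁻¹ = k := by rw [← cj_mul', c2]; simp
    rw [e, ← conj_mul, e, cj_of_comm vc, mul_assoc, mul_eq_left] at this
    rw [e, eq_one_of_sq_cube this v3, mul_one]
  have kc : c * k * c⁻¹ = k := by
    rcases tri (c * k * c⁻¹) (h2 c ca k mk) (by
      rw [← cj_of_comm yc.symm, conj_mul, conj_inv, conj_mul, ky, conj_inv]) with e | e | e
    · exact e
    · exact y1 y y3 yc.symm e
    · exact y1 y⁻¹ (by rw [inv_pow, y3, inv_one]) (Commute.inv_right yc.symm) e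
  have Tc : ∀ x, x * a = a * x → x * c = c * x := fun x hx => by
    obtain ⟨k', hk, w, hw, rfl⟩ := h5 x hx
    exact Commute.mul_left (comm_clo (by simp [cz, yc, comm_of_cj kc]) k' (hK k' hk))
      (cV w hw c ca rfl).symm
  have dT : ∀ x, x * a = a * x → d * x * d⁻¹ * a = a * (d * x * d⁻¹) := fun x hx => by
    have := cj_comm (g := d) (Commute.mul_right hx (Tc x hx)).eq
    rwa [← conj_mul (a := a), dc, ← H.ec, ← mul_assoc c, ca, mul_assoc a, c2, mul_one] at this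
  have uniq : ∀ v, (v = q ∨ v = z * q) → (k * v) ^ 3 ≠ 1 := by
    intro v hv e
    have v2 : v * v = 1 := by rcases hv with rfl | rfl <;> assumption
    have br : ∀ v, v * v = 1 → (k * v) ^ 3 = 1 → k * v * k = v * k * v := fun v v2 e => by
      rw [← mul_inv_eq_one, mul_inv_rev, mul_inv_rev, ki, inv_eq_of_sq v2, ← e, pow_three']; group
    have vz : v * z = z * v := by rcases hv with rfl | rfl
                                  · exact qz
                                  · rw [mul_assoc, qz]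
    have mv : v ∈ K := by rcases hv with rfl | rfl
                          exacts [mq, mul_mem mz mq]
    have w2 : k * (z * v) * k⁻¹ * (k * (z * v) * k⁻¹) = 1 := by
      rw [conj_mul, mul_assoc z, ← mul_assoc v, vz, mul_assoc z, v2, mul_one, z2]; simp
    have w3 : k * (z * v) * k⁻¹ = z * (k * (z * v) * k⁻¹) * v := by
      calc k * (z * v) * k⁻¹ = k * z * (k * k) * v * k := by rw [k2, ki]; group
        _ = (k * z * k) * (k * v * k) := by group
        _ = _ := by rw [br z z2 kz, br v v2 e, ki]; group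
    have wa := h1 _ (mul_mem (mul_mem mk (mul_mem mz mv)) (inv_mem mk))
    generalize k * (z * v) * k⁻¹ = w at *
    have w4 : w * v * w⁻¹ = z := by
      conv_lhs => enter [1, 1]; rw [w3]
      rw [mul_assoc (z * w) v v, v2]; group
    have w5 : w * z * w⁻¹ = v := by rw [← w4, ← cj_mul', w2]; simp
    have w6 : iV z q (w * q * w⁻¹) := by
      rcases hv with rfl | rfl
      · exact Or.inl w4
      · refine Or.inr (Or.inl ?_)
        rw [← conj_mul, w5, mul_assoc z, mul_eq_left] at w4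
        rw [eq_inv_of_mul_eq_one_right w4, inv_eq_of_sq q2]
    rcases (H.fA' wa (by rw [w5]; rcases hv with rfl | rfl <;> simp [iV]) w6).1 with e | e
    · rw [cj_of_comm e] at w5
      rcases hv with rfl | rfl
      · exact qn w5.symm
      · have q1 : q = 1 := by simpa using w5
        exact z1 (by simpa [q1] using e1.symm)
    · exact e.1 w2
  have kd : d * k * d⁻¹ = k := by
    have k1 : (d * k * d⁻¹ * z) ^ 3 = 1 := by
      rw [← cj_of_comm dz, conj_mul, conj_pow, kz]; simp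
    have m : d * k * d⁻¹ ∈ K := by
      have := h4 _ (Commute.mul_left (dT k (h1 k mk)) az.symm) k1
      simpa [mul_assoc, z2] using mul_mem this mz
    have yk : y * k = k * y⁻¹ := by rw [← ky, ← mul_assoc, ← mul_assoc, k2, one_mul, ki]
    rcases tri _ m (by rw [← cj_of_comm dy, conj_mul, conj_inv, conj_mul, ky, conj_inv]) with e | e | e
    · exact e
    · refine absurd ?_ (uniq (z * q) (Or.inr rfl))
      have : y * (k * (z * q)) * y⁻¹ = k * y * z := by
        rw [← conj_mul, e3, yk, mul_assoc k, ← mul_inv_rev, ← y2, inv_inv]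
      rw [e, ← this, conj_pow] at k1
      simpa using k1
    · refine absurd ?_ (uniq q (Or.inl rfl))
      have : y * (k * y⁻¹ * z) * y⁻¹ = k * q := by
        rw [e1, ← mul_assoc, ← mul_assoc, yk, mul_assoc k, ← mul_inv_rev, ← y2, inv_inv]; group
      rw [← this, conj_pow, ← e, k1]; simp
  have kd' : k * d * k⁻¹ = d := cj_of_comm (comm_of_cj kd).symm
  refine ⟨k, k2, ky, kz, (comm_of_cj kd).symm, ?_, h1 k mk, fun x hx => ?_⟩
  · have s1 : k * p * d * (k * p)⁻¹ = d := by rw [cj_mul', cj_of_comm dp.symm, kd']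
    have s2 : k * p * y * (k * p)⁻¹ = y * d⁻¹ := by
      rw [cj_mul', py, ← conj_mul, ← conj_inv, ← conj_inv, ky, kd', inv_inv]
    have s3 : ∀ x, k * p * (x * d⁻¹) * (k * p)⁻¹ = k * p * x * (k * p)⁻¹ * d⁻¹ := fun x => by
      rw [← conj_mul, ← conj_inv, s1]
    obtain ⟨v, hv, e⟩ := A4.quot y3 ya.symm dy a2 d3 H.ec dc.symm a1 cn (fun x k1 k2 => by
      obtain ⟨k', hk, w, hw, rfl⟩ := h5 x k2
      have k3 := cV w hw y ya yc
      have k4 : k' * w = w * k' := cV w hw k' (h1 k' hk) (Tc k' (h1 k' hk))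
      refine ⟨w, hw, ?_⟩
      rw [k4, inv_mul_cancel_left]
      rcases Cy k' hk (by rwa [mul_assoc, ← k3, ← mul_assoc, ← mul_assoc, mul_left_inj] at k1)
        with e | e | e <;> simp [e]) ((k * p) ^ 3)
      (comm_of_cj (by
        rw [pow_three, cj_mul' (k * p), cj_mul' (k * p), s2, s3, s2, s3, s3, s2, mul_assoc, mul_assoc,
          ← pow_three, inv_pow, d3]; simp))
      (comm_of_cj (by rw [pow_three, cj_mul' (k * p), cj_mul' (k * p), s1, s1, s1]))
    have i1 : k * (k * p) ^ 3 * k⁻¹ = ((k * p) ^ 3)⁻¹ := by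
      rw [← conj_pow, ← inv_pow, mul_inv_rev, inv_eq_of_sq p2, ← mul_assoc, k2, one_mul]
    have i2 : p * (k * p) ^ 3 * p⁻¹ = ((k * p) ^ 3)⁻¹ := by
      rw [← conj_pow, ← inv_pow, mul_inv_rev, inv_eq_of_sq p2, ki, ← mul_assoc, mul_assoc _ p, p2,
        mul_one]
    have kv : k * v * k⁻¹ = v⁻¹ := by
      rcases hv with rfl | rfl | rfl
      exacts [by simp, ky, by rw [← conj_inv, ky]]
    have dv : d * v⁻¹ = v⁻¹ * d := by
      rcases hv with rfl | rfl | rfl
      exacts [by simp, Commute.inv_right dy, by rw [inv_inv, dy]]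
    have d1 : d⁻¹ ≠ 1 := fun e => dn (by rw [e, inv_eq_one.mp e])
    rcases e with e | e | e
    · rw [e] at i2 ⊢
      rcases hv with rfl | rfl | rfl
      · rfl
      · rw [py] at i2; exact absurd (by simpa using i2) d1
      · rw [← conj_inv, py] at i2; exact absurd (by simpa using i2) d1
    · rw [e, ← conj_mul, kd', kv, dv, mul_inv_rev, mul_right_inj] at i1
      exact absurd i1.symm dn
    · rw [e, ← conj_mul, ← conj_inv, kd', kv, mul_inv_rev, inv_inv, ← dv, mul_left_inj] at i1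
      exact absurd i1 dn
  · obtain ⟨k', hk, w, hw, rfl⟩ := h5 x hx
    refine mul_mem (clo_le (fun x hx => mem_clo (by simp at hx ⊢; tauto)) (hK k' hk)) ?_
    rcases hw with rfl | hw
    · exact one_mem _
    · exact clo_le (fun x hx => mem_clo (by simp at hx ⊢; tauto)) (iV_mem hw)

end Cfsg.Agent.HJ
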