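/-
Groups of Hall–Janko type: identification with the permutation group on 100 points.
-/
import Cfsg.Agent.HJ.StepC
import Cfsg.Agent.HJ.Facts2

set_option autoImplicit false
set_option maxRecDepth 100000

namespace Cfsg.Agent.HJ

open Subgroup A4

variable {G : Type*} [Group G] {z q r s t a b d p c g : G}

set_option hygiene false in
local notation "ΔH" => gr gH [q, r, s, t, z, a, b, d]
set_option hygiene false in
local notation "ΔX" => gr gX [q, p, z, d, g, k]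
set_option hygiene false in
local notation "ΔG" => gr gG [q, r, s, t, z, a, b, d, p, g, k]

theorem Ev.exists_inv {x : G} (h : Ev x) : ∃ n : ℕ, x ^ n * x ^ n = 1 ∧ x ^ n ≠ 1 := by
  obtain ⟨h1, h2⟩ := h
  rw [← pow_mul] at h1 h2
  by_cases e : x ^ 15 * x ^ 15 = 1
  · exact ⟨15, e, h1⟩
  · exact ⟨30, by rw [← pow_add, ← h2, ← pow_mul], by rwa [← pow_add] at e⟩

theorem fD1 : z0 * z0 = 1 ∧ q0 * q0 = 1 ∧ q0 = g0 * z0 * g0⁻¹ ∧
    z0 * q0 = p0 * g0 * z0 * (p0 * g0)⁻¹ ∧ p0 = k0 * p0 * z0 * k0 * z0 * (k0 * p0 * z0 * k0)⁻¹ := by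
  decide +kernel

variable [Finite G]

theorem H2.centX (H : H2 z q r s t a b d p c g) {k : G} (sat : Sat cX.RL [q, p, z, d, g, k])
    (kd : k * d = d * k) :
    Fn ΔX ∧ Inj ΔX ∧ ∀ x, x * d = d * x → x ∈ clo [q, p, z, d, g, k] := by
  obtain ⟨⟨z2, q2, p2, -⟩, ⟨qz, pz, pq, dz, dq, dp, -⟩, -, z1, qn, -⟩ := H.rel
  obtain ⟨gq, -, -, -, gz, -, -, gd, gp, -⟩ := H.m
  have fn := fn_of_le (leX (satX.zip sat)) chX_card
  obtain ⟨f1, f2, f3, f4, f5⟩ := fD1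
  have D1 : gr gD [q, p, z, d] ≤ ΔH := gr_le (by simp [gq, gz, gd, gp])
  have D2 : gr gD [q, p, z, d] ≤ ΔX := gr_le fun _ h => mem_clo (by simp at h ⊢; tauto)
  have mq : (q0, q) ∈ ΔX := mem_clo (by simp)
  have mp : (p0, p) ∈ ΔX := mem_clo (by simp)
  have mz : (z0, z) ∈ ΔX := mem_clo (by simp)
  have mg : (g0, g) ∈ ΔX := mem_clo (by simp)
  have mk : (k0, k) ∈ ΔX := mem_clo (by simp)
  have inj : Inj ΔX := by
    refine inj_of_fpf mz mq f1 f2 (fun x m e => ?_) ⟨_, _, mg, f3⟩ ⟨_, _, pm_mul mp mg, f4⟩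
    obtain ⟨y, -, m'⟩ := gr_right [q, p, z, d] (centD x (gr_mem m).1 e)
    rw [fn.eq (D2 m') m rfl] at m'
    exact H.inj x (D1 m')
  refine ⟨fn, inj, fun x hx => ?_⟩
  by_contra nx
  obtain ⟨D, hD, h1, h2⟩ := strongly_emb (X := clo [q, p, z, d, g, k]) (Y := centralizer {d})
    (fun y hy => mem_centralizer_singleton_iff.mpr
      (comm_clo (by simp [dq, dp, dz, H.gd, kd]) y hy)) (gr_mem mz).2 z2
    (fun c' hc e => by
      obtain ⟨x0, m0, m⟩ := H.lift e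
      have := LD_mem _ ((fH x0 m0).2.2 (H.inj.eq (by gm) (by gm) (mem_centralizer_singleton_iff.mp hc)))
      exact (gr_mem (D2 (mem_of_gr H.fn D1 m this).2)).2)
    (fun w hw w2 w1 => by
      obtain ⟨w0, m0, m⟩ := gr_left gX hw
      have := (fX w0 m0 (inj.eq (by gm) pm_one w2)).resolve_left fun e => w1 (fn.eq m pm_one e)
      rw [I45_eq, List.mem_map] at this
      obtain ⟨x0, e1, e2⟩ := this
      obtain ⟨x, e3, e4⟩ := gr_right [q, p, z, d, g, k] (T45_mem _ e1)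
      exact ⟨x, e3, fn.eq m (by gm) e2.symm⟩)
    (mem_centralizer_singleton_iff.mpr hx) nx
  have q1 : q ≠ 1 := fun e => z1 (by simpa [e] using H.gz)
  have p1 : p ≠ 1 := fun e => z1 (by simpa [e] using pq)
  have nE : ∀ w0 w, (w0, w) ∈ ΔX → w ∈ D → ¬ Ev w0 := fun w0 w m hw e => by
    obtain ⟨n, e1, e2⟩ := e.exists_inv
    exact e2 (inj.eq (by gm) pm_one (h1 _ (pow_mem hw n) (fn.eq (by gm) pm_one e1)))
  have co : ∀ w0 ∈ clo gX, ∀ v0 ∈ clo gX, v0 * z0 * v0⁻¹ = w0 * z0 * w0⁻¹ →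
      ∃ x ∈ LD, v0 = w0 * x := fun w0 m1 v0 m2 e => ⟨w0⁻¹ * v0, memD _ (centD _
        (mul_mem (inv_mem m1) m2) (comm_of_cj (by rw [cj_mul', e]; group))), by simp⟩
  obtain ⟨d1, m1, e1⟩ := h2 z (gr_mem mz).2 q (gr_mem mq).2 z2 z1 q2 q1
  obtain ⟨d2, m2, e2⟩ := h2 z (gr_mem mz).2 p (gr_mem mp).2 z2 z1 p2 p1
  obtain ⟨v1, m3, m4⟩ := gr_left gX (hD m1)
  obtain ⟨v2, m5, m6⟩ := gr_left gX (hD m2)
  obtain ⟨x1, k1, rfl⟩ := co g0 (gr_mem mg).1 v1 m3 ((inj.eq (by gm) mq e1).trans f3)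
  obtain ⟨x2, k2, rfl⟩ := co (k0 * p0 * z0 * k0) (gr_mem (y := k * p * z * k) (by gm)).1 v2 m5
    ((inj.eq (by gm) mp e2).trans f5)
  rcases fX2 x1 k1 with e | e
  · exact nE _ _ m4 m1 e
  · rcases e x2 k2 with e | e | e
    · exact nE _ _ m6 m2 e
    · exact nE _ _ (pm_mul m4 m6) (mul_mem m1 m2) e
    · exact nE _ _ (pm_mul m4 (pm_inv m6)) (mul_mem m1 (inv_mem m2)) e

theorem H2.main (H : H2 z q r s t a b d p c g) : ∃ k, Fn ΔG ∧ Inj ΔG ∧
    (∀ x, x ∈ clo [q, r, s, t, z, a, b, d, p, g, k]) ∧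
    ∀ x ∈ clo gG, x * d0 = d0 * x → x ∈ clo gX := by
  obtain ⟨⟨z2, q2, p2, a2, b2, -⟩, ⟨qz, pz, pq, dz, dq, dp, bz, bq, bd⟩, ⟨az, aq, -⟩, z1, qn, -⟩ := H.rel
  obtain ⟨gq, gr', gs, gt, gz, ga, gb, gd, gp, gc⟩ := H.m
  obtain ⟨k, k2, ky, kz, kd, kp, ka, hT⟩ := H.exists_k rfl
  have sX := satX
  simp only [cX.RL, Sat, List.forall_mem_append] at sX
  have sat : Sat cX.RL [q, p, z, d, g, k] := by
    refine Sat.append (Sat.append (Sat.tr H.fn (xs := gX) (ys := [q, p, z, d, g, k])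
      (S := [0, 1, 2, 3]) ⟨gq, gp, gz, gd, trivial⟩ (by decide) sX.1.1) ?_) ?_
    · have e1 := H.gz
      have e2 := H.gp
      rw [inv_eq_of_sq H.g2] at e1
      simp only [pow_succ, pow_zero, one_mul, mul_assoc] at e2
      have e7 : g * (z * (g * q)) = 1 := by rw [← mul_assoc, ← mul_assoc, e1, q2]
      have e8 : g * (d * (g * d⁻¹)) = 1 := by
        rw [← mul_assoc, H.gd, mul_assoc, ← mul_assoc g g, H.g2]; simp
      simp only [Sat, cX.R2, List.forall_mem_cons]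
      simp [atm, H.g2, e2, e7, e8]
    · have e1 : k * (g * p * d) * (k * (g * p * d)) = 1 := by
        rw [inv_eq_of_sq k2] at ky
        rw [← mul_assoc, ky, inv_mul_cancel]
      have e8 : k * (d * (k * d⁻¹)) = 1 := by
        rw [← mul_assoc, kd, mul_assoc, ← mul_assoc k k, k2]; simp
      simp only [pow_succ, pow_zero, one_mul, mul_assoc] at e1 kz kp
      simp only [Sat, cX.R3, List.forall_mem_cons]
      simp [atm, k2, e1, e8, kz, kp]
  obtain ⟨fnX, injX, cX⟩ := H.centX sat kd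
  have mq : (q0, q) ∈ ΔX := mem_clo (by simp)
  have mp : (p0, p) ∈ ΔX := mem_clo (by simp)
  have mz : (z0, z) ∈ ΔX := mem_clo (by simp)
  have md : (d0, d) ∈ ΔX := mem_clo (by simp)
  have mg : (g0, g) ∈ ΔX := mem_clo (by simp)
  have mk : (k0, k) ∈ ΔX := mem_clo (by simp)
  obtain ⟨f1, f2, f3, f4, f5⟩ := fD1
  have bi := inv_eq_of_sq b2
  have bp : b * p * b⁻¹ = q := by rw [← bq, ← cj_mul', b2]; simp
  have w1 : b * g * b * (p * (k * (z * (k * (p * k))))) = 1 ∨ b * g * b * (k * (z * (p * k))) = 1 := by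
    obtain ⟨w0, m0, m⟩ := gr_left gX (cX (b * g * b⁻¹) (by
      have := cj_comm (g := b) (Commute.inv_right H.gd).eq
      rwa [← conj_inv (a := d), bd, inv_inv] at this))
    have e1 : w0 * z0 * w0⁻¹ = p0 := injX.eq (by gm) mp (by
      rw [cj_mul', cj_mul', cj_of_comm (Commute.inv_left bz).eq, H.gz, bq])
    have e2 := memD _ (centD ((k0 * p0 * z0 * k0)⁻¹ * w0) (mul_mem (inv_mem
      (gr_mem (y := k * p * z * k) (by gm)).1) m0) (comm_of_cj (by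
        rw [cj_mul', e1]; generalize k0 * p0 * z0 * k0 = m at f5 ⊢; rw [f5]; group)))
    have e3 := fX3 _ e2
    rw [mul_inv_cancel_left] at e3
    have e4 := e3 (injX.eq (by gm) pm_one (by rw [conj_mul, H.g2]; simp))
      (injX.eq (by gm) pm_one (by rw [← bp, conj_mul, conj_pow, H.gp]; simp))
    rw [bi] at m
    exact e4.imp (fnX.eq (by gm) pm_one) (fnX.eq (by gm) pm_one)
  have sG := satG
  simp only [cG1.RL, Sat, List.forall_mem_append] at sG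
  have s1 : Sat (cG1.R1 ++ cG1.R2 ++ cG1.R3) [q, r, s, t, z, a, b, d, p, g, k] := by
    refine Sat.append (Sat.append ?_ ?_) ?_
    · exact Sat.tr H.fn (xs := gG) (ys := [q, r, s, t, z, a, b, d, p, g, k])
        (S := [0, 1, 2, 3, 4, 5, 6, 7, 8]) ⟨gq, gr', gs, gt, gz, ga, gb, gd, gp, trivial⟩
        (by decide) sG.1.1.1
    · exact Sat.tr H.fnM (xs := gG) (ys := [q, r, s, t, z, a, b, d, p, g, k])
        (S := [1, 2, 3, 5, 9]) ⟨mem_clo (by simp), mem_clo (by simp), mem_clo (by simp),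
          mem_clo (by simp), mem_clo (by simp), trivial⟩ (by decide) sG.1.1.2
    · exact Sat.tr fnX (xs := gG) (ys := [q, r, s, t, z, a, b, d, p, g, k])
        (S := [0, 4, 7, 8, 9, 10]) ⟨mq, mz, md, mp, mg, mk, trivial⟩ (by decide) sG.1.2
  have e5 : k * (a * (k * a)) = 1 := by rw [← mul_assoc a, ← ka, mul_assoc, a2, mul_one, k2]
  have Hle : clo [q, r, s, t, z, a, b, d] ≤ clo [q, r, s, t, z, a, b, d, p, g, k] :=
    clo_le fun _ h => mem_clo (by simp at h ⊢; tauto)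
  rcases w1 with w1 | w1
  swap
  · have s2 : Sat cG2.RL [q, r, s, t, z, a, b, d, p, g, k] := by
      refine Sat.append s1 ?_
      simp only [Sat, cG2.R4, List.forall_mem_cons]
      simp only [mul_assoc] at w1
      simp [atm, e5, w1]
    have := eq_of_le_of_card_ge Hle ((leG2 s2 H.sat).2.trans (by rw [card_gr H.fn H.inj]; exact chH_card))
    exact absurd (H.gz.symm.trans (cj_of_comm ((H.eq g).mp (this ▸ mem_clo (by simp))))) qn
  have s2 : Sat cG1.RL [q, r, s, t, z, a, b, d, p, g, k] := by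
    refine Sat.append s1 ?_
    simp only [Sat, cG1.R4, List.forall_mem_cons]
    simp only [mul_assoc] at w1
    simp [atm, e5, w1]
  have fn : Fn ΔG := fn_of_le (leG1 (satG.zip s2) (satH.zip H.sat)) chG_card
  have HG : ΔH ≤ ΔG := gr_le fun _ h => mem_clo (by simp at h ⊢; tauto)
  have XG : ΔX ≤ ΔG := gr_le fun _ h => mem_clo (by simp at h ⊢; tauto)
  have inj : Inj ΔG := by
    refine inj_of_fpf (XG mz) (XG mq) f1 f2 (fun x m e => ?_) ⟨_, _, XG mg, f3⟩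
      ⟨_, _, XG (pm_mul mp mg), f4⟩
    obtain ⟨y, -, m'⟩ := H.down (centH x (gr_mem m).1 e)
    rw [fn.eq (HG m') m rfl] at m'
    exact H.inj x m'
  refine ⟨k, fn, inj, fun x => ?_, fun x hx e => ?_⟩
  swap
  · obtain ⟨y, -, m⟩ := gr_right [q, r, s, t, z, a, b, d, p, g, k] hx
    have md := XG md
    obtain ⟨x', m1, m2⟩ := gr_left gX (cX y (fn.eq (by gm) (by gm) e))
    rwa [inj.eq m (XG m2) rfl]
  have hp := (gr_mem (XG mp)).2
  have hg := (gr_mem (XG mg)).2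
  have hT' : ∀ x, x * a = a * x → x ∈ clo [q, r, s, t, z, a, b, d, p, g, k] := fun x hx =>
    clo_le (by
      have := (gr_mem (HG gc)).2
      have := mul_mem (mul_mem hg hp) (gr_mem (XG md)).2
      simp [*, mem_clo]) (hT x hx)
  have hH : ∀ x, x * z = z * x → x ∈ clo [q, r, s, t, z, a, b, d, p, g, k] := fun x hx =>
    Hle ((H.eq x).mpr hx)
  generalize clo [q, r, s, t, z, a, b, d, p, g, k] = G0 at *
  have cV : ∀ v, iV z q v → ∃ m ∈ G0, m * v * m⁻¹ = z := by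
    rintro v (rfl | rfl | rfl)
    · exact ⟨1, one_mem _, by simp⟩
    · exact ⟨g, hg, H.gq⟩
    · exact ⟨g * p, mul_mem hg hp, by
        rw [cj_mul', ← conj_mul (b := p), cj_of_comm pz, pq, ← mul_assoc z, z2, one_mul, H.gq]⟩
  have sq' : ∀ {v}, IsConj z v → v * v = 1 := fun h => by
    obtain ⟨x, rfl⟩ := isConj_iff.mp h
    rw [conj_mul, z2]; simp
  have A1 : ∀ v, IsConj z v → v * z = z * v → ∃ m ∈ G0, m * v * m⁻¹ = z := fun v h1 h2 => by
    rcases H.invol h2 (sq' h1) with e | e | ⟨h, e1, e⟩ | ⟨h, -, e⟩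
    · exact absurd (by simpa [e] using h1) z1
    · exact ⟨1, one_mem _, by simp [e]⟩
    · exact ⟨g * h⁻¹, mul_mem hg (inv_mem (hH h e1)), by rw [← H.gq, e]; group⟩
    · exact absurd (h1.trans (isConj_iff.mpr ⟨h⁻¹, by rw [e]; group⟩)) H.za
  have A2 : ∀ v, IsConj z v → v * a = a * v → ∃ m ∈ G0, m * v * m⁻¹ = z := fun v h1 h2 => by
    obtain ⟨x, k1, k2, k3⟩ := H.sylT h2 (sq' h1)
    obtain ⟨m, k4, k5⟩ := cV _ (H.ivE k2 k3 (h1.trans (isConj_iff.mpr ⟨x, rfl⟩)))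
    exact ⟨m * x, mul_mem k4 (hT' x k1), by rw [cj_mul', k5]⟩
  have cx : IsConj z (x * z * x⁻¹) := isConj_iff.mpr ⟨x, rfl⟩
  obtain ⟨m, k1, k2⟩ : ∃ m ∈ G0, m * (x * z * x⁻¹) * m⁻¹ = z := by
    generalize x * z * x⁻¹ = v at cx
    rcases dih (mem_top v) (mem_top a) (sq' cx) a2 with ⟨u, -, -, e⟩ | ⟨w, -, w1, w2, k1, k2, -⟩
    · exact absurd (cx.trans (isConj_iff.mpr ⟨u, e⟩)) H.za
    obtain ⟨y, k3, k4, k5⟩ := H.sylT k2 w2
    have k6 := cj_comm (g := y) k1.symm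
    rcases (H.fE' k4 k5).2.1 with e | e | ⟨h, e1, e⟩
    · exact absurd (by simpa using e) w1
    · obtain ⟨m, k7, k8⟩ := cV _ e
      obtain ⟨m', k9, k10⟩ := A1 (m * (y * v * y⁻¹) * m⁻¹)
        (cx.trans (isConj_iff.mpr ⟨m * y, cj_mul' ..⟩)) (k8 ▸ cj_comm k6)
      exact ⟨m' * (m * y), mul_mem k9 (mul_mem k7 (hT' y k3)), by rw [cj_mul', cj_mul', k10]⟩
    · obtain ⟨m', k9, k10⟩ := A2 (h⁻¹ * (y * v * y⁻¹) * h⁻¹⁻¹)
        (cx.trans (isConj_iff.mpr ⟨h⁻¹ * y, cj_mul' ..⟩)) (by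
          have := cj_comm (g := h⁻¹) k6
          rwa [e, show h⁻¹ * (h * a * h⁻¹) * h⁻¹⁻¹ = a by group] at this)
      exact ⟨m' * (h⁻¹ * y), mul_mem k9 (mul_mem (inv_mem (hH h e1)) (hT' y k3)),
        by rw [cj_mul', cj_mul', k10]⟩
  simpa using mul_mem (inv_mem k1) (hH (m * x) (comm_of_cj (by rw [cj_mul', k2])))

end Cfsg.Agent.HJ
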