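/-
Groups of Hall–Janko type: from the hypotheses of the statements to the identification.
-/
import Cfsg.Agent.HJ.StepD
import Cfsg.Agent.Comp.Layer
import Cfsg.Agent.S0824
import Cfsg.Agent.S0215

set_option autoImplicit false
set_option maxRecDepth 100000

namespace Cfsg.Agent.HJ

open Subgroup A4
open scoped commutatorElement

variable {G : Type*} [Group G]

/-- `G` is isomorphic to the group on 100 points -/
def IsoΓ (G : Type*) [Group G] : Prop :=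
  (∃ φ : G →* Γ, Function.Injective φ ∧ φ.range = clo gG) ∧
    ∀ x ∈ clo gG, x * d0 = d0 * x → x ∈ clo gX

theorem exists_hom_gr {xs : List Γ} {ys : List G} (hf : Fn (gr xs ys)) (hi : Inj (gr xs ys))
    (ht : ∀ x, x ∈ clo ys) (hl : xs.length = ys.length := by rfl) :
    ∃ φ : G →* Γ, Function.Injective φ ∧ φ.range = clo xs ∧ ∀ x, (φ x, x) ∈ gr xs ys := by
  choose f hf1 hf2 using fun x => gr_left xs (ht x) hl
  refine ⟨MonoidHom.mk' f fun a b => hi.eq (hf2 _) (pm_mul (hf2 a) (hf2 b)) rfl,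
    fun a b e => hf.eq (hf2 a) (hf2 b) e, le_antisymm (by rintro _ ⟨x, rfl⟩; exact hf1 x)
      fun x hx => ?_, hf2⟩
  obtain ⟨y, -, m⟩ := gr_right ys hx hl
  exact ⟨y, hi.eq (hf2 y) m rfl⟩

variable [Finite G]

theorem sylow_cent {K Q : Subgroup G} {z : G} (hK : Q ≤ K) (hQ : IsPGroup 2 Q) (hz : z ∈ Q)
    (z1 : z ≠ 1) (cent : ∀ h ∈ K, (∀ x ∈ Q, h * x = x * h) → h = 1 ∨ h = z) :
    ∃ P, PLoc.IsSylowOf 2 P K ∧ Q ≤ P ∧ ∀ x ∈ P, x * z = z * x := by
  obtain ⟨P, hP, hQP⟩ := PLoc.exists_isSylowOf_ge hQ hK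
  have : Nontrivial P := ⟨⟨z, hQP hz⟩, 1, fun e => z1 (congrArg Subtype.val e)⟩
  have := hP.isP.center_nontrivial
  obtain ⟨⟨c, hc⟩, c1⟩ := exists_ne (1 : center P)
  have k : ∀ x ∈ P, x * (c : G) = c * x := fun x hx =>
    congrArg Subtype.val (mem_center_iff.mp hc ⟨x, hx⟩)
  rcases cent c (hP.le c.2) (fun x hx => (k x (hQP hx)).symm) with e | e
  · exact absurd (Subtype.ext (Subtype.ext e)) c1
  · exact ⟨P, hP, hQP, e ▸ k⟩

theorem conj_into {K P : Subgroup G} (hP : PLoc.IsSylowOf 2 P K) {t : G} (ht : t ∈ K)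
    (t2 : t * t = 1) : ∃ x ∈ K, x * t * x⁻¹ ∈ P := by
  obtain ⟨x, h1, h2⟩ := hP.exists_cj_le (PLoc.isPGroup_zpowers (x := t) (k := 1)
    (by rw [pow_one, pow_two, t2])) (zpowers_le.mpr ht)
  exact ⟨x, h1, h2 (PLoc.conj_mem_cj.mpr (mem_zpowers t))⟩

omit [Finite G] in
theorem sq_of_order {x : G} (h : orderOf x = 2) : x * x = 1 ∧ x ≠ 1 :=
  ⟨by rw [← pow_two, ← h, pow_orderOf_eq_one], fun e => by simp [e] at h⟩

section
variable {z : G} {Q : Subgroup G} (h : HypQ z Q)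
include h

theorem HypQ.sylow : ∃ P, PLoc.IsSylowOf 2 P ⊤ ∧ Q ≤ P ∧ ∀ x ∈ P, x * z = z * x :=
  sylow_cent le_top (IsPGroup.of_card (n := 5) h.card) h.zmem h.z1
    fun x _ hx => h.cent x (hx z h.zmem) hx

theorem HypQ.two (hcl : ∃ x y : G, orderOf x = 2 ∧ orderOf y = 2 ∧ ¬ IsConj x y) :
    ¬ ∀ x, x * z = z * x → x * x = 1 → x ≠ 1 → IsConj z x := by
  intro H
  obtain ⟨P, hP, -, hz⟩ := h.sylow
  have k : ∀ x : G, orderOf x = 2 → IsConj z x := fun x hx => by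
    obtain ⟨x2, x1⟩ := sq_of_order hx
    obtain ⟨y, -, e⟩ := conj_into hP (mem_top x) x2
    exact (H _ (hz _ e) (by rw [conj_mul, x2]; simp) (by simpa using x1)).trans
      (isConj_iff.mpr ⟨y, rfl⟩).symm
  obtain ⟨x, y, h1, h2, h3⟩ := hcl
  exact h3 ((k x h1).symm.trans (k y h2))

theorem HypQ.iso' (hn : ∃ w, IsConj z w ∧ w * z = z * w ∧ w ≠ z)
    (hcl : ∃ x y : G, orderOf x = 2 ∧ orderOf y = 2 ∧ ¬ IsConj x y) : IsoΓ G := by
  have two := h.two hcl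
  have sq' : ∀ {v}, IsConj z v → v * v = 1 ∧ v ≠ 1 := fun e => by
    obtain ⟨x, rfl⟩ := isConj_iff.mp e
    exact ⟨by rw [conj_mul, h.z2]; simp, by simpa using h.z1⟩
  obtain ⟨w, w1, w2, w3⟩ := hn
  rcases h.struct with ⟨q, H⟩ | ⟨q, r, s, t, a, b, d, H, -⟩
  · have e := ((H w w2 (sq' w1).1).resolve_left (sq' w1).2).resolve_left w3
    exact absurd (fun x h1 h2 h3 => ((H x h1 h2).resolve_left h3).elim (fun e => e ▸ IsConj.refl _)
      fun e' => w1.trans (e.symm.trans e')) two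
  have cj : ∀ h x : G, IsConj x (h * x * h⁻¹) := fun h x => isConj_iff.mpr ⟨h, rfl⟩
  have two' : IsConj z q → ¬ IsConj z a := fun e1 e2 => two fun x h1 h2 h3 => by
    rcases H.invol h1 h2 with e | rfl | ⟨h, -, rfl⟩ | ⟨h, -, rfl⟩
    exacts [absurd e h3, IsConj.refl _, e1.trans (cj _ _), e2.trans (cj _ _)]
  have H' : H0 z q r s t a b d _ _ := ⟨H, rfl, rfl⟩
  have zq : IsConj z q := by
    by_contra nq
    have key : ∀ w, IsConj z w → w * z = z * w → w ≠ z → ∃ h, h * z = z * h ∧ w = h * a * h⁻¹ := by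
      intro w w1 w2 w3
      rcases H.invol w2 (sq' w1).1 with e | e | ⟨h, -, e⟩ | e
      exacts [absurd e (sq' w1).2, absurd e w3, absurd (w1.trans (e ▸ (cj h q).symm)) nq, e]
    obtain ⟨⟨z2, q2, -⟩, ⟨qz, -, pq, -⟩, ⟨az, aq, -⟩, z1, -, -, a1, -⟩ := H'.rel
    obtain ⟨h0, -, e⟩ := key w w1 w2 w3
    have za : IsConj z a := w1.trans (e ▸ (cj h0 a).symm)
    have an : a ≠ z := fun e => by
      obtain ⟨-, -, -, -, gz, ga, -⟩ := H'.m
      exact absurd (H.inj.eq ga gz e) (by decide +kernel)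
    obtain ⟨g0, e0⟩ := isConj_iff.mp za
    obtain ⟨h1, hz, e1⟩ := key (g0⁻¹ * z * g0⁻¹⁻¹) (cj _ _) (by
      have := cj_comm (g := g0⁻¹) az.symm
      rwa [← e0, show g0⁻¹ * (g0 * z * g0⁻¹) * g0⁻¹⁻¹ = z by group] at this)
      (fun e => an (by rw [← e0]; conv_lhs => rw [← e]
                       group))
    have k1 : g0 * h1 * z * (g0 * h1)⁻¹ = a := by rw [cj_mul', cj_of_comm hz, e0]
    have k2 : g0 * h1 * a * (g0 * h1)⁻¹ = z := by rw [cj_mul', ← e1]; group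
    generalize g0 * h1 = g at k1 k2
    have k3 : ∀ v, IsConj q v → v * z = z * v → v * a = a * v →
        g * v * g⁻¹ = q ∨ g * v * g⁻¹ = z * q := fun v e1 e2 e3 => by
      have e4 := e1.trans (cj g v)
      rcases (H'.fE' (k2 ▸ cj_comm e3) (k1 ▸ cj_comm e2)).2.1 with e | (e | e) | ⟨h, -, e⟩
      · rw [e] at e4
        exact absurd (by simpa [show q = 1 by simpa using e4] using pq.symm) z1
      · exact absurd (e ▸ e4).symm nq
      · exact e
      · exact absurd (za.trans ((cj h a).trans (e ▸ e4).symm)) nq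
    have k4 : a = g * (z * q) * g⁻¹ * (g * q * g⁻¹) := by
      rw [conj_mul, mul_assoc z, q2, mul_one, k1]
    rcases k3 q (IsConj.refl _) qz aq.symm with e1 | e1 <;>
    rcases k3 (z * q) (pq ▸ cj _ q) (by rw [mul_assoc, qz])
      (Commute.mul_left az.symm aq.symm) with e2 | e2 <;> rw [e1, e2] at k4
    · exact a1 (k4.trans q2)
    · exact an (by rw [k4, mul_assoc, q2, mul_one])
    · exact an (by rw [k4, ← mul_assoc, qz, mul_assoc, q2, mul_one])
    · exact a1 (by rw [k4, mul_assoc, ← mul_assoc q, qz, mul_assoc, q2, mul_one, z2])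
  obtain ⟨g, H2⟩ := H1.exists_H2 ⟨H', zq, two' zq⟩
  obtain ⟨k, h1, h2, h3, h4⟩ := H2.main
  obtain ⟨φ, h5, h6, -⟩ := exists_hom_gr h1 h2 h3
  exact ⟨⟨φ, h5, h6⟩, h4⟩

theorem HypQ.iso_simple [IsSimpleGroup G]
    (hcl : ∃ x y : G, orderOf x = 2 ∧ orderOf y = 2 ∧ ¬ IsConj x y) : IsoΓ G := by
  refine h.iso' ?_ hcl
  obtain ⟨P, hP, hQ, hz⟩ := h.sylow
  obtain ⟨S, rfl⟩ := hP.exists_sylow_top
  by_contra hc
  have oz : orderOf z = 2 := orderOf_eq_prime (by rw [pow_two, h.z2]) h.z1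
  obtain ⟨N, h1, h2, h3⟩ := S0215.result S z oz (hQ h.zmem) fun g hg => by
    by_contra ne
    exact hc ⟨_, isConj_iff.mpr ⟨g, rfl⟩, hz _ hg, ne⟩
  rcases h1.eq_bot_or_eq_top with rfl | rfl
  · have : (zpowers z).Normal := ⟨fun x hx g => by
      obtain ⟨n, rfl⟩ := mem_zpowers_iff.mp hx
      have : Commute z g := by
        have := mem_bot.mp (h3 g)
        rwa [mul_inv_eq_one, mul_inv_eq_iff_eq_mul] at this
      rw [← (this.zpow_left n).eq, mul_inv_cancel_right]; exact hx⟩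
    rcases this.eq_bot_or_eq_top with e | e
    · exact h.z1 (by simpa using e)
    · have := card_le_of_le (H := Q) (K := zpowers z) (e ▸ le_top)
      rw [h.card, Nat.card_zpowers, oz] at this
      omega
  · have := orderOf_dvd_natCard z
    rw [oz, ← card_top] at this
    exact (Nat.not_even_iff_odd.mpr h2) (even_iff_two_dvd.mpr this)

end

theorem hypQ_of {z : G} (hz : orderOf z = 2) {Q : Subgroup (centralizer ({z} : Set G))} [Q.Normal]
    (hQ : IsExtraspecial 2 Q) (hcard : Nat.card Q = 32)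
    (h2c : centralizer (Q : Set (centralizer ({z} : Set G))) ≤ Q)
    (e : Nat.card (centralizer ({z} : Set G) ⧸ Q) = 60) :
    HypQ z (Q.map (centralizer ({z} : Set G)).subtype) := by
  obtain ⟨z2, z1⟩ := sq_of_order hz
  obtain ⟨⟨hP, hF, hC⟩, hZ⟩ := hQ
  have cz : ∀ {x}, x * z = z * x → x ∈ centralizer ({z} : Set G) := mem_centralizer_singleton_iff.mpr
  have mz : (⟨z, cz rfl⟩ : centralizer ({z} : Set G)) ∈ Q := h2c fun x _ =>
    Subtype.ext (mem_centralizer_singleton_iff.mp x.2)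
  have Z : ∀ x ∈ center Q, (x : G) = 1 ∨ (x : G) = z := fun x hx => by
    obtain ⟨y, -, hy⟩ := (Nat.card_eq_two_iff' (1 : center Q)).mp hZ
    by_cases x1 : (x : G) = 1
    · exact Or.inl x1
    · have e1 := hy ⟨x, hx⟩ fun e => x1 (congrArg (fun y : center Q => (y : G)) e)
      have e2 := hy ⟨⟨_, mz⟩, mem_center_iff.mpr fun x =>
        Subtype.ext (Subtype.ext (mem_centralizer_singleton_iff.mp x.1.2))⟩
        fun e => z1 (congrArg (fun y : center Q => (y : G)) e)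
      exact Or.inr (congrArg (fun y : center Q => (y : G)) (e1.trans e2.symm))
  refine ⟨z2, z1, ?_, ?_, by rw [card_map_of_injective (subtype_injective _), hcard], ?_, ?_,
    ⟨_, mz, rfl⟩, ?_, ?_⟩
  · rintro _ ⟨x, -, rfl⟩
    exact mem_centralizer_singleton_iff.mp x.2
  · rintro h hh _ ⟨x, hx, rfl⟩
    exact ⟨_, ‹Q.Normal›.conj_mem x hx ⟨h, cz hh⟩, rfl⟩
  · rw [card_eq_card_quotient_mul_card_subgroup Q, e, hcard]
  · intro h hh hx
    have m : (⟨h, cz hh⟩ : centralizer ({z} : Set G)) ∈ Q := h2c fun x hx' =>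
      Subtype.ext (hx x ⟨x, hx', rfl⟩).symm
    exact Z ⟨_, m⟩ (mem_center_iff.mpr fun x => Subtype.ext (Subtype.ext (hx x ⟨x, x.2, rfl⟩).symm))
  · rintro _ ⟨x, hx, rfl⟩ _ ⟨y, hy, rfl⟩
    have := Z ⁅(⟨x, hx⟩ : Q)⁻¹, (⟨y, hy⟩ : Q)⁻¹⁆
      (hC ▸ commutator_mem_commutator (mem_top _) (mem_top _))
    refine this.imp (fun e => ?_) fun e => ?_
    · have e : (x : G)⁻¹ * (y : G)⁻¹ * (x : G)⁻¹⁻¹ * (y : G)⁻¹⁻¹ = 1 := e
      show (x : G) * y = y * x
      rw [← mul_one ((y : G) * x), ← e]; group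
    · have e : (x : G)⁻¹ * (y : G)⁻¹ * (x : G)⁻¹⁻¹ * (y : G)⁻¹⁻¹ = z := e
      exact (show (x : G) * y = y * x * ((x : G)⁻¹ * (y : G)⁻¹ * (x : G)⁻¹⁻¹ * (y : G)⁻¹⁻¹) by
        group).trans (congrArg _ e)
  · rintro _ ⟨x, hx, rfl⟩
    have := Z _ (hF ▸ PLoc.pow_mem_frattini hP ⟨x, hx⟩)
    rw [pow_two] at this
    exact this

theorem card_omega : Nat.card (Omega (ZMod 2) (quadFormMinus 1 (ZMod 2) 1 1)) = 60 := by
  obtain ⟨e⟩ := S0824.result (F := ZMod 2) (by simp)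
  rw [Nat.card_congr (Class.commCongr e).toEquiv, alternatingGroup.commutator_perm_eq (by simp),
    nat_card_alternatingGroup]
  simp [Nat.factorial]

theorem iso1 {z : G} (hz : orderOf z = 2) {Q : Subgroup (centralizer ({z} : Set G))} [Q.Normal]
    (hF : generalizedFittingSubgroup (centralizer ({z} : Set G)) = Q) (hQ : IsExtraspecial 2 Q)
    (hcard : Nat.card Q = 2 ^ 5)
    (e : centralizer ({z} : Set G) ⧸ Q ≃* Omega (ZMod 2) (quadFormMinus 1 (ZMod 2) 1 1))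
    (hnwc : ∃ g : G, (∃ hq : g * z * g⁻¹ ∈ centralizer ({z} : Set G),
      (⟨g * z * g⁻¹, hq⟩ : centralizer ({z} : Set G)) ∈ Q) ∧ g * z * g⁻¹ ≠ z)
    (hcl : ∃ x y : G, orderOf x = 2 ∧ orderOf y = 2 ∧ ¬ IsConj x y) : IsoΓ G := by
  obtain ⟨g, ⟨h1, -⟩, h2⟩ := hnwc
  refine (hypQ_of hz hQ hcard ?_ (by rw [Nat.card_congr e.toEquiv, card_omega])).iso'
    ⟨_, isConj_iff.mpr ⟨g, rfl⟩, mem_centralizer_singleton_iff.mp h1, h2⟩ hcl
  have := Comp.centralizer_FStar_le (⊤ : Subgroup (centralizer ({z} : Set G)))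
  rwa [Comp.FStar_top, hF, top_inf_eq] at this

theorem iso2 [IsSimpleGroup G] {t : G} (ht : orderOf t = 2)
    {Q : Subgroup (centralizer ({t} : Set G))} [Q.Normal] (hQ : IsExtraspecial 2 Q)
    (hcard : Nat.card Q = 32) (h2c : centralizer (Q : Set (centralizer ({t} : Set G))) ≤ Q)
    (e : centralizer ({t} : Set G) ⧸ Q ≃* alternatingGroup (Fin 5))
    (htwo : ∃ x y : G, orderOf x = 2 ∧ orderOf y = 2 ∧ ¬ IsConj x y ∧
      ∀ z : G, orderOf z = 2 → IsConj z x ∨ IsConj z y) : IsoΓ G := by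
  obtain ⟨x, y, h1, h2, h3, -⟩ := htwo
  exact (hypQ_of ht hQ hcard h2c (by
    rw [Nat.card_congr e.toEquiv, nat_card_alternatingGroup]; simp [Nat.factorial])).iso_simple
    ⟨x, y, h1, h2, h3⟩

omit [Finite G] in
theorem IsoΓ.card (h : IsoΓ G) : Nat.card G = 604800 := by
  obtain ⟨⟨φ, h1, h2⟩, -⟩ := h
  rw [← cardG, ← h2, Nat.card_congr (MonoidHom.ofInjective h1).toEquiv]

end Cfsg.Agent.HJ
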