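/-
Sylow subgroups of the Hall–Janko group for the odd primes.
-/
import Cfsg.Agent.HJ.Data3
import Cfsg.Agent.HJ.StepE
import Cfsg.Agent.Comp.Symp

set_option autoImplicit false
set_option maxRecDepth 100000

namespace Cfsg.Agent.HJ

open Subgroup
open scoped commutatorElement

/-- products of two lists -/
def pr (T L : List Γ) : List Γ := T.flatMap fun m => L.map (m * ·)

theorem mem_pr {T L : List Γ} {m l : Γ} (h1 : m ∈ T) (h2 : l ∈ L) : m * l ∈ pr T L :=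
  List.mem_flatMap.mpr ⟨m, h1, List.mem_map.mpr ⟨l, h2, rfl⟩⟩

theorem pr_mem {T L : List Γ} {K : Subgroup Γ} (h1 : ∀ x ∈ T, x ∈ K) (h2 : ∀ x ∈ L, x ∈ K) :
    ∀ x ∈ pr T L, x ∈ K := fun x hx => by
  obtain ⟨m, h3, h4⟩ := List.mem_flatMap.mp hx
  obtain ⟨l, h5, rfl⟩ := List.mem_map.mp h4
  exact mul_mem (h1 m h3) (h2 l h5)

/-- a subgroup and its normaliser, as lists -/
structure ND (gP LP LN : List Γ) : Prop where
  le : clo gP ≤ clo gG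
  m1 : ∀ x ∈ clo gP, x ∈ LP
  m2 : ∀ x ∈ LP, x ∈ clo gP
  ndP : LP.Nodup
  n1 : ∀ n ∈ clo gG, (∀ x ∈ gP, n * x * n⁻¹ ∈ LP) → n ∈ LN
  n2 : ∀ n ∈ LN, n ∈ clo gG
  n3 : ∀ n ∈ LN, ∀ x ∈ gP, n * x * n⁻¹ ∈ LP
  ndN : LN.Nodup

theorem nrm {gP LP : List Γ} (m1 : ∀ x ∈ clo gP, x ∈ LP) (m2 : ∀ x ∈ LP, x ∈ clo gP) {m n : Γ}
    (h1 : ∀ x ∈ gP, m * x * m⁻¹ ∈ LP) (h2 : ∀ x ∈ gP, n * x * n⁻¹ ∈ LP) :
    ∀ x ∈ gP, m⁻¹ * n * x * (m⁻¹ * n)⁻¹ ∈ LP := fun x hx =>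
  m1 _ ((mem_normalizer_iff.mp (mul_mem (inv_mem (norm_clo fun y hy => m2 _ (h1 y hy)))
    (norm_clo fun y hy => m2 _ (h2 y hy))) x).mp (mem_clo hx))

theorem ap_cj {n x : Γ} {i : ℕ} (hi : i < 100) (h : x.ap i = i) :
    (n * x * n⁻¹).ap (n.ap i) = n.ap i := by
  rw [← PC.ap_mul _ _ hi, inv_mul_cancel_right, PC.ap_mul _ _ hi, h]

theorem ap_inj {n : Γ} {i j : ℕ} (hi : i < 100) (hj : j < 100) (h : n.ap i = n.ap j) : i = j := by
  rw [← PC.ap_one (w := 7) hi, ← PC.ap_one (w := 7) hj, ← inv_mul_cancel n, PC.ap_mul _ _ hi,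
    PC.ap_mul _ _ hj, h]

theorem mem7 : ∀ x ∈ clo g7, x ∈ L7 := mem_list_of_closed (by decide +kernel) (by decide +kernel)
theorem f7a : ∀ x ∈ L7, x = 1 ∨ ∀ i < 100, x.ap i = i → i = 0 ∨ i = 2 := by decide +kernel
theorem f7b : ∀ x ∈ clo gL, x * s7 * x⁻¹ ∈ L7 → x ∈ L21 := enumL.all (by decide +kernel)
theorem f7c : s7 ≠ 1 ∧ s7.ap 0 = 0 ∧ s7.ap 2 = 2 ∧ t7⁻¹.ap 0 = 2 ∧ t7⁻¹.ap 2 = 0 ∧ 1 ∈ T7 ∧ t7 ∈ T7 ∧
    (∀ x ∈ g7, t7 * x * t7⁻¹ ∈ L7) ∧ s7 = ua * ub := by decide +kernel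

theorem nd7 : ND g7 L7 (pr T7 L21) := by
  obtain ⟨a1, a2, a3, a4, a5, a6, a7, a8, a9⟩ := f7c
  refine ⟨clo_le (by simpa [a9] using U_le (mul_mem (mem_clo (by simp)) (mem_clo (by simp)))), mem7,
    L7_mem, by decide +kernel, fun n hn h => ?_,
    pr_mem T7_mem fun x hx => U_le (L_le (L21_mem x hx)), by decide +kernel, by decide +kernel⟩
  have k : ∀ n ∈ clo gG, (∀ x ∈ g7, n * x * n⁻¹ ∈ L7) → n.ap 0 = 0 → n.ap 2 = 2 → n ∈ L21 :=
    fun n hn h e1 e2 => f7b n (stabL n (stabU n hn e1) e2) (h s7 (by simp))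
  have h1 := (f7a _ (h s7 (by simp))).resolve_left (by simpa using a1)
  have h2 := h1 _ (n.ap_lt (by norm_num)) (ap_cj (by norm_num) a2)
  have h3 := h1 _ (n.ap_lt (by norm_num)) (ap_cj (by norm_num) a3)
  have h4 : n.ap 0 ≠ n.ap 2 := fun e => by simpa using ap_inj (by norm_num) (by norm_num) e
  rcases h2 with h2 | h2
  · simpa using mem_pr a6 (k n hn h h2 (by omega))
  · simpa using mem_pr a7 (k (t7⁻¹ * n) (mul_mem (inv_mem (T7_mem _ a7)) hn) (nrm mem7 L7_mem a8 h)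
      (by rw [PC.ap_mul _ _ (by norm_num), h2, a5])
      (by rw [PC.ap_mul _ _ (by norm_num), show n.ap 2 = 0 by omega, a4]))

theorem mem25 : ∀ x ∈ clo g5, x ∈ L25 := mem_list_of_closed (by decide +kernel) (by decide +kernel)
theorem f5a : ∀ x ∈ L25, x = 1 ∨ ∀ i ∈ I315, x.ap (i.ap 0) ≠ i.ap (x.ap 0) ∨ i ∈ I15 ∨ x * i ≠ i * x := by
  decide +kernel
theorem f5b : ∀ x ∈ clo gH, x * f1 * x⁻¹ ∈ L25 → x * f2 * x⁻¹ ∈ L25 → x ∈ L20 :=
  enumH.all (by decide +kernel)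
theorem f5c : f1 ≠ 1 ∧ f1 * z0 = z0 * f1 ∧ ∀ m ∈ T15, ∀ x ∈ g5, m * x * m⁻¹ ∈ L25 := by decide +kernel

theorem f5a' {x i : Γ} (hx : x ∈ L25) (x1 : x ≠ 1) (hi : i ∈ I315) (e : x * i = i * x) : i ∈ I15 := by
  rcases (f5a x hx).resolve_left x1 i hi with h | h | h
  · exact absurd (by rw [← PC.ap_mul _ _ (by norm_num), e, PC.ap_mul _ _ (by norm_num)]) h
  · exact h
  · exact absurd e h

theorem nd5 : ND g5 L25 (pr T15 L20) := by
  obtain ⟨a1, a2, a3⟩ := f5c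
  refine ⟨g5_le, mem25, L25_mem, by decide +kernel, fun n hn h => ?_,
    pr_mem T15_mem fun x hx => H_le (L20_mem x hx), by decide +kernel, by decide +kernel⟩
  have := f5a' (h f1 (by simp)) (by simpa using a1) (cj315 n hn) (cj_comm a2)
  rw [I15_eq, List.mem_map] at this
  obtain ⟨m, h1, h2⟩ := this
  have h3 := nrm mem25 L25_mem (a3 m h1) h
  simpa using mem_pr h1 (f5b _ (centH _ (mul_mem (inv_mem (T15_mem m h1)) hn)
    (comm_of_cj (by rw [cj_mul', ← h2]; group))) (h3 f1 (by simp)) (h3 f2 (by simp)))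

theorem mem27 : ∀ x ∈ clo g3, x ∈ L27 := mem_list_of_closed (by decide +kernel) (by decide +kernel)
theorem f3a : ∀ x ∈ L27, (x * e1 = e1 * x → x * e2 = e2 * x → x = 1 ∨ x = d0 ∨ x = d0⁻¹) ∧
    x ^ 3 = 1 ∧ x * d0 = d0 * x ∧ (x = 1 ∨ ∃ n ∈ R3, n * x * n⁻¹ = d0 ∨ n * x * n⁻¹ = e1) ∧
    ∀ y ∈ L27, x * y * x⁻¹ * y⁻¹ ∈ [1, d0, d0⁻¹] := by decide +kernel
theorem f3b : ∀ x ∈ clo gX, x * e1 * x⁻¹ ∈ L27 → x * e2 * x⁻¹ ∈ L27 → x ∈ L108 :=
  enumX.all (by decide +kernel)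
theorem f3c : d0 ≠ 1 ∧ d0 ∈ L27 ∧ 1 ∈ T3 ∧ t3 ∈ T3 ∧ t3⁻¹ * d0⁻¹ * t3⁻¹⁻¹ = d0 ∧
    (∀ x ∈ g3, t3 * x * t3⁻¹ ∈ L27) ∧ e1 ≠ 1 ∧ e1 * e2 ≠ e2 * e1 := by decide +kernel

theorem nd3 (CX : ∀ x ∈ clo gG, x * d0 = d0 * x → x ∈ clo gX) : ND g3 L27 (pr T3 L108) := by
  obtain ⟨a1, a2, a3, a4, a5, a6, -⟩ := f3c
  refine ⟨g3_le.trans X_le, mem27, L27_mem, by decide +kernel, fun n hn h => ?_,
    pr_mem T3_mem fun x hx => X_le (L108_mem x hx), by decide +kernel, by decide +kernel⟩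
  have k : ∀ n ∈ clo gG, (∀ x ∈ g3, n * x * n⁻¹ ∈ L27) → n * d0 * n⁻¹ = d0 → n ∈ L108 :=
    fun n hn h e => f3b n (CX n hn (comm_of_cj e)) (h e1 (by simp)) (h e2 (by simp))
  have h1 := norm_clo fun y hy => L27_mem _ (h y hy)
  have h2 : ∀ x ∈ g3, n * d0 * n⁻¹ * x = x * (n * d0 * n⁻¹) := fun x hx => by
    have := cj_comm (g := n) (f3a _ (mem27 _ ((mem_normalizer_iff.mp (inv_mem h1) x).mp
      (mem_clo hx)))).2.2.1
    rw [show n * (n⁻¹ * x * n⁻¹⁻¹) * n⁻¹ = x by group] at this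
    exact this.symm
  rcases (f3a _ (mem27 _ ((mem_normalizer_iff.mp h1 d0).mp (L27_mem _ a2)))).1 (h2 e1 (by simp))
    (h2 e2 (by simp)) with e | e | e
  · exact absurd (by simpa using e) a1
  · simpa using mem_pr a3 (k n hn h e)
  · simpa using mem_pr a4 (k (t3⁻¹ * n) (mul_mem (inv_mem (T3_mem _ a4)) hn) (nrm mem27 L27_mem a6 h)
      (by rw [cj_mul', e, a5]))

/-- the number of fixed points -/
noncomputable def fixc (x : Γ) : ℕ := ((List.range 100).filter fun i => x.ap i = i).length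

theorem fixc_cj (n x : Γ) : fixc (n * x * n⁻¹) = fixc x := by
  have e : ∀ x : Γ, fixc x = ((Finset.range 100).filter fun i => x.ap i = i).card := fun x => rfl
  rw [e, e]
  refine (Finset.card_bij (fun i _ => n.ap i) ?_ ?_ ?_).symm
  · simp only [Finset.mem_filter, Finset.mem_range]
    exact fun i h => ⟨n.ap_lt h.1, ap_cj h.1 h.2⟩
  · simp only [Finset.mem_filter, Finset.mem_range]
    exact fun i h j h' e => ap_inj h.1 h'.1 e
  · simp only [Finset.mem_filter, Finset.mem_range]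
    refine fun j h => ⟨n⁻¹.ap j, ⟨PC.ap_lt _ h.1, ?_⟩, ?_⟩
    · simpa [mul_assoc] using ap_cj (n := n⁻¹) h.1 h.2
    · rw [← PC.ap_mul _ _ h.1, mul_inv_cancel, PC.ap_one h.1]

variable {G : Type*} [Group G] {φ : G →* Γ} (hi : Function.Injective φ) (hr : φ.range = clo gG)
include hi hr

omit hi in
theorem pre {x : Γ} (h : x ∈ clo gG) : ∃ y, φ y = x := by rwa [← hr] at h

omit hi in
theorem inG (x : G) : φ x ∈ clo gG := hr ▸ ⟨x, rfl⟩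

theorem card_of_list {S : Subgroup G} {L : List Γ} (nd : L.Nodup) (h : ∀ x, x ∈ S ↔ φ x ∈ L)
    (hL : ∀ l ∈ L, l ∈ clo gG) : Nat.card S = L.length := by
  classical
  rw [← List.toFinset_card_of_nodup nd, ← Nat.card_eq_finsetCard]
  refine Nat.card_congr (Equiv.ofBijective (fun x => ⟨φ x, List.mem_toFinset.mpr ((h x).mp x.2)⟩)
    ⟨fun a b e => Subtype.ext (hi (congrArg Subtype.val e)), fun ⟨l, hl⟩ => ?_⟩)
  obtain ⟨x, rfl⟩ := pre hr (hL l (List.mem_toFinset.mp hl))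
  exact ⟨⟨x, (h x).mpr (List.mem_toFinset.mp hl)⟩, rfl⟩

variable {gP LP LN : List Γ} (h : ND gP LP LN)
include h

theorem ND.cardP : Nat.card ((clo gP).comap φ) = LP.length :=
  card_of_list hi hr h.ndP (fun _ => ⟨h.m1 _, h.m2 _⟩) fun l hl => h.le (h.m2 l hl)

omit hi in
theorem ND.memN (n : G) : n ∈ normalizer ((clo gP).comap φ : Set G) ↔ φ n ∈ LN := by
  refine ⟨fun hn => h.n1 _ (inG hr n) fun x hx => ?_, fun hn => mem_normalizer_iff.mpr fun x => ?_⟩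
  · obtain ⟨y, rfl⟩ := pre hr (h.le (mem_clo hx))
    simpa using h.m1 _ ((mem_normalizer_iff.mp hn y).mp (mem_clo hx))
  · simpa using mem_normalizer_iff.mp (norm_clo fun y hy => h.m2 _ (h.n3 _ hn y hy)) (φ x)

theorem ND.cardN : Nat.card (normalizer ((clo gP).comap φ : Set G)) = LN.length :=
  card_of_list hi hr h.ndN (h.memN hr) h.n2

theorem ND.sylow [Finite G] {p k : ℕ} [Fact p.Prime] (hk : LP.length = p ^ k)
    (hd : ¬ p * p ^ k ∣ 604800) : PLoc.IsSylowOf p ((clo gP).comap φ) ⊤ := by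
  have c := (h.cardP hi hr).trans hk
  refine ⟨le_top, IsPGroup.of_card c, fun e => hd ?_⟩
  rw [← cardG, ← hr, ← Nat.card_congr (MonoidHom.ofInjective hi).toEquiv,
    ← card_mul_index ((clo gP).comap φ), c, mul_comm]
  exact Nat.mul_dvd_mul_left _ (by rwa [relIndex_top_right] at e)

omit hi in
theorem ND.cent (hc : ∀ n ∈ LN, (∀ x ∈ gP, n * x = x * n) → n ∈ LP)
    (ha : ∀ x ∈ gP, ∀ y ∈ gP, x * y = y * x) (hi : Function.Injective φ) :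
    centralizer ((clo gP).comap φ : Set G) = (clo gP).comap φ := by
  refine le_antisymm (fun n hn => h.m2 _ (hc _ ((h.memN hr n).mp (centralizer_le_normalizer _ hn))
    fun x hx => ?_)) fun n hn x hx => hi ?_
  · obtain ⟨y, rfl⟩ := pre hr (h.le (mem_clo hx))
    rw [← map_mul, ← map_mul, hn y (mem_clo hx)]
  · rw [map_mul, map_mul]
    exact comm_clo (fun y hy => (comm_clo (fun x hx => ha x hx y hy) _ hn).symm) _ hx

end Cfsg.Agent.HJ
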