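/-
Simplicity of the Hall–Janko group on 100 points; the point stabiliser `U₃(3)`.
-/
import Cfsg.Agent.HJ.Syl
import Cfsg.Agent.Class.Exc3
import Cfsg.Agent.Class.Aut2

set_option autoImplicit false
set_option maxRecDepth 100000

namespace Cfsg.Agent.HJ

open Subgroup Matrix
open scoped MatrixGroups

theorem fpf_cj {G : Type*} [Group G] [Finite G] {K N : Subgroup G}
    (hn : ∀ g ∈ K, ∀ x ∈ N, g * x * g⁻¹ ∈ N) {u c1 c2 : G} (hu : u ∈ K) (h1 : c1 ∈ K) (h2 : c2 ∈ K)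
    (u2 : u * u = 1) (e : u * (c1 * u * c1⁻¹) = c2 * u * c2⁻¹)
    (h : ∀ x ∈ N, x * u = u * x → x = 1) : ∀ x ∈ N, x = 1 := by
  have key : ∀ c ∈ K, ∀ x ∈ N, x * (c * u * c⁻¹) = c * u * c⁻¹ * x → x = 1 := fun c hc x hx e => by
    have := h _ (hn _ (inv_mem hc) x hx) (by
      have := cj_comm (g := c⁻¹) e
      rwa [show c⁻¹ * (c * u * c⁻¹) * c⁻¹⁻¹ = u by group] at this)
    simpa [mul_assoc, inv_mul_eq_one] using this
  exact eq_one_of_fpf (hn u hu) (hn _ (mul_mem (mul_mem h1 hu) (inv_mem h1))) u2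
    (by rw [conj_mul, u2]; simp) h (key c1 h1) (e ▸ key c2 h2)

theorem comm_mem {G : Type*} [Group G] {K N : Subgroup G} (hn : ∀ g ∈ K, ∀ x ∈ N, g * x * g⁻¹ ∈ N)
    {x w : G} (hx : x ∈ N) (hw : w ∈ K) : x * w * x⁻¹ * w⁻¹ ∈ N := by
  simpa [mul_assoc] using mul_mem hx (hn w hw _ (inv_mem hx))

noncomputable abbrev gR : List Γ := [q0, r0, s0, t0, z0, p0, g0, k0]

theorem G_leR : clo gG ≤ clo gR := clo_le_clo (W := [[0], [2], [4], [6], [8], [2, 10, 12, 6, 10, 12],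
  [0, 2, 14, 4, 6, 14, 4, 2, 14, 6, 2, 14], [10, 14, 12, 10, 14, 12], [10], [12], [14]])
  (by decide +kernel)

theorem gR_I : ∀ x ∈ gR, x ∈ I315 := by decide +kernel

theorem simpleG {N : Subgroup Γ} (hN : N ≤ clo gG) (hn : ∀ g ∈ clo gG, ∀ x ∈ N, g * x * g⁻¹ ∈ N) :
    (∀ x ∈ N, x = 1) ∨ clo gG ≤ N := by
  by_cases hz : z0 ∈ N
  · refine Or.inr (G_leR.trans (clo_le fun x hx => ?_))
    have := gR_I x hx
    rw [I315_eq, List.mem_map] at this
    obtain ⟨t, h1, rfl⟩ := this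
    exact hn t (T315_mem t h1) _ hz
  obtain ⟨f1, -, f3, f4, -⟩ := fD1
  have mp : p0 ∈ clo gG := mem_clo (by simp)
  have mg : g0 ∈ clo gG := mem_clo (by simp)
  refine Or.inl (fpf_cj hn (mem_clo (by simp)) mg (mul_mem mp mg) f1 (f3 ▸ f4) fun x hx e => ?_)
  have h1 := centH x (hN hx) e
  have k : ∀ w ∈ [q0, r0, s0, t0], x * w = w * x := fun w hw => by
    have m1 : w ∈ clo gQ := mem_clo (by simp at hw ⊢; tauto)
    have m2 : w ∈ clo gG := mem_clo (by simp at hw ⊢; tauto)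
    have m3 := comm_mem hn hx m2
    rcases (fQ _ (memQ _ (mul_mem ((mem_normalizer_iff.mp (normQ h1) w).mp m1) (inv_mem m1)))).2
      with e | e | ⟨w', h2, e⟩
    · exact comm_of_cj (mul_inv_eq_one.mp e)
    · exact absurd (e ▸ m3) hz
    · exact absurd (e ▸ comm_mem hn m3 (mem_clo (by simp at h2 ⊢; tauto))) hz
  exact ((fH x h1).2.1 (k _ (by simp)) (k _ (by simp)) (k _ (by simp)) (k _ (by simp))).resolve_right
    fun e => hz (e ▸ hx)

theorem simple_of_hom {G : Type*} [Group G] {φ : G →* Γ} (hi : Function.Injective φ)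
    (hr : φ.range = clo gG) : IsSimpleGroup G := by
  obtain ⟨z, hz⟩ := pre hr (mem_clo (show z0 ∈ gG by simp))
  refine { exists_pair_ne := ⟨z, 1, fun e => fQ2.2.1 (by rw [← hz, e, map_one])⟩
           eq_bot_or_eq_top_of_normal := fun N hN => ?_ }
  refine (simpleG (N := N.map φ) (hr ▸ map_le_range φ N) ?_).imp (fun h => ?_) fun h => ?_
  · rintro g hg _ ⟨x, hx, rfl⟩
    obtain ⟨g, rfl⟩ := pre hr hg
    exact ⟨_, hN.conj_mem x hx g, by simp⟩
  · exact eq_bot_iff.mpr fun x hx => hi ((h _ ⟨x, hx, rfl⟩).trans (map_one φ).symm)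
  · refine eq_top_iff.mpr fun x _ => ?_
    obtain ⟨y, hy, e⟩ := h (inG hr x)
    exact hi e ▸ hy

theorem fU : ∀ x ∈ clo gH, x.ap 0 = 0 → x = 1 ∨ x = z0 ∨ x * x = z0 ∨
    ∃ w ∈ [uc * ua * uc, uc * ub⁻¹ * ua * ub * uc], x * w * x⁻¹ * w⁻¹ = z0 ∨
      (x * w * x⁻¹ * w⁻¹) * (x * w * x⁻¹ * w⁻¹) = z0 ∨
      ∃ w' ∈ [uc * ua * uc, uc * ub⁻¹ * ua * ub * uc],
        (x * w * x⁻¹ * w⁻¹) * w' * (x * w * x⁻¹ * w⁻¹)⁻¹ * w'⁻¹ = z0 := enumH.all (by decide +kernel)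

theorem fU2 : ua = z0 ∧ ua * ua = 1 ∧
    ua * (uc * ua * uc⁻¹) = ub⁻¹ * ua * ub * ua * (ub⁻¹ * ua * ub)⁻¹ := by decide +kernel

theorem simpleU {N : Subgroup Γ} (hN : N ≤ clo gU) (hn : ∀ g ∈ clo gU, ∀ x ∈ N, g * x * g⁻¹ ∈ N)
    (hz : ua ∉ N) : ∀ x ∈ N, x = 1 := by
  obtain ⟨f1, f2, f3⟩ := fU2
  have ma : ua ∈ clo gU := mem_clo (by simp)
  have mb : ub ∈ clo gU := mem_clo (by simp)
  have mc : uc ∈ clo gU := mem_clo (by simp)
  have mw : ∀ w ∈ [uc * ua * uc, uc * ub⁻¹ * ua * ub * uc], w ∈ clo gU := by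
    simp only [List.forall_mem_cons]
    exact ⟨mul_mem (mul_mem mc ma) mc,
      mul_mem (mul_mem (mul_mem (mul_mem mc (inv_mem mb)) ma) mb) mc, by simp⟩
  refine fpf_cj hn ma mc (mul_mem (mul_mem (inv_mem mb) ma) mb) f2 f3 fun x hx e => ?_
  rw [f1] at e hz
  rcases fU x (centH x (U_le (hN hx)) e) (U_stab (hN hx)) with e | e | e | ⟨w, hw, e⟩
  · exact e
  · exact absurd (e ▸ hx) hz
  · exact absurd (e ▸ mul_mem hx hx) hz
  · have m := comm_mem hn hx (mw w hw)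
    rcases e with e | e | ⟨w', hw', e⟩
    · exact absurd (e ▸ m) hz
    · exact absurd (e ▸ mul_mem m m) hz
    · exact absurd (e ▸ comm_mem hn m (mw w' hw')) hz

abbrev M3 : Type := Matrix (Fin 3) (Fin 3) (ℤ√(-1))

/-- equality modulo 3 -/
def E3 (a b : M3) : Prop := ∀ i j, 3 ∣ (a i j - b i j).re ∧ 3 ∣ (a i j - b i j).im

instance decE3 (a b : M3) : Decidable (E3 a b) := by unfold E3; infer_instance

def mA : M3 := !![1, 0, 0; 0, -1, 0; 0, 0, -1]
def mB : M3 := !![⟨-1, 1⟩, 0, ⟨1, 1⟩; ⟨0, 1⟩, ⟨-1, -1⟩, -1; ⟨0, 1⟩, ⟨1, 1⟩, -1]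
def mC : M3 := !![0, 1, 0; 1, 0, 0; 0, 0, -1]

def tab (y : ℕ) : M3 := [mA, mA, mB, (mB.map star)ᵀ, mC, mC].getD y 1

def evM (l : List ℕ) : M3 := l.foldr (fun y a => tab y * a) 1

theorem m_unit : ∀ m ∈ [mA, mB, mC], E3 ((m.map star)ᵀ * m) 1 ∧ 3 ∣ (m.det - 1).re ∧
    3 ∣ (m.det - 1).im := by
  simp only [det_fin_three]
  decide +kernel

theorem m_rel : ∀ l ∈ cU.RL, (∀ y ∈ l, y ∈ [0, 2, 3, 4]) ∧ E3 (evM l) 1 := by decide +kernel

theorem U_equiv {K : Type} [Field K] [Fintype K] (hK : Fintype.card K = 9) :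
    Nonempty (clo gU ≃* PSU 3 K 3) := by
  obtain ⟨σ, h⟩ := Class.exists_UF (F := K) (q := 3) hK
  have : CharP K 3 := Class.charP_of_card_eq (f := 2) (by rw [Nat.card_eq_fintype_card, hK]; rfl)
  have h3 : (3 : K) = 0 := CharP.cast_eq_zero K 3
  obtain ⟨i, hi⟩ := FiniteField.isSquare_neg_one_iff.2 (show Fintype.card K % 4 ≠ 3 by rw [hK]; decide)
  let ψ : ℤ√(-1) →+* K := Zsqrtd.lift ⟨i, by simp [hi]⟩
  have hψ : ∀ z, ψ (star z) = σ (ψ z) := fun z => by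
    have : σ i = -i := by rw [h.eq]; linear_combination (-i) * hi
    simp [ψ, this]
  have ψe : ∀ {a b : ℤ√(-1)}, 3 ∣ (a - b).re ∧ 3 ∣ (a - b).im → ψ a = ψ b := fun h => by
    obtain ⟨c, hc⟩ := (Zsqrtd.intCast_dvd 3 _).2 h
    rw [← sub_eq_zero, ← map_sub, hc, map_mul, map_intCast]
    simp [h3]
  have me : ∀ {a b : M3}, E3 a b → a.map ψ = b.map ψ := fun h => by ext i j; exact ψe (h i j)
  have mu : ∀ m ∈ [mA, mB, mC], ((m.map star)ᵀ).map ψ * m.map ψ = 1 := fun m hm => by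
    rw [← Matrix.map_mul, me (m_unit m hm).1, Matrix.map_one _ (map_zero _) (map_one _)]
  have ex : ∀ m ∈ [mA, mB, mC], ∃ g : SU 3 K 3, g.1.1 = m.map ψ := fun m hm => by
    refine ⟨⟨⟨m.map ψ, ?_⟩, (Class.mem_SU_iff h).2 ?_⟩, rfl⟩
    · rw [← RingHom.mapMatrix_apply, ← RingHom.map_det, ψe (m_unit m hm).2, map_one]
    · rw [← mu m hm]
      congr 1
      ext i j
      simp [hψ]
  obtain ⟨A, hA⟩ := ex mA (by simp)
  obtain ⟨B, hB⟩ := ex mB (by simp)
  obtain ⟨C, hC⟩ := ex mC (by simp)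
  have hB' : (B⁻¹).1.1 = ((mB.map star)ᵀ).map ψ := by
    have e : (B⁻¹).1.1 * B.1.1 = 1 := congrArg (fun g : SU 3 K 3 => g.1.1) (inv_mul_cancel B)
    rw [← inv_eq_left_inv e, inv_eq_left_inv (hB ▸ mu mB (by simp))]
  have ev' : ∀ l : List ℕ, (∀ y ∈ l, y ∈ [0, 2, 3, 4]) → (ev (atm [A, B, C]) l).1.1 = (evM l).map ψ := by
    intro l hl
    induction l with
    | nil => simp [evM]
    | cons y l ih =>
      rw [ev_cons, evM, List.foldr_cons, Matrix.map_mul, ← evM,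
        ← ih fun z hz => hl z (List.mem_cons_of_mem _ hz)]
      have := hl y (List.mem_cons_self ..)
      simp only [List.mem_cons, List.not_mem_nil, or_false] at this
      rcases this with rfl | rfl | rfl | rfl
      exacts [congrArg (· * _) hA, congrArg (· * _) hB, congrArg (· * _) hB', congrArg (· * _) hC]
  have sat : Sat cU.RL [A, B, C] := fun l hl => Subtype.ext (Subtype.ext (by
    rw [ev' l (m_rel l hl).1, me (m_rel l hl).2]; simp))
  have fn := fn_of_le (leU (satU.zip sat)) chU_card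
  have inj : Inj (gr gU [A, B, C]) := by
    refine simpleU (N := (gr gU [A, B, C]).comap (MonoidHom.inl _ _)) (fun x hx => (gr_mem hx).1)
      (fun g hg x hx => ?_) fun hz => ?_
    · obtain ⟨y, -, m⟩ := gr_right [A, B, C] hg
      simpa using pm_mul (pm_mul m hx) (pm_inv m)
    · have e : A = 1 := fn.eq (mem_clo (by simp)) hz rfl
      have := congrFun (congrFun (e ▸ hA) 1) 1
      have h2 : (2 : K) = 0 := by
        simp [mA] at this
        linear_combination this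
      exact one_ne_zero (by linear_combination h3 - h2 : (1 : K) = 0)
  have hS : Nat.card (SU 3 K 3) = 6048 := by
    have := Class.card_SU h (n := 3) (by norm_num)
    rw [show Class.guCard 3 3 = 24192 by decide] at this
    omega
  have : Finite (SU 3 K 3) := Nat.finite_of_card_ne_zero (by omega)
  obtain ⟨e, -⟩ := exists_equiv_gr fn inj
  have h2 : center (SU 3 K 3) = ⊥ := by
    rw [← card_eq_one, Class.card_center_SU h (by norm_num)]; rfl
  have h4 : clo [A, B, C] = ⊤ := (card_eq_iff_eq_top _).mp (by rw [card_gr fn inj, cardU, hS])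
  exact ⟨((e.trans (MulEquiv.subgroupCongr h4)).trans topEquiv).trans (Class.quotCenterBot h2).symm⟩

theorem U_psu {G : Type*} [Group G] {φ : G →* Γ} (hi : Function.Injective φ)
    (hr : φ.range = clo gG) : ∃ (K : Type) (_ : Field K) (_ : Fintype K), Fintype.card K = 9 ∧
      Nonempty ((clo gU).comap φ ≃* PSU 3 K 3) := by
  have := Fintype.ofFinite (GaloisField 3 2)
  have hK : Fintype.card (GaloisField 3 2) = 9 := by
    rw [← Nat.card_eq_fintype_card, GaloisField.card 3 2 (by norm_num)]; rfl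
  obtain ⟨e⟩ := U_equiv hK
  exact ⟨_, _, _, hK, ⟨((equivMapOfInjective _ φ hi).trans (MulEquiv.subgroupCongr
    (map_comap_eq_self (hr ▸ U_le)))).trans e⟩⟩

end Cfsg.Agent.HJ
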