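/-
Data for the icosian reflection group.
-/
import Cfsg.Agent.HJ.Ico2
import Cfsg.Agent.HJ.Simp

set_option autoImplicit false
set_option maxRecDepth 100000

namespace Cfsg.Agent.HJ

open Z8

def vR : List (V3 × V3 × M9) := [(⟨⟨0, 0, 0, 0, 0, 0, 0, 0⟩, ⟨-4, 0, 0, 0, 0, 0, 0, 0⟩, ⟨0, 0, 0, 0, 0, 0, 0, 0⟩⟩, ⟨⟨1, -2, -1, 0, -1, 0, -1, 0⟩, ⟨-1, 2, 1, 0, 1, 0, 1, 0⟩, ⟨-1, 2, -1, 0, -1, 0, -1, 0⟩⟩, ⟨⟨⟨4, 0, 0, 0, 0, 0, 0, 0⟩, ⟨0, 0, 0, 0, 0, 0, 0, 0⟩, ⟨0, 0, 0, 0, 0, 0, 0, 0⟩⟩, ⟨⟨0, 0, 0, 0, 0, 0, 0, 0⟩, ⟨-4, 0, 0, 0, 0, 0, 0, 0⟩, ⟨0, 0, 0, 0, 0, 0, 0, 0⟩⟩,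 ⟨⟨0, 0, 0, 0, 0, 0, 0, 0⟩, ⟨0, 0, 0, 0, 0, 0, 0, 0⟩, ⟨4, 0, 0, 0, 0, 0, 0, 0⟩⟩⟩), (⟨⟨0, 0, 0, 0, 0, 0, 0, 0⟩, ⟨-2, 0, -2, 0, 0, 0, 0, 0⟩, ⟨-2, 0, -2, 0, 0, 0, 0, 0⟩⟩, ⟨⟨1, -1, 0, -1, 0, 0, -1, 0⟩, ⟨0, 0, 0, 0, 0, 0, 0, 0⟩, ⟨0, 2, -2, 2, 0, 0, -2, 0⟩⟩, ⟨⟨⟨4, 0, 0, 0, 0, 0, 0, 0⟩, ⟨0, 0, 0, 0, 0, 0, 0, 0⟩, ⟨0, 0, 0, 0, 0, 0, 0, 0⟩⟩, ⟨⟨0, 0, 0, 0, 0, 0, 0, 0⟩, ⟨0, 0, 0, 0, 0, 0, 0, 0⟩, ⟨-4, 0, 0, 0, 0, 0, 0, 0⟩⟩, ⟨⟨0, 0, 0, 0, 0, 0, 0, 0⟩, ⟨-4, 0, 0, 0, 0, 0, 0, 0⟩, ⟨0, 0, 0, 0, 0, 0, 0, 0⟩⟩⟩), (⟨⟨0, 0, 0, 0, 0, 0, 0, 0⟩, ⟨-2, 0, -2, 0, 0, 0, 0, 0⟩, ⟨-2,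 0, 2, 0, 0, 0, 0, 0⟩⟩, ⟨⟨1, -1, 0, -1, 0, 0, -1, 0⟩, ⟨-1, 0, -1, 2, -1, 0, 1, 0⟩, ⟨-1, 2, -1, 0, -1, 0, -1, 0⟩⟩, ⟨⟨⟨4, 0, 0, 0, 0, 0, 0, 0⟩, ⟨0, 0, 0, 0, 0, 0, 0, 0⟩, ⟨0, 0, 0, 0, 0, 0, 0, 0⟩⟩, ⟨⟨0, 0, 0, 0, 0, 0, 0, 0⟩, ⟨0, 0, 0, 0, 0, 0, 0, 0⟩, ⟨0, 0, 4, 0, 0, 0, 0, 0⟩⟩, ⟨⟨0, 0, 0, 0, 0, 0, 0, 0⟩, ⟨0, 0, -4, 0, 0, 0, 0, 0⟩, ⟨0, 0, 0, 0, 0, 0, 0, 0⟩⟩⟩), (⟨⟨0, 0, 0, 0, 0, 0, 0, 0⟩, ⟨-2, 0, -2, 0, 0, 0, 0, 0⟩, ⟨0, 0, 0, 0, -2, 0, -2, 0⟩⟩, ⟨⟨1, -1, 0, -1, 0, 0, -1, 0⟩, ⟨0, 1, 0, 1, 0, -1, 2, -1⟩, ⟨1, 1, -1, 1, -1, 1, -1, 1⟩⟩, ⟨⟨⟨4, 0, 0, 0, 0, 0, 0, 0⟩,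 ⟨0, 0, 0, 0, 0, 0, 0, 0⟩, ⟨0, 0, 0, 0, 0, 0, 0, 0⟩⟩, ⟨⟨0, 0, 0, 0, 0, 0, 0, 0⟩, ⟨0, 0, 0, 0, 0, 0, 0, 0⟩, ⟨0, 0, 0, 0, -4, 0, 0, 0⟩⟩, ⟨⟨0, 0, 0, 0, 0, 0, 0, 0⟩, ⟨0, 0, 0, 0, 4, 0, 0, 0⟩, ⟨0, 0, 0, 0, 0, 0, 0, 0⟩⟩⟩), (⟨⟨-4, 0, 0, 0, 0, 0, 0, 0⟩, ⟨0, 0, 0, 0, 0, 0, 0, 0⟩, ⟨0, 0, 0, 0, 0, 0, 0, 0⟩⟩, ⟨⟨-1, 2, 1, 0, 1, 0, 1, 0⟩, ⟨0, 0, 0, 0, 0, 0, 0, 0⟩, ⟨-1, 2, -1, 0, -1, 0, -1, 0⟩⟩, ⟨⟨⟨-4, 0, 0, 0, 0, 0, 0, 0⟩, ⟨0, 0, 0, 0, 0, 0, 0, 0⟩, ⟨0, 0, 0, 0, 0, 0, 0, 0⟩⟩, ⟨⟨0, 0, 0, 0, 0, 0, 0, 0⟩, ⟨4, 0, 0, 0, 0, 0, 0, 0⟩, ⟨0, 0, 0, 0, 0, 0, 0, 0⟩⟩, ⟨⟨0, 0, 0,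 0, 0, 0, 0, 0⟩, ⟨0, 0, 0, 0, 0, 0, 0, 0⟩, ⟨4, 0, 0, 0, 0, 0, 0, 0⟩⟩⟩), (⟨⟨0, 0, 0, 0, 0, 0, 0, 0⟩, ⟨-2, 0, -2, 0, 0, 0, 0, 0⟩, ⟨0, 0, 0, 0, -2, 0, 2, 0⟩⟩, ⟨⟨1, -1, 0, -1, 0, 0, -1, 0⟩, ⟨-1, 1, -1, 1, 1, -1, 1, 1⟩, ⟨0, 1, -2, 1, 0, 1, 0, -1⟩⟩, ⟨⟨⟨4, 0, 0, 0, 0, 0, 0, 0⟩, ⟨0, 0, 0, 0, 0, 0, 0, 0⟩, ⟨0, 0, 0, 0, 0, 0, 0, 0⟩⟩, ⟨⟨0, 0, 0, 0, 0, 0, 0, 0⟩, ⟨0, 0, 0, 0, 0, 0, 0, 0⟩, ⟨0, 0, 0, 0, 0, 0, 4, 0⟩⟩, ⟨⟨0, 0, 0, 0, 0, 0, 0, 0⟩, ⟨0, 0, 0, 0, 0, 0, -4, 0⟩, ⟨0, 0, 0, 0, 0, 0, 0, 0⟩⟩⟩), (⟨⟨-2, 0, -2, 0, 0, 0, 0, 0⟩, ⟨0, 0, 0, 0, -2, 0, 2, 0⟩, ⟨0, 0, 0, 0,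 0, 0, 0, 0⟩⟩, ⟨⟨-1, 1, -1, 1, 1, -1, 1, 1⟩, ⟨0, 0, 1, 0, -1, 1, 0, -1⟩, ⟨0, 1, -2, 1, 0, 1, 0, -1⟩⟩, ⟨⟨⟨0, 0, 0, 0, 0, 0, 0, 0⟩, ⟨0, 0, 0, 0, 0, 0, 4, 0⟩, ⟨0, 0, 0, 0, 0, 0, 0, 0⟩⟩, ⟨⟨0, 0, 0, 0, 0, 0, -4, 0⟩, ⟨0, 0, 0, 0, 0, 0, 0, 0⟩, ⟨0, 0, 0, 0, 0, 0, 0, 0⟩⟩, ⟨⟨0, 0, 0, 0, 0, 0, 0, 0⟩, ⟨0, 0, 0, 0, 0, 0, 0, 0⟩, ⟨4, 0, 0, 0, 0, 0, 0, 0⟩⟩⟩), (⟨⟨-2, 0, 0, 0, 0, 0, 0, 0⟩, ⟨1, -1, 1, -1, -1, 1, -1, 1⟩, ⟨0, 1, 0, 1, 0, 1, 0, -1⟩⟩, ⟨⟨-1, 1, 0, 0, 1, 0, 2, -1⟩, ⟨1, 0, 1, 1, 0, 0, -2, 1⟩, ⟨0, 0, 0, 0, -2, 0, 0, 0⟩⟩, ⟨⟨⟨2, 0, 0, 0, 0, 0, 0, 0⟩, ⟨1, -1, 1, -1,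 -1, 1, -1, 1⟩, ⟨0, 1, 0, 1, 0, 1, 0, -1⟩⟩, ⟨⟨1, -1, -1, 1, 1, -1, 1, -1⟩, ⟨0, 2, 0, 0, 0, 0, 0, 0⟩, ⟨1, 0, -1, 0, 1, 0, -1, 0⟩⟩, ⟨⟨0, 1, 0, -1, 0, -1, 0, 1⟩, ⟨1, 0, 1, 0, -1, 0, 1, 0⟩, ⟨2, -2, 0, 0, 0, 0, 0, 0⟩⟩⟩)]
def WR : List (List ℕ) := [[0], [2], [4], [6], [8], [2, 10, 12, 6, 10, 12], [0, 2, 14, 4, 6, 14, 4, 2, 14, 6, 2, 14], [10, 14, 12, 10, 14, 12], [10], [12], [14]]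
def msG : List M9 := [⟨⟨⟨4, 0, 0, 0, 0, 0, 0, 0⟩, ⟨0, 0, 0, 0, 0, 0, 0, 0⟩, ⟨0, 0, 0, 0, 0, 0, 0, 0⟩⟩, ⟨⟨0, 0, 0, 0, 0, 0, 0, 0⟩, ⟨-4, 0, 0, 0, 0, 0, 0, 0⟩, ⟨0, 0, 0, 0, 0, 0, 0, 0⟩⟩, ⟨⟨0, 0, 0, 0, 0, 0, 0, 0⟩, ⟨0, 0, 0, 0, 0, 0, 0, 0⟩, ⟨4, 0, 0, 0, 0, 0, 0, 0⟩⟩⟩, ⟨⟨⟨4, 0, 0, 0, 0, 0, 0, 0⟩, ⟨0, 0, 0, 0, 0, 0, 0, 0⟩, ⟨0, 0, 0, 0, 0, 0, 0, 0⟩⟩, ⟨⟨0, 0, 0, 0, 0, 0, 0, 0⟩, ⟨0, 0, 0, 0, 0, 0, 0, 0⟩, ⟨-4, 0, 0, 0, 0, 0, 0, 0⟩⟩, ⟨⟨0, 0, 0, 0, 0, 0, 0, 0⟩, ⟨-4, 0, 0, 0, 0, 0, 0, 0⟩, ⟨0, 0, 0, 0, 0, 0, 0, 0⟩⟩⟩, ⟨⟨⟨4, 0, 0, 0, 0, 0, 0, 0⟩, ⟨0, 0, 0, 0, 0, 0,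 0, 0⟩, ⟨0, 0, 0, 0, 0, 0, 0, 0⟩⟩, ⟨⟨0, 0, 0, 0, 0, 0, 0, 0⟩, ⟨0, 0, 0, 0, 0, 0, 0, 0⟩, ⟨0, 0, 4, 0, 0, 0, 0, 0⟩⟩, ⟨⟨0, 0, 0, 0, 0, 0, 0, 0⟩, ⟨0, 0, -4, 0, 0, 0, 0, 0⟩, ⟨0, 0, 0, 0, 0, 0, 0, 0⟩⟩⟩, ⟨⟨⟨4, 0, 0, 0, 0, 0, 0, 0⟩, ⟨0, 0, 0, 0, 0, 0, 0, 0⟩, ⟨0, 0, 0, 0, 0, 0, 0, 0⟩⟩, ⟨⟨0, 0, 0, 0, 0, 0, 0, 0⟩, ⟨0, 0, 0, 0, 0, 0, 0, 0⟩, ⟨0, 0, 0, 0, -4, 0, 0, 0⟩⟩, ⟨⟨0, 0, 0, 0, 0, 0, 0, 0⟩, ⟨0, 0, 0, 0, 4, 0, 0, 0⟩, ⟨0, 0, 0, 0, 0, 0, 0, 0⟩⟩⟩, ⟨⟨⟨-4, 0, 0, 0, 0, 0, 0, 0⟩, ⟨0, 0, 0, 0, 0, 0, 0, 0⟩, ⟨0, 0, 0, 0, 0, 0, 0, 0⟩⟩, ⟨⟨0, 0, 0, 0, 0, 0, 0, 0⟩, ⟨4, 0, 0,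 0, 0, 0, 0, 0⟩, ⟨0, 0, 0, 0, 0, 0, 0, 0⟩⟩, ⟨⟨0, 0, 0, 0, 0, 0, 0, 0⟩, ⟨0, 0, 0, 0, 0, 0, 0, 0⟩, ⟨4, 0, 0, 0, 0, 0, 0, 0⟩⟩⟩, ⟨⟨⟨0, 0, 4, 0, 0, 0, 0, 0⟩, ⟨0, 0, 0, 0, 0, 0, 0, 0⟩, ⟨0, 0, 0, 0, 0, 0, 0, 0⟩⟩, ⟨⟨0, 0, 0, 0, 0, 0, 0, 0⟩, ⟨0, 0, 0, 0, 0, 0, -4, 0⟩, ⟨0, 0, 0, 0, 0, 0, 0, 0⟩⟩, ⟨⟨0, 0, 0, 0, 0, 0, 0, 0⟩, ⟨0, 0, 0, 0, 0, 0, 0, 0⟩, ⟨0, 0, 0, 0, 4, 0, 0, 0⟩⟩⟩, ⟨⟨⟨0, 0, 2, 0, -2, 2, 0, 2⟩, ⟨0, 0, 0, 0, 0, 0, 0, 0⟩, ⟨0, 0, 0, 0, 0, 0, 0, 0⟩⟩, ⟨⟨0, 0, 0, 0, 0, 0, 0, 0⟩, ⟨0, 0, 0, 0, 2, 0, -2, 0⟩, ⟨-2, 0, -2, 0, 0, 0, 0, 0⟩⟩, ⟨⟨0, 0, 0, 0, 0, 0, 0, 0⟩,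 ⟨2, 0, -2, 0, 0, 0, 0, 0⟩, ⟨0, 0, 0, 0, 2, 0, 2, 0⟩⟩⟩, ⟨⟨⟨-2, 0, 2, 0, 2, 0, -2, 0⟩, ⟨0, 0, 0, 0, 0, 0, 0, 0⟩, ⟨0, 0, 0, 0, 0, 0, 0, 0⟩⟩, ⟨⟨0, 0, 0, 0, 0, 0, 0, 0⟩, ⟨-2, 0, -2, 0, -2, 0, -2, 0⟩, ⟨0, 0, 0, 0, 0, 0, 0, 0⟩⟩, ⟨⟨0, 0, 0, 0, 0, 0, 0, 0⟩, ⟨0, 0, 0, 0, 0, 0, 0, 0⟩, ⟨-2, 0, 2, 0, 2, 0, -2, 0⟩⟩⟩, ⟨⟨⟨4, 0, 0, 0, 0, 0, 0, 0⟩, ⟨0, 0, 0, 0, 0, 0, 0, 0⟩, ⟨0, 0, 0, 0, 0, 0, 0, 0⟩⟩, ⟨⟨0, 0, 0, 0, 0, 0, 0, 0⟩, ⟨0, 0, 0, 0, 0, 0, 0, 0⟩, ⟨0, 0, 0, 0, 0, 0, 4, 0⟩⟩, ⟨⟨0, 0, 0, 0, 0, 0, 0, 0⟩, ⟨0, 0, 0, 0, 0, 0, -4, 0⟩, ⟨0, 0, 0, 0, 0, 0, 0, 0⟩⟩⟩, ⟨⟨⟨0, 0,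 0, 0, 0, 0, 0, 0⟩, ⟨0, 0, 0, 0, 0, 0, 4, 0⟩, ⟨0, 0, 0, 0, 0, 0, 0, 0⟩⟩, ⟨⟨0, 0, 0, 0, 0, 0, -4, 0⟩, ⟨0, 0, 0, 0, 0, 0, 0, 0⟩, ⟨0, 0, 0, 0, 0, 0, 0, 0⟩⟩, ⟨⟨0, 0, 0, 0, 0, 0, 0, 0⟩, ⟨0, 0, 0, 0, 0, 0, 0, 0⟩, ⟨4, 0, 0, 0, 0, 0, 0, 0⟩⟩⟩, ⟨⟨⟨2, 0, 0, 0, 0, 0, 0, 0⟩, ⟨1, -1, 1, -1, -1, 1, -1, 1⟩, ⟨0, 1, 0, 1, 0, 1, 0, -1⟩⟩, ⟨⟨1, -1, -1, 1, 1, -1, 1, -1⟩, ⟨0, 2, 0, 0, 0, 0, 0, 0⟩, ⟨1, 0, -1, 0, 1, 0, -1, 0⟩⟩, ⟨⟨0, 1, 0, -1, 0, -1, 0, 1⟩, ⟨1, 0, 1, 0, -1, 0, 1, 0⟩, ⟨2, -2, 0, 0, 0, 0, 0, 0⟩⟩⟩]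
def wz : V3 := ⟨⟨-4, 0, 0, 0, 0, 0, 0, 0⟩, ⟨0, 0, 0, 0, 0, 0, 0, 0⟩, ⟨0, 0, 0, 0, 0, 0, 0, 0⟩⟩
def TW0 : List (List ℕ × Z8 × V3) := [([], ⟨-2, 0, 0, 0, 0, 0, 0, 0⟩, ⟨⟨4, 0, 0, 0, 0, 0, 0, 0⟩, ⟨0, 0, 0, 0, 0, 0, 0, 0⟩, ⟨0, 0, 0, 0, 0, 0, 0, 0⟩⟩), ([18], ⟨0, 0, 0, 0, 0, 0, -2, 0⟩, ⟨⟨0, 0, 0, 0, 0, 0, 0, 0⟩, ⟨4, 0, 0, 0, 0, 0, 0, 0⟩, ⟨0, 0, 0, 0, 0, 0, 0, 0⟩⟩), ([20], ⟨-2, 0, 0, 0, 0, 0, 0, 0⟩, ⟨⟨2, 0, 0, 0, 0, 0, 0, 0⟩, ⟨1, -1, 1, -1, -1, 1, -1, 1⟩, ⟨0, 1, 0, 1, 0, 1, 0, -1⟩⟩), ([2, 18], ⟨0, 0, 0, 0, 0, 0, 2, 0⟩, ⟨⟨0, 0, 0, 0, 0, 0, 0, 0⟩, ⟨0, 0, 0, 0,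 0, 0, 0, 0⟩, ⟨4, 0, 0, 0, 0, 0, 0, 0⟩⟩), ([12, 18], ⟨0, 1, 1, -1, 1, 0, 0, 0⟩, ⟨⟨0, 0, 0, 0, 0, 0, 0, 0⟩, ⟨1, -2, 1, 0, 1, 0, 1, 0⟩, ⟨1, 0, -1, 0, 1, 0, -1, 2⟩⟩), ([20, 18], ⟨-1, 0, 1, 0, 1, 0, -1, 0⟩, ⟨⟨1, -1, -1, 1, -1, 1, 1, -1⟩, ⟨0, 1, 0, 1, 0, -1, 0, 1⟩, ⟨2, 0, 0, 0, 0, 0, 0, 0⟩⟩), ([0, 20], ⟨-2, 0, 0, 0, 0, 0, 0, 0⟩, ⟨⟨2, 0, 0, 0, 0, 0, 0, 0⟩, ⟨-1, 1, -1, 1, 1, -1, 1, -1⟩, ⟨0, 1, 0, 1, 0, 1, 0, -1⟩⟩), ([2, 20], ⟨-2, 0, 0, 0, 0, 0, 0, 0⟩, ⟨⟨2, 0, 0, 0, 0, 0, 0, 0⟩, ⟨0, -1, 0, -1, 0, -1, 0, 1⟩, ⟨-1, 1, -1, 1, 1, -1, 1, -1⟩⟩), ([4, 20], ⟨-2, 0, 0,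 0, 0, 0, 0, 0⟩, ⟨⟨2, 0, 0, 0, 0, 0, 0, 0⟩, ⟨0, 1, 0, -1, 0, 1, 0, 1⟩, ⟨-1, 1, 1, -1, -1, 1, 1, -1⟩⟩), ([6, 20], ⟨-2, 0, 0, 0, 0, 0, 0, 0⟩, ⟨⟨2, 0, 0, 0, 0, 0, 0, 0⟩, ⟨0, -1, 0, 1, 0, 1, 0, 1⟩, ⟨-1, 1, -1, 1, -1, 1, -1, 1⟩⟩), ([8, 20], ⟨2, 0, 0, 0, 0, 0, 0, 0⟩, ⟨⟨2, 0, 0, 0, 0, 0, 0, 0⟩, ⟨-1, 1, -1, 1, 1, -1, 1, -1⟩, ⟨0, -1, 0, -1, 0, -1, 0, 1⟩⟩), ([12, 20], ⟨0, 0, -1, 0, 1, -1, 0, -1⟩, ⟨⟨2, 0, 0, 0, 0, 0, 0, 0⟩, ⟨0, 0, 0, 0, 0, 0, -2, 0⟩, ⟨-1, 2, -1, 0, -1, 0, 1, 0⟩⟩), ([16, 20], ⟨-2, 0, 0, 0, 0, 0, 0, 0⟩, ⟨⟨2, 0, 0, 0, 0, 0, 0, 0⟩, ⟨0, -1, 0, -1, 0,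 1, 0, -1⟩, ⟨1, -1, -1, 1, -1, 1, 1, -1⟩⟩), ([18, 20], ⟨0, 0, 0, 0, 0, 0, -2, 0⟩, ⟨⟨-1, 1, 1, -1, -1, 1, 1, -1⟩, ⟨2, 0, 0, 0, 0, 0, 0, 0⟩, ⟨0, -1, 0, 1, 0, -1, 0, -1⟩⟩), ([12, 2, 18], ⟨0, 0, 1, 0, -1, 1, 0, -1⟩, ⟨⟨0, 0, 0, 0, 0, 0, 0, 0⟩, ⟨1, -2, 1, 0, 1, 0, 1, 0⟩, ⟨-1, 0, 1, 0, -1, 0, 1, -2⟩⟩), ([20, 2, 18], ⟨-1, 0, 1, 0, 1, 0, 1, 0⟩, ⟨⟨0, 1, 0, -1, 0, 1, 0, 1⟩, ⟨2, 0, 0, 0, 0, 0, 0, 0⟩, ⟨1, -1, -1, 1, 1, -1, -1, 1⟩⟩), ([10, 12, 18], ⟨1, 0, 0, 0, 0, -1, 1, -1⟩, ⟨⟨0, 0, 0, 0, 0, 0, 0, 0⟩, ⟨1, -2, 1, 0, 1, 0, 1, 0⟩, ⟨-1, 0, -1, 0, 1, -2, 1, 0⟩⟩), ([18,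 12, 18], ⟨1, 0, 0, 0, 0, -1, 1, -1⟩, ⟨⟨1, -2, 1, 0, 1, 0, 1, 0⟩, ⟨0, 0, 0, 0, 0, 0, 0, 0⟩, ⟨1, -2, 1, 0, 1, 0, 1, 0⟩⟩), ([20, 12, 18], ⟨0, 0, 1, 0, -1, 1, 0, 1⟩, ⟨⟨2, 0, 0, 0, 0, 0, 0, 0⟩, ⟨0, 1, 0, 1, 0, -1, 0, 1⟩, ⟨-1, 1, 1, -1, 1, -1, -1, 1⟩⟩), ([0, 20, 18], ⟨-1, 0, 1, 0, 1, 0, -1, 0⟩, ⟨⟨1, -1, -1, 1, -1, 1, 1, -1⟩, ⟨0, -1, 0, -1, 0, 1, 0, -1⟩, ⟨2, 0, 0, 0, 0, 0, 0, 0⟩⟩), ([2, 20, 18], ⟨1, 0, -1, 0, -1, 0, 1, 0⟩, ⟨⟨-1, 1, 1, -1, 1, -1, -1, 1⟩, ⟨2, 0, 0, 0, 0, 0, 0, 0⟩, ⟨0, 1, 0, 1, 0, -1, 0, 1⟩⟩), ([4, 20, 18], ⟨1, 0, 1, 0, 1, 0, 1, 0⟩, ⟨⟨1, -1, 1,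 -1, -1, 1, -1, 1⟩, ⟨2, 0, 0, 0, 0, 0, 0, 0⟩, ⟨0, -1, 0, -1, 0, -1, 0, 1⟩⟩), ([6, 20, 18], ⟨-1, 0, 1, 0, -1, 0, 1, 0⟩, ⟨⟨-1, 1, -1, 1, -1, 1, -1, 1⟩, ⟨2, 0, 0, 0, 0, 0, 0, 0⟩, ⟨0, -1, 0, 1, 0, 1, 0, 1⟩⟩), ([8, 20, 18], ⟨-1, 0, 1, 0, 1, 0, -1, 0⟩, ⟨⟨-1, 1, 1, -1, 1, -1, -1, 1⟩, ⟨0, 1, 0, 1, 0, -1, 0, 1⟩, ⟨2, 0, 0, 0, 0, 0, 0, 0⟩⟩), ([18, 20, 18], ⟨-1, 0, 1, 0, 1, 0, -1, 0⟩, ⟨⟨0, 1, 0, 1, 0, 1, 0, -1⟩, ⟨-1, 1, -1, 1, 1, -1, 1, -1⟩, ⟨2, 0, 0, 0, 0, 0, 0, 0⟩⟩), ([2, 0, 20], ⟨-2, 0, 0, 0, 0, 0, 0, 0⟩, ⟨⟨2, 0, 0, 0, 0, 0, 0, 0⟩, ⟨0, -1, 0, -1, 0, -1, 0, 1⟩,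 ⟨1, -1, 1, -1, -1, 1, -1, 1⟩⟩), ([4, 0, 20], ⟨-2, 0, 0, 0, 0, 0, 0, 0⟩, ⟨⟨2, 0, 0, 0, 0, 0, 0, 0⟩, ⟨0, 1, 0, -1, 0, 1, 0, 1⟩, ⟨1, -1, -1, 1, 1, -1, -1, 1⟩⟩), ([6, 0, 20], ⟨-2, 0, 0, 0, 0, 0, 0, 0⟩, ⟨⟨2, 0, 0, 0, 0, 0, 0, 0⟩, ⟨0, -1, 0, 1, 0, 1, 0, 1⟩, ⟨1, -1, 1, -1, 1, -1, 1, -1⟩⟩), ([8, 0, 20], ⟨2, 0, 0, 0, 0, 0, 0, 0⟩, ⟨⟨2, 0, 0, 0, 0, 0, 0, 0⟩, ⟨1, -1, 1, -1, -1, 1, -1, 1⟩, ⟨0, -1, 0, -1, 0, -1, 0, 1⟩⟩), ([12, 0, 20], ⟨0, 0, -1, 0, 1, -1, 0, -1⟩, ⟨⟨2, 0, 0, 0, 0, 0, 0, 0⟩, ⟨1, 0, 1, 0, -1, 0, 1, -2⟩, ⟨2, 0, 0, 0, 0, 0, 0, 0⟩⟩), ([16, 0, 20], ⟨-2,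 0, 0, 0, 0, 0, 0, 0⟩, ⟨⟨2, 0, 0, 0, 0, 0, 0, 0⟩, ⟨0, -1, 0, -1, 0, 1, 0, -1⟩, ⟨-1, 1, 1, -1, 1, -1, -1, 1⟩⟩), ([18, 0, 20], ⟨0, 0, 0, 0, 0, 0, -2, 0⟩, ⟨⟨1, -1, -1, 1, 1, -1, -1, 1⟩, ⟨2, 0, 0, 0, 0, 0, 0, 0⟩, ⟨0, -1, 0, 1, 0, -1, 0, -1⟩⟩), ([20, 0, 20], ⟨-1, 0, -1, 0, 1, 0, 1, 0⟩, ⟨⟨0, 1, 0, -1, 0, 1, 0, 1⟩, ⟨2, 0, 0, 0, 0, 0, 0, 0⟩, ⟨-1, 1, 1, -1, -1, 1, 1, -1⟩⟩), ([0, 2, 20], ⟨-2, 0, 0, 0, 0, 0, 0, 0⟩, ⟨⟨2, 0, 0, 0, 0, 0, 0, 0⟩, ⟨0, 1, 0, 1, 0, 1, 0, -1⟩, ⟨-1, 1, -1, 1, 1, -1, 1, -1⟩⟩), ([4, 2, 20], ⟨-2, 0, 0, 0, 0, 0, 0, 0⟩, ⟨⟨2, 0, 0, 0, 0, 0, 0,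 0⟩, ⟨-1, 1, 1, -1, -1, 1, 1, -1⟩, ⟨0, 1, 0, -1, 0, 1, 0, 1⟩⟩)]
def TW1 : List (List ℕ × Z8 × V3) := [([6, 2, 20], ⟨-2, 0, 0, 0, 0, 0, 0, 0⟩, ⟨⟨2, 0, 0, 0, 0, 0, 0, 0⟩, ⟨-1, 1, -1, 1, -1, 1, -1, 1⟩, ⟨0, -1, 0, 1, 0, 1, 0, 1⟩⟩), ([8, 2, 20], ⟨2, 0, 0, 0, 0, 0, 0, 0⟩, ⟨⟨2, 0, 0, 0, 0, 0, 0, 0⟩, ⟨0, 1, 0, 1, 0, 1, 0, -1⟩, ⟨1, -1, 1, -1, -1, 1, -1, 1⟩⟩), ([12, 2, 20], ⟨1, -1, 0, -1, 0, 0, 1, 0⟩, ⟨⟨0, 0, 0, 0, 2, 0, 0, 0⟩, ⟨1, 0, -1, 0, -1, 0, -1, 2⟩, ⟨2, 0, 0, 0, 0, 0, 0, 0⟩⟩), ([16, 2, 20], ⟨-2, 0, 0, 0, 0, 0, 0, 0⟩, ⟨⟨2, 0, 0, 0, 0, 0, 0, 0⟩, ⟨1, -1, -1,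 1, -1, 1, 1, -1⟩, ⟨0, -1, 0, -1, 0, 1, 0, -1⟩⟩), ([18, 2, 20], ⟨0, 0, 0, 0, 0, 0, -2, 0⟩, ⟨⟨0, 1, 0, -1, 0, -1, 0, -1⟩, ⟨2, 0, 0, 0, 0, 0, 0, 0⟩, ⟨1, -1, 1, -1, 1, -1, 1, -1⟩⟩), ([0, 4, 20], ⟨-2, 0, 0, 0, 0, 0, 0, 0⟩, ⟨⟨2, 0, 0, 0, 0, 0, 0, 0⟩, ⟨0, -1, 0, 1, 0, -1, 0, -1⟩, ⟨-1, 1, 1, -1, -1, 1, 1, -1⟩⟩), ([2, 4, 20], ⟨-2, 0, 0, 0, 0, 0, 0, 0⟩, ⟨⟨2, 0, 0, 0, 0, 0, 0, 0⟩, ⟨1, -1, -1, 1, 1, -1, -1, 1⟩, ⟨0, -1, 0, 1, 0, -1, 0, -1⟩⟩), ([6, 4, 20], ⟨-2, 0, 0, 0, 0, 0, 0, 0⟩, ⟨⟨2, 0, 0, 0, 0, 0, 0, 0⟩, ⟨1, -1, -1, 1, -1, 1, 1, -1⟩, ⟨0, 1, 0, 1, 0, -1, 0, 1⟩⟩),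 ([8, 4, 20], ⟨2, 0, 0, 0, 0, 0, 0, 0⟩, ⟨⟨2, 0, 0, 0, 0, 0, 0, 0⟩, ⟨0, -1, 0, 1, 0, -1, 0, -1⟩, ⟨1, -1, -1, 1, 1, -1, -1, 1⟩⟩), ([12, 4, 20], ⟨0, 1, 1, -1, 1, 0, 0, 0⟩, ⟨⟨0, 0, 0, 0, 0, 0, -2, 0⟩, ⟨-1, 0, 1, 0, -1, 0, -1, 2⟩, ⟨2, 0, 0, 0, 0, 0, 0, 0⟩⟩), ([16, 4, 20], ⟨-2, 0, 0, 0, 0, 0, 0, 0⟩, ⟨⟨2, 0, 0, 0, 0, 0, 0, 0⟩, ⟨1, -1, 1, -1, 1, -1, 1, -1⟩, ⟨0, -1, 0, 1, 0, 1, 0, 1⟩⟩), ([18, 4, 20], ⟨0, 0, 0, 0, 0, 0, -2, 0⟩, ⟨⟨0, -1, 0, -1, 0, 1, 0, -1⟩, ⟨2, 0, 0, 0, 0, 0, 0, 0⟩, ⟨1, -1, -1, 1, -1, 1, 1, -1⟩⟩), ([0, 6, 20], ⟨-2, 0, 0, 0, 0, 0, 0, 0⟩, ⟨⟨2, 0,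 0, 0, 0, 0, 0, 0⟩, ⟨0, 1, 0, -1, 0, -1, 0, -1⟩, ⟨-1, 1, -1, 1, -1, 1, -1, 1⟩⟩), ([2, 6, 20], ⟨-2, 0, 0, 0, 0, 0, 0, 0⟩, ⟨⟨2, 0, 0, 0, 0, 0, 0, 0⟩, ⟨1, -1, 1, -1, 1, -1, 1, -1⟩, ⟨0, 1, 0, -1, 0, -1, 0, -1⟩⟩), ([4, 6, 20], ⟨-2, 0, 0, 0, 0, 0, 0, 0⟩, ⟨⟨2, 0, 0, 0, 0, 0, 0, 0⟩, ⟨-1, 1, 1, -1, 1, -1, -1, 1⟩, ⟨0, -1, 0, -1, 0, 1, 0, -1⟩⟩), ([8, 6, 20], ⟨2, 0, 0, 0, 0, 0, 0, 0⟩, ⟨⟨2, 0, 0, 0, 0, 0, 0, 0⟩, ⟨0, 1, 0, -1, 0, -1, 0, -1⟩, ⟨1, -1, 1, -1, 1, -1, 1, -1⟩⟩), ([12, 6, 20], ⟨-1, 0, 0, 0, 0, 1, 1, -1⟩, ⟨⟨0, 0, 2, 0, 0, 0, 0, 0⟩, ⟨1, 0, 1, 0, 1, 0, -1, 2⟩,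 ⟨2, 0, 0, 0, 0, 0, 0, 0⟩⟩), ([16, 6, 20], ⟨-2, 0, 0, 0, 0, 0, 0, 0⟩, ⟨⟨2, 0, 0, 0, 0, 0, 0, 0⟩, ⟨-1, 1, 1, -1, -1, 1, 1, -1⟩, ⟨0, -1, 0, 1, 0, -1, 0, -1⟩⟩), ([18, 6, 20], ⟨0, 0, 0, 0, 0, 0, -2, 0⟩, ⟨⟨0, 1, 0, 1, 0, 1, 0, -1⟩, ⟨2, 0, 0, 0, 0, 0, 0, 0⟩, ⟨-1, 1, -1, 1, 1, -1, 1, -1⟩⟩), ([12, 8, 20], ⟨0, 0, 1, 0, -1, 1, 0, 1⟩, ⟨⟨2, 0, 0, 0, 0, 0, 0, 0⟩, ⟨0, 0, 0, 0, 0, 0, 2, 0⟩, ⟨1, -2, 1, 0, 1, 0, -1, 0⟩⟩), ([18, 8, 20], ⟨0, 0, 0, 0, 0, 0, 2, 0⟩, ⟨⟨1, -1, -1, 1, 1, -1, -1, 1⟩, ⟨2, 0, 0, 0, 0, 0, 0, 0⟩, ⟨0, 1, 0, -1, 0, 1, 0, 1⟩⟩), ([0, 12, 20], ⟨0, 0, -1,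 0, 1, -1, 0, -1⟩, ⟨⟨2, 0, 0, 0, 0, 0, 0, 0⟩, ⟨0, 0, 0, 0, 0, 0, 2, 0⟩, ⟨-1, 2, -1, 0, -1, 0, 1, 0⟩⟩), ([10, 12, 20], ⟨1, 0, 0, 0, 0, -1, -1, 1⟩, ⟨⟨2, 0, 0, 0, 0, 0, 0, 0⟩, ⟨0, 0, 2, 0, 0, 0, 0, 0⟩, ⟨-1, 0, -1, 0, -1, 0, 1, -2⟩⟩), ([18, 12, 20], ⟨0, 0, 1, 0, -1, 1, 0, 1⟩, ⟨⟨2, 0, 0, 0, 0, 0, 0, 0⟩, ⟨0, 0, 0, 0, 0, 0, -2, 0⟩, ⟨1, -2, 1, 0, 1, 0, -1, 0⟩⟩), ([20, 12, 20], ⟨0, 0, 1, -1, 0, 1, -1, 0⟩, ⟨⟨-1, 2, -1, 0, -1, 0, -1, 0⟩, ⟨0, 0, 0, 0, 0, 0, 0, 0⟩, ⟨1, -2, 1, 0, 1, 0, 1, 0⟩⟩), ([0, 16, 20], ⟨-2, 0, 0, 0, 0, 0, 0, 0⟩, ⟨⟨2, 0, 0, 0, 0, 0, 0, 0⟩, ⟨0,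 1, 0, 1, 0, -1, 0, 1⟩, ⟨1, -1, -1, 1, -1, 1, 1, -1⟩⟩), ([2, 16, 20], ⟨-2, 0, 0, 0, 0, 0, 0, 0⟩, ⟨⟨2, 0, 0, 0, 0, 0, 0, 0⟩, ⟨-1, 1, 1, -1, 1, -1, -1, 1⟩, ⟨0, 1, 0, 1, 0, -1, 0, 1⟩⟩), ([4, 16, 20], ⟨-2, 0, 0, 0, 0, 0, 0, 0⟩, ⟨⟨2, 0, 0, 0, 0, 0, 0, 0⟩, ⟨-1, 1, -1, 1, -1, 1, -1, 1⟩, ⟨0, 1, 0, -1, 0, -1, 0, -1⟩⟩), ([6, 16, 20], ⟨-2, 0, 0, 0, 0, 0, 0, 0⟩, ⟨⟨2, 0, 0, 0, 0, 0, 0, 0⟩, ⟨1, -1, -1, 1, 1, -1, -1, 1⟩, ⟨0, 1, 0, -1, 0, 1, 0, 1⟩⟩), ([2, 18, 20], ⟨0, 0, 0, 0, 0, 0, 2, 0⟩, ⟨⟨1, -1, -1, 1, 1, -1, -1, 1⟩, ⟨0, -1, 0, 1, 0, -1, 0, -1⟩, ⟨2, 0, 0, 0, 0, 0,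 0, 0⟩⟩), ([4, 18, 20], ⟨0, 0, 0, 0, -2, 0, 0, 0⟩, ⟨⟨1, -1, 1, -1, 1, -1, 1, -1⟩, ⟨0, 1, 0, -1, 0, -1, 0, -1⟩, ⟨2, 0, 0, 0, 0, 0, 0, 0⟩⟩), ([6, 18, 20], ⟨0, 0, -2, 0, 0, 0, 0, 0⟩, ⟨⟨1, -1, 1, -1, -1, 1, -1, 1⟩, ⟨0, 1, 0, 1, 0, 1, 0, -1⟩, ⟨2, 0, 0, 0, 0, 0, 0, 0⟩⟩), ([10, 12, 2, 18], ⟨1, -1, 0, -1, 0, 0, -1, 0⟩, ⟨⟨0, 0, 0, 0, 0, 0, 0, 0⟩, ⟨1, -2, 1, 0, 1, 0, 1, 0⟩, ⟨1, 0, 1, 0, -1, 2, -1, 0⟩⟩), ([20, 12, 2, 18], ⟨0, 0, -1, 0, 1, -1, 0, 1⟩, ⟨⟨-1, 0, 1, 0, -1, 0, -1, 2⟩, ⟨2, 0, 0, 0, 0, 0, 0, 0⟩, ⟨0, 0, 0, 0, 0, 0, -2, 0⟩⟩), ([0, 20, 2, 18], ⟨1, 0, -1, 0,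 -1, 0, -1, 0⟩, ⟨⟨0, -1, 0, 1, 0, -1, 0, -1⟩, ⟨2, 0, 0, 0, 0, 0, 0, 0⟩, ⟨-1, 1, 1, -1, -1, 1, 1, -1⟩⟩)]
def TW2 : List (List ℕ × Z8 × V3) := [([2, 20, 2, 18], ⟨1, 0, -1, 0, -1, 0, -1, 0⟩, ⟨⟨0, -1, 0, 1, 0, -1, 0, -1⟩, ⟨1, -1, -1, 1, 1, -1, -1, 1⟩, ⟨2, 0, 0, 0, 0, 0, 0, 0⟩⟩), ([4, 20, 2, 18], ⟨-1, 0, -1, 0, 1, 0, -1, 0⟩, ⟨⟨0, -1, 0, -1, 0, 1, 0, -1⟩, ⟨-1, 1, 1, -1, 1, -1, -1, 1⟩, ⟨2, 0, 0, 0, 0, 0, 0, 0⟩⟩), ([6, 20, 2, 18], ⟨1, 0, 1, 0, 1, 0, -1, 0⟩, ⟨⟨0, -1, 0, 1, 0, 1, 0, 1⟩, ⟨-1, 1, -1, 1, -1, 1, -1, 1⟩, ⟨2, 0, 0, 0, 0, 0, 0, 0⟩⟩), ([8, 20, 2, 18],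 ⟨-1, 0, 1, 0, 1, 0, 1, 0⟩, ⟨⟨0, -1, 0, 1, 0, -1, 0, -1⟩, ⟨2, 0, 0, 0, 0, 0, 0, 0⟩, ⟨1, -1, -1, 1, 1, -1, -1, 1⟩⟩), ([12, 20, 2, 18], ⟨0, 1, -1, 1, -1, 0, 0, 0⟩, ⟨⟨0, -1, 0, -1, 0, -1, 0, 1⟩, ⟨1, -1, 1, -1, -1, 1, -1, 1⟩, ⟨2, 0, 0, 0, 0, 0, 0, 0⟩⟩), ([14, 10, 12, 18], ⟨0, -1, 0, 0, -1, 1, -1, 0⟩, ⟨⟨0, 0, 0, 0, 0, 0, 0, 0⟩, ⟨1, -2, 1, 0, 1, 0, 1, 0⟩, ⟨1, -2, 1, 0, 1, 0, 1, 0⟩⟩), ([15, 10, 12, 18], ⟨-1, 1, 0, 0, 1, 0, 0, 1⟩, ⟨⟨0, 0, 0, 0, 0, 0, 0, 0⟩, ⟨1, -2, 1, 0, 1, 0, 1, 0⟩, ⟨1, 0, -1, 2, -1, 0, 1, 0⟩⟩), ([18, 10, 12, 18], ⟨-1, 1, 0, 1, 0, 0, 1, 0⟩,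 ⟨⟨-1, 0, 1, -2, 1, 0, -1, 0⟩, ⟨0, 0, 0, 0, 0, 0, 0, 0⟩, ⟨1, -2, 1, 0, 1, 0, 1, 0⟩⟩), ([2, 18, 12, 18], ⟨1, 0, 0, 0, 0, -1, 1, -1⟩, ⟨⟨1, -2, 1, 0, 1, 0, 1, 0⟩, ⟨-1, 2, -1, 0, -1, 0, -1, 0⟩, ⟨0, 0, 0, 0, 0, 0, 0, 0⟩⟩), ([4, 18, 12, 18], ⟨1, 0, 0, 0, 0, -1, 1, -1⟩, ⟨⟨1, -2, 1, 0, 1, 0, 1, 0⟩, ⟨1, 0, -1, 2, -1, 0, 1, 0⟩, ⟨0, 0, 0, 0, 0, 0, 0, 0⟩⟩), ([6, 18, 12, 18], ⟨1, 0, 0, 0, 0, -1, 1, -1⟩, ⟨⟨1, -2, 1, 0, 1, 0, 1, 0⟩, ⟨-1, 0, -1, 0, 1, -2, 1, 0⟩, ⟨0, 0, 0, 0, 0, 0, 0, 0⟩⟩), ([10, 18, 12, 18], ⟨-1, 1, 0, 1, 0, 0, 1, 0⟩, ⟨⟨-1, 0, 1, 0, -1, 0, 1, -2⟩, ⟨0,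 0, 0, 0, 0, 0, 0, 0⟩, ⟨1, -2, 1, 0, 1, 0, 1, 0⟩⟩), ([12, 18, 12, 18], ⟨0, 0, 0, 0, 0, 0, 2, 0⟩, ⟨⟨-1, 0, 1, 0, -1, 0, -1, 2⟩, ⟨2, 0, 0, 0, 0, 0, 0, 0⟩, ⟨0, 0, 0, 0, 0, 0, 2, 0⟩⟩), ([16, 18, 12, 18], ⟨1, 0, 0, 0, 0, -1, 1, -1⟩, ⟨⟨1, -2, 1, 0, 1, 0, 1, 0⟩, ⟨1, 0, -1, 0, 1, 0, -1, 2⟩, ⟨0, 0, 0, 0, 0, 0, 0, 0⟩⟩), ([2, 0, 20, 18], ⟨1, 0, -1, 0, -1, 0, 1, 0⟩, ⟨⟨-1, 1, 1, -1, 1, -1, -1, 1⟩, ⟨2, 0, 0, 0, 0, 0, 0, 0⟩, ⟨0, -1, 0, -1, 0, 1, 0, -1⟩⟩), ([4, 0, 20, 18], ⟨1, 0, 1, 0, 1, 0, 1, 0⟩, ⟨⟨1, -1, 1, -1, -1, 1, -1, 1⟩, ⟨2, 0, 0, 0, 0, 0, 0, 0⟩, ⟨0, 1, 0, 1,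 0, 1, 0, -1⟩⟩), ([6, 0, 20, 18], ⟨-1, 0, 1, 0, -1, 0, 1, 0⟩, ⟨⟨-1, 1, -1, 1, -1, 1, -1, 1⟩, ⟨2, 0, 0, 0, 0, 0, 0, 0⟩, ⟨0, 1, 0, -1, 0, -1, 0, -1⟩⟩), ([8, 0, 20, 18], ⟨-1, 0, 1, 0, 1, 0, -1, 0⟩, ⟨⟨-1, 1, 1, -1, 1, -1, -1, 1⟩, ⟨0, -1, 0, -1, 0, 1, 0, -1⟩, ⟨2, 0, 0, 0, 0, 0, 0, 0⟩⟩), ([16, 0, 20, 18], ⟨-1, 0, -1, 0, 1, 0, 1, 0⟩, ⟨⟨-1, 1, 1, -1, -1, 1, 1, -1⟩, ⟨2, 0, 0, 0, 0, 0, 0, 0⟩, ⟨0, 1, 0, -1, 0, 1, 0, 1⟩⟩), ([18, 0, 20, 18], ⟨-1, 0, 1, 0, 1, 0, -1, 0⟩, ⟨⟨0, -1, 0, -1, 0, -1, 0, 1⟩, ⟨-1, 1, -1, 1, 1, -1, 1, -1⟩, ⟨2, 0, 0, 0, 0, 0, 0, 0⟩⟩), ([0, 2,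 20, 18], ⟨-1, 0, 1, 0, 1, 0, -1, 0⟩, ⟨⟨1, -1, -1, 1, -1, 1, 1, -1⟩, ⟨2, 0, 0, 0, 0, 0, 0, 0⟩, ⟨0, -1, 0, -1, 0, 1, 0, -1⟩⟩), ([4, 2, 20, 18], ⟨1, 0, 1, 0, 1, 0, 1, 0⟩, ⟨⟨1, -1, 1, -1, -1, 1, -1, 1⟩, ⟨0, -1, 0, -1, 0, -1, 0, 1⟩, ⟨2, 0, 0, 0, 0, 0, 0, 0⟩⟩), ([6, 2, 20, 18], ⟨-1, 0, 1, 0, -1, 0, 1, 0⟩, ⟨⟨-1, 1, -1, 1, -1, 1, -1, 1⟩, ⟨0, -1, 0, 1, 0, 1, 0, 1⟩, ⟨2, 0, 0, 0, 0, 0, 0, 0⟩⟩), ([8, 2, 20, 18], ⟨1, 0, -1, 0, -1, 0, 1, 0⟩, ⟨⟨1, -1, -1, 1, -1, 1, 1, -1⟩, ⟨2, 0, 0, 0, 0, 0, 0, 0⟩, ⟨0, 1, 0, 1, 0, -1, 0, 1⟩⟩), ([16, 2, 20, 18], ⟨-1, 0, -1, 0, 1, 0,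 1, 0⟩, ⟨⟨-1, 1, 1, -1, -1, 1, 1, -1⟩, ⟨0, -1, 0, 1, 0, -1, 0, -1⟩, ⟨2, 0, 0, 0, 0, 0, 0, 0⟩⟩), ([0, 4, 20, 18], ⟨-1, 0, -1, 0, -1, 0, -1, 0⟩, ⟨⟨-1, 1, -1, 1, 1, -1, 1, -1⟩, ⟨2, 0, 0, 0, 0, 0, 0, 0⟩, ⟨0, 1, 0, 1, 0, 1, 0, -1⟩⟩), ([2, 4, 20, 18], ⟨-1, 0, -1, 0, -1, 0, -1, 0⟩, ⟨⟨-1, 1, -1, 1, 1, -1, 1, -1⟩, ⟨0, -1, 0, -1, 0, -1, 0, 1⟩, ⟨2, 0, 0, 0, 0, 0, 0, 0⟩⟩), ([6, 4, 20, 18], ⟨1, 0, 1, 0, -1, 0, -1, 0⟩, ⟨⟨1, -1, -1, 1, 1, -1, -1, 1⟩, ⟨0, 1, 0, -1, 0, 1, 0, 1⟩, ⟨2, 0, 0, 0, 0, 0, 0, 0⟩⟩), ([8, 4, 20, 18], ⟨1, 0, 1, 0, 1, 0, 1, 0⟩, ⟨⟨-1, 1, -1, 1, 1,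 -1, 1, -1⟩, ⟨2, 0, 0, 0, 0, 0, 0, 0⟩, ⟨0, -1, 0, -1, 0, -1, 0, 1⟩⟩), ([16, 4, 20, 18], ⟨-1, 0, 1, 0, -1, 0, 1, 0⟩, ⟨⟨-1, 1, -1, 1, -1, 1, -1, 1⟩, ⟨0, 1, 0, -1, 0, -1, 0, -1⟩, ⟨2, 0, 0, 0, 0, 0, 0, 0⟩⟩), ([0, 6, 20, 18], ⟨1, 0, -1, 0, 1, 0, -1, 0⟩, ⟨⟨1, -1, 1, -1, 1, -1, 1, -1⟩, ⟨2, 0, 0, 0, 0, 0, 0, 0⟩, ⟨0, 1, 0, -1, 0, -1, 0, -1⟩⟩), ([2, 6, 20, 18], ⟨1, 0, -1, 0, 1, 0, -1, 0⟩, ⟨⟨1, -1, 1, -1, 1, -1, 1, -1⟩, ⟨0, -1, 0, 1, 0, 1, 0, 1⟩, ⟨2, 0, 0, 0, 0, 0, 0, 0⟩⟩), ([4, 6, 20, 18], ⟨-1, 0, -1, 0, 1, 0, 1, 0⟩, ⟨⟨-1, 1, 1, -1, -1, 1, 1, -1⟩, ⟨0, 1, 0, -1,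 0, 1, 0, 1⟩, ⟨2, 0, 0, 0, 0, 0, 0, 0⟩⟩), ([8, 6, 20, 18], ⟨-1, 0, 1, 0, -1, 0, 1, 0⟩, ⟨⟨1, -1, 1, -1, 1, -1, 1, -1⟩, ⟨2, 0, 0, 0, 0, 0, 0, 0⟩, ⟨0, -1, 0, 1, 0, 1, 0, 1⟩⟩), ([16, 6, 20, 18], ⟨-1, 0, -1, 0, -1, 0, -1, 0⟩, ⟨⟨-1, 1, -1, 1, 1, -1, 1, -1⟩, ⟨0, 1, 0, 1, 0, 1, 0, -1⟩, ⟨2, 0, 0, 0, 0, 0, 0, 0⟩⟩)]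
def TW3 : List (List ℕ × Z8 × V3) := [([18, 8, 20, 18], ⟨-1, 0, 1, 0, 1, 0, -1, 0⟩, ⟨⟨0, 1, 0, 1, 0, 1, 0, -1⟩, ⟨1, -1, 1, -1, -1, 1, -1, 1⟩, ⟨2, 0, 0, 0, 0, 0, 0, 0⟩⟩), ([2, 18, 20, 18], ⟨1, 0, -1, 0, -1, 0, 1, 0⟩, ⟨⟨0, -1, 0, -1, 0, -1, 0, 1⟩, ⟨2, 0, 0, 0, 0, 0, 0, 0⟩, ⟨-1, 1, -1, 1, 1, -1, 1, -1⟩⟩), ([4, 18, 20, 18], ⟨1, 0, 1, 0, 1, 0, 1, 0⟩, ⟨⟨0, -1, 0, 1, 0, 1, 0, 1⟩, ⟨2, 0, 0, 0, 0, 0, 0, 0⟩, ⟨1, -1, 1, -1, 1, -1, 1, -1⟩⟩), ([6, 18, 20, 18], ⟨-1, 0, 1, 0, -1, 0, 1, 0⟩, ⟨⟨0, 1, 0, 1, 0, -1, 0, 1⟩, ⟨2, 0, 0, 0, 0, 0, 0, 0⟩, ⟨1, -1, -1, 1, -1, 1,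 1, -1⟩⟩), ([12, 2, 0, 20], ⟨0, 0, -1, 0, 1, -1, 0, -1⟩, ⟨⟨2, 0, 0, 0, 0, 0, 0, 0⟩, ⟨0, 0, -2, 0, 0, 0, 0, 0⟩, ⟨-1, 0, 1, 0, 1, -2, 1, 0⟩⟩), ([18, 2, 0, 20], ⟨0, 0, 0, 0, 0, 0, -2, 0⟩, ⟨⟨0, 1, 0, -1, 0, -1, 0, -1⟩, ⟨2, 0, 0, 0, 0, 0, 0, 0⟩, ⟨-1, 1, -1, 1, -1, 1, -1, 1⟩⟩), ([20, 2, 0, 20], ⟨-1, 0, -1, 0, 1, 0, 1, 0⟩, ⟨⟨0, 0, 0, 0, 2, 0, 0, 0⟩, ⟨1, -2, 1, 0, -1, 0, 1, 0⟩, ⟨2, 0, 0, 0, 0, 0, 0, 0⟩⟩), ([12, 4, 0, 20], ⟨0, 0, -1, 0, 1, -1, 0, -1⟩, ⟨⟨2, 0, 0, 0, 0, 0, 0, 0⟩, ⟨-2, 0, 0, 0, 0, 0, 0, 0⟩, ⟨-1, 0, -1, 0, 1, 0, -1, 2⟩⟩), ([18, 4, 0, 20], ⟨0, 0, 0,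 0, 0, 0, -2, 0⟩, ⟨⟨0, -1, 0, -1, 0, 1, 0, -1⟩, ⟨2, 0, 0, 0, 0, 0, 0, 0⟩, ⟨-1, 1, 1, -1, 1, -1, -1, 1⟩⟩), ([20, 4, 0, 20], ⟨-1, 0, 1, 0, -1, 0, 1, 0⟩, ⟨⟨0, 0, 2, 0, 0, 0, 0, 0⟩, ⟨1, 0, 1, -2, -1, 0, 1, 0⟩, ⟨2, 0, 0, 0, 0, 0, 0, 0⟩⟩), ([12, 6, 0, 20], ⟨0, 0, -1, 0, 1, -1, 0, -1⟩, ⟨⟨2, 0, 0, 0, 0, 0, 0, 0⟩, ⟨0, 0, 0, 0, 2, 0, 0, 0⟩, ⟨-1, 0, 1, -2, -1, 0, -1, 0⟩⟩), ([18, 6, 0, 20], ⟨0, 0, 0, 0, 0, 0, -2, 0⟩, ⟨⟨0, 1, 0, 1, 0, 1, 0, -1⟩, ⟨2, 0, 0, 0, 0, 0, 0, 0⟩, ⟨1, -1, 1, -1, -1, 1, -1, 1⟩⟩), ([20, 6, 0, 20], ⟨-1, 0, -1, 0, -1, 0, -1, 0⟩, ⟨⟨0, 0, 0, 0, 0,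 0, -2, 0⟩, ⟨1, 0, 1, 0, -1, 2, 1, 0⟩, ⟨2, 0, 0, 0, 0, 0, 0, 0⟩⟩), ([12, 8, 0, 20], ⟨0, 0, -1, 0, 1, -1, 0, -1⟩, ⟨⟨-2, 0, 0, 0, 0, 0, 0, 0⟩, ⟨1, 0, 1, 0, -1, 0, 1, -2⟩, ⟨2, 0, 0, 0, 0, 0, 0, 0⟩⟩), ([0, 12, 0, 20], ⟨0, 0, -1, 0, 1, -1, 0, -1⟩, ⟨⟨2, 0, 0, 0, 0, 0, 0, 0⟩, ⟨-1, 0, -1, 0, 1, 0, -1, 2⟩, ⟨2, 0, 0, 0, 0, 0, 0, 0⟩⟩), ([10, 12, 0, 20], ⟨-1, 1, 0, 1, 0, 0, -1, 0⟩, ⟨⟨0, 0, 0, 0, 0, 0, 2, 0⟩, ⟨1, 0, 1, 0, -1, 2, 1, 0⟩, ⟨2, 0, 0, 0, 0, 0, 0, 0⟩⟩), ([20, 18, 0, 20], ⟨-1, 0, -1, 0, 1, 0, -1, 0⟩, ⟨⟨1, 0, -1, 0, 1, 0, 1, -2⟩, ⟨2, 0, 0, 0, 0, 0, 0, 0⟩,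 ⟨0, 0, 0, 0, 0, 0, 2, 0⟩⟩), ([2, 20, 0, 20], ⟨1, 0, 1, 0, -1, 0, -1, 0⟩, ⟨⟨0, -1, 0, 1, 0, -1, 0, -1⟩, ⟨-1, 1, 1, -1, -1, 1, 1, -1⟩, ⟨2, 0, 0, 0, 0, 0, 0, 0⟩⟩), ([4, 20, 0, 20], ⟨1, 0, -1, 0, 1, 0, -1, 0⟩, ⟨⟨0, -1, 0, -1, 0, 1, 0, -1⟩, ⟨1, -1, -1, 1, -1, 1, 1, -1⟩, ⟨2, 0, 0, 0, 0, 0, 0, 0⟩⟩), ([6, 20, 0, 20], ⟨1, 0, 1, 0, 1, 0, 1, 0⟩, ⟨⟨0, -1, 0, 1, 0, 1, 0, 1⟩, ⟨1, -1, 1, -1, 1, -1, 1, -1⟩, ⟨2, 0, 0, 0, 0, 0, 0, 0⟩⟩), ([12, 0, 2, 20], ⟨0, 0, -1, 0, 1, -1, 0, -1⟩, ⟨⟨2, 0, 0, 0, 0, 0, 0, 0⟩, ⟨0, 0, 2, 0, 0, 0, 0, 0⟩, ⟨1, 0, -1, 0, -1, 2, -1, 0⟩⟩), ([20,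 0, 2, 20], ⟨-1, 0, 1, 0, 1, 0, 1, 0⟩, ⟨⟨2, 0, 0, 0, 0, 0, 0, 0⟩, ⟨0, 0, 0, 0, 2, 0, 0, 0⟩, ⟨-1, 0, -1, 0, -1, 2, 1, 0⟩⟩), ([12, 4, 2, 20], ⟨0, 0, -1, 0, 1, -1, 0, -1⟩, ⟨⟨2, 0, 0, 0, 0, 0, 0, 0⟩, ⟨0, 0, 0, 0, 2, 0, 0, 0⟩, ⟨1, 0, -1, 2, 1, 0, 1, 0⟩⟩), ([20, 4, 2, 20], ⟨-1, 0, 0, 0, 0, -1, 1, -1⟩, ⟨⟨1, 0, 1, -2, -1, 0, 1, 0⟩, ⟨2, 0, 0, 0, 0, 0, 0, 0⟩, ⟨0, 0, 2, 0, 0, 0, 0, 0⟩⟩), ([12, 6, 2, 20], ⟨0, 0, -1, 0, 1, -1, 0, -1⟩, ⟨⟨2, 0, 0, 0, 0, 0, 0, 0⟩, ⟨2, 0, 0, 0, 0, 0, 0, 0⟩, ⟨-1, 0, -1, 0, 1, 0, -1, 2⟩⟩), ([20, 6, 2, 20], ⟨-1, 1, -1, 0, 0, -1, 0, 0⟩, ⟨⟨1,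 0, -1, 0, -1, 0, -1, 2⟩, ⟨2, 0, 0, 0, 0, 0, 0, 0⟩, ⟨0, 0, 0, 0, -2, 0, 0, 0⟩⟩), ([12, 8, 2, 20], ⟨1, -1, 0, -1, 0, 0, 1, 0⟩, ⟨⟨0, 0, 0, 0, -2, 0, 0, 0⟩, ⟨1, 0, -1, 0, -1, 0, -1, 2⟩, ⟨2, 0, 0, 0, 0, 0, 0, 0⟩⟩), ([18, 8, 2, 20], ⟨0, 0, 0, 0, 0, 0, 2, 0⟩, ⟨⟨0, -1, 0, 1, 0, 1, 0, 1⟩, ⟨2, 0, 0, 0, 0, 0, 0, 0⟩, ⟨-1, 1, -1, 1, -1, 1, -1, 1⟩⟩), ([0, 12, 2, 20], ⟨1, -1, 0, -1, 0, 0, 1, 0⟩, ⟨⟨0, 0, 0, 0, 2, 0, 0, 0⟩, ⟨-1, 0, 1, 0, 1, 0, 1, -2⟩, ⟨2, 0, 0, 0, 0, 0, 0, 0⟩⟩), ([10, 12, 2, 20], ⟨0, 0, -1, 0, 1, -1, 0, -1⟩, ⟨⟨0, 0, 2, 0, 0, 0, 0, 0⟩, ⟨-1, 0, 1, 0, 1,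 -2, 1, 0⟩, ⟨2, 0, 0, 0, 0, 0, 0, 0⟩⟩), ([18, 12, 2, 20], ⟨0, 1, 1, -1, 1, 0, 0, 0⟩, ⟨⟨1, 0, 1, -2, -1, 0, 1, 0⟩, ⟨2, 0, 0, 0, 0, 0, 0, 0⟩, ⟨0, 0, -2, 0, 0, 0, 0, 0⟩⟩), ([20, 16, 2, 20], ⟨0, 0, -1, 1, 0, -1, 1, 0⟩, ⟨⟨-1, 2, -1, 0, -1, 0, 1, 0⟩, ⟨2, 0, 0, 0, 0, 0, 0, 0⟩, ⟨0, 0, 0, 0, 0, 0, 2, 0⟩⟩), ([6, 18, 2, 20], ⟨0, 0, -2, 0, 0, 0, 0, 0⟩, ⟨⟨0, 1, 0, -1, 0, 1, 0, 1⟩, ⟨-1, 1, 1, -1, -1, 1, 1, -1⟩, ⟨2, 0, 0, 0, 0, 0, 0, 0⟩⟩), ([20, 18, 2, 20], ⟨0, -1, 1, -1, 1, 0, 0, 0⟩, ⟨⟨2, 0, 0, 0, 0, 0, 0, 0⟩, ⟨0, 0, 0, 0, 0, 0, 2, 0⟩, ⟨1, 0, 1, 0, -1, 2, 1, 0⟩⟩),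 ([12, 0, 4, 20], ⟨0, 0, -1, 0, 1, -1, 0, -1⟩, ⟨⟨2, 0, 0, 0, 0, 0, 0, 0⟩, ⟨2, 0, 0, 0, 0, 0, 0, 0⟩, ⟨1, 0, 1, 0, -1, 0, 1, -2⟩⟩)]
def TW4 : List (List ℕ × Z8 × V3) := [([20, 0, 4, 20], ⟨-1, 0, 1, 0, -1, 0, -1, 0⟩, ⟨⟨2, 0, 0, 0, 0, 0, 0, 0⟩, ⟨-2, 0, 0, 0, 0, 0, 0, 0⟩, ⟨-1, 0, -1, 2, -1, 0, 1, 0⟩⟩), ([12, 2, 4, 20], ⟨0, 0, -1, 0, 1, -1, 0, -1⟩, ⟨⟨2, 0, 0, 0, 0, 0, 0, 0⟩, ⟨0, 0, 0, 0, -2, 0, 0, 0⟩, ⟨-1, 0, 1, -2, -1, 0, -1, 0⟩⟩), ([20, 2, 4, 20], ⟨0, 1, -1, 1, 1, 0, 0, 0⟩, ⟨⟨-1, 0, -1, 0, 1, 0, -1, 2⟩, ⟨2, 0, 0, 0, 0, 0, 0, 0⟩, ⟨-2, 0, 0, 0, 0, 0, 0, 0⟩⟩),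 ([12, 6, 4, 20], ⟨0, 0, -1, 0, 1, -1, 0, -1⟩, ⟨⟨2, 0, 0, 0, 0, 0, 0, 0⟩, ⟨0, 0, -2, 0, 0, 0, 0, 0⟩, ⟨1, 0, -1, 0, -1, 2, -1, 0⟩⟩), ([20, 6, 4, 20], ⟨0, 1, -1, 0, 0, 0, 1, -1⟩, ⟨⟨-1, 0, -1, 0, -1, 2, 1, 0⟩, ⟨2, 0, 0, 0, 0, 0, 0, 0⟩, ⟨0, 0, 0, 0, -2, 0, 0, 0⟩⟩), ([12, 8, 4, 20], ⟨0, 1, 1, -1, 1, 0, 0, 0⟩, ⟨⟨0, 0, 0, 0, 0, 0, 2, 0⟩, ⟨-1, 0, 1, 0, -1, 0, -1, 2⟩, ⟨2, 0, 0, 0, 0, 0, 0, 0⟩⟩), ([18, 8, 4, 20], ⟨0, 0, 0, 0, 0, 0, 2, 0⟩, ⟨⟨0, 1, 0, 1, 0, -1, 0, 1⟩, ⟨2, 0, 0, 0, 0, 0, 0, 0⟩, ⟨-1, 1, 1, -1, 1, -1, -1, 1⟩⟩), ([0, 12, 4, 20], ⟨0, 1, 1, -1, 1, 0, 0,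 0⟩, ⟨⟨0, 0, 0, 0, 0, 0, -2, 0⟩, ⟨1, 0, -1, 0, 1, 0, 1, -2⟩, ⟨2, 0, 0, 0, 0, 0, 0, 0⟩⟩), ([10, 12, 4, 20], ⟨-1, 0, 0, 0, 0, 1, 1, -1⟩, ⟨⟨-2, 0, 0, 0, 0, 0, 0, 0⟩, ⟨1, 0, -1, 0, 1, -2, 1, 0⟩, ⟨2, 0, 0, 0, 0, 0, 0, 0⟩⟩), ([18, 12, 4, 20], ⟨0, 1, 1, -1, 1, 0, 0, 0⟩, ⟨⟨-1, 2, 1, 0, 1, 0, 1, 0⟩, ⟨2, 0, 0, 0, 0, 0, 0, 0⟩, ⟨2, 0, 0, 0, 0, 0, 0, 0⟩⟩), ([20, 16, 4, 20], ⟨0, 1, 0, 0, 1, -1, 1, 0⟩, ⟨⟨-1, 0, 1, -2, 1, 0, 1, 0⟩, ⟨2, 0, 0, 0, 0, 0, 0, 0⟩, ⟨0, 0, 0, 0, 0, 0, 2, 0⟩⟩), ([2, 18, 4, 20], ⟨0, 0, 0, 0, 0, 0, 2, 0⟩, ⟨⟨0, 1, 0, 1, 0, -1, 0, 1⟩, ⟨1, -1, -1,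 1, -1, 1, 1, -1⟩, ⟨2, 0, 0, 0, 0, 0, 0, 0⟩⟩), ([20, 18, 4, 20], ⟨0, -1, 1, 0, 0, 0, -1, 1⟩, ⟨⟨2, 0, 0, 0, 0, 0, 0, 0⟩, ⟨0, 0, 0, 0, 0, 0, 2, 0⟩, ⟨1, 0, -1, 2, -1, 0, -1, 0⟩⟩), ([12, 0, 6, 20], ⟨0, 0, -1, 0, 1, -1, 0, -1⟩, ⟨⟨2, 0, 0, 0, 0, 0, 0, 0⟩, ⟨0, 0, 0, 0, -2, 0, 0, 0⟩, ⟨1, 0, -1, 2, 1, 0, 1, 0⟩⟩), ([20, 0, 6, 20], ⟨-1, 0, -1, 0, 1, 0, -1, 0⟩, ⟨⟨2, 0, 0, 0, 0, 0, 0, 0⟩, ⟨0, 0, -2, 0, 0, 0, 0, 0⟩, ⟨-1, 0, -1, 0, -1, 0, 1, -2⟩⟩), ([12, 2, 6, 20], ⟨0, 0, -1, 0, 1, -1, 0, -1⟩, ⟨⟨2, 0, 0, 0, 0, 0, 0, 0⟩, ⟨-2, 0, 0, 0, 0, 0, 0, 0⟩, ⟨1, 0, 1, 0, -1, 0,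 1, -2⟩⟩), ([20, 2, 6, 20], ⟨0, 0, 0, 1, 1, 0, 1, -1⟩, ⟨⟨-1, 2, 1, 0, 1, 0, 1, 0⟩, ⟨2, 0, 0, 0, 0, 0, 0, 0⟩, ⟨-2, 0, 0, 0, 0, 0, 0, 0⟩⟩), ([12, 4, 6, 20], ⟨0, 0, -1, 0, 1, -1, 0, -1⟩, ⟨⟨2, 0, 0, 0, 0, 0, 0, 0⟩, ⟨0, 0, 2, 0, 0, 0, 0, 0⟩, ⟨-1, 0, 1, 0, 1, -2, 1, 0⟩⟩), ([20, 4, 6, 20], ⟨-1, 0, 0, 1, 1, -1, 0, 0⟩, ⟨⟨1, 0, 1, 0, 1, 0, -1, 2⟩, ⟨2, 0, 0, 0, 0, 0, 0, 0⟩, ⟨0, 0, 2, 0, 0, 0, 0, 0⟩⟩), ([12, 8, 6, 20], ⟨-1, 0, 0, 0, 0, 1, 1, -1⟩, ⟨⟨0, 0, -2, 0, 0, 0, 0, 0⟩, ⟨1, 0, 1, 0, 1, 0, -1, 2⟩, ⟨2, 0, 0, 0, 0, 0, 0, 0⟩⟩), ([18, 8, 6, 20], ⟨0, 0, 0, 0, 0, 0,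 2, 0⟩, ⟨⟨0, -1, 0, -1, 0, -1, 0, 1⟩, ⟨2, 0, 0, 0, 0, 0, 0, 0⟩, ⟨1, -1, 1, -1, -1, 1, -1, 1⟩⟩), ([0, 12, 6, 20], ⟨-1, 0, 0, 0, 0, 1, 1, -1⟩, ⟨⟨0, 0, 2, 0, 0, 0, 0, 0⟩, ⟨-1, 0, -1, 0, -1, 0, 1, -2⟩, ⟨2, 0, 0, 0, 0, 0, 0, 0⟩⟩), ([10, 12, 6, 20], ⟨0, -1, -1, 1, -1, 0, 0, 0⟩, ⟨⟨0, 0, 0, 0, 2, 0, 0, 0⟩, ⟨1, 0, 1, 0, 1, -2, -1, 0⟩, ⟨2, 0, 0, 0, 0, 0, 0, 0⟩⟩), ([18, 12, 6, 20], ⟨0, 1, 1, -1, 1, 0, 0, 0⟩, ⟨⟨-1, 0, -1, 0, -1, 2, 1, 0⟩, ⟨2, 0, 0, 0, 0, 0, 0, 0⟩, ⟨0, 0, 0, 0, 2, 0, 0, 0⟩⟩), ([20, 16, 6, 20], ⟨-1, 1, 0, 1, 0, 0, 1, 0⟩, ⟨⟨1, 0, 1, 0, -1, 2, 1, 0⟩,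 ⟨2, 0, 0, 0, 0, 0, 0, 0⟩, ⟨0, 0, 0, 0, 0, 0, 2, 0⟩⟩), ([4, 18, 6, 20], ⟨0, 0, 0, 0, -2, 0, 0, 0⟩, ⟨⟨0, 1, 0, -1, 0, -1, 0, -1⟩, ⟨1, -1, 1, -1, 1, -1, 1, -1⟩, ⟨2, 0, 0, 0, 0, 0, 0, 0⟩⟩), ([20, 18, 6, 20], ⟨0, -1, 0, 0, 1, -1, -1, 0⟩, ⟨⟨2, 0, 0, 0, 0, 0, 0, 0⟩, ⟨0, 0, 0, 0, 0, 0, 2, 0⟩, ⟨1, 0, -1, 0, 1, 0, 1, -2⟩⟩), ([10, 12, 8, 20], ⟨-1, 0, 0, 0, 0, 1, 1, -1⟩, ⟨⟨2, 0, 0, 0, 0, 0, 0, 0⟩, ⟨0, 0, -2, 0, 0, 0, 0, 0⟩, ⟨1, 0, 1, 0, 1, 0, -1, 2⟩⟩), ([2, 0, 12, 20], ⟨0, -1, -1, 1, -1, 0, 0, 0⟩, ⟨⟨0, 0, 0, 0, 0, 0, 2, 0⟩, ⟨1, 0, -1, 0, 1, 0, 1, -2⟩, ⟨2, 0, 0,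 0, 0, 0, 0, 0⟩⟩), ([4, 0, 12, 20], ⟨-1, 1, 0, 1, 0, 0, -1, 0⟩, ⟨⟨0, 0, 0, 0, -2, 0, 0, 0⟩, ⟨-1, 0, 1, 0, 1, 0, 1, -2⟩, ⟨2, 0, 0, 0, 0, 0, 0, 0⟩⟩), ([6, 0, 12, 20], ⟨1, 0, 0, 0, 0, -1, -1, 1⟩, ⟨⟨0, 0, -2, 0, 0, 0, 0, 0⟩, ⟨-1, 0, -1, 0, -1, 0, 1, -2⟩, ⟨2, 0, 0, 0, 0, 0, 0, 0⟩⟩), ([16, 0, 12, 20], ⟨0, 0, 1, 0, -1, 1, 0, 1⟩, ⟨⟨-2, 0, 0, 0, 0, 0, 0, 0⟩, ⟨-1, 0, -1, 0, 1, 0, -1, 2⟩, ⟨2, 0, 0, 0, 0, 0, 0, 0⟩⟩), ([14, 10, 12, 20], ⟨-1, 1, 1, 0, 0, 1, 0, 0⟩, ⟨⟨2, 0, 0, 0, 0, 0, 0, 0⟩, ⟨0, 0, 0, 0, -2, 0, 0, 0⟩, ⟨-1, 0, -1, 0, -1, 2, 1, 0⟩⟩), ([15, 10, 12, 20],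 ⟨0, -1, -1, 0, 0, 0, 1, -1⟩, ⟨⟨2, 0, 0, 0, 0, 0, 0, 0⟩, ⟨2, 0, 0, 0, 0, 0, 0, 0⟩, ⟨-1, 0, -1, 2, -1, 0, 1, 0⟩⟩), ([18, 10, 12, 20], ⟨0, 1, 1, -1, 1, 0, 0, 0⟩, ⟨⟨2, 0, 0, 0, 0, 0, 0, 0⟩, ⟨0, 0, -2, 0, 0, 0, 0, 0⟩, ⟨-1, 0, -1, 2, 1, 0, -1, 0⟩⟩)]
def TW5 : List (List ℕ × Z8 × V3) := [([20, 10, 12, 20], ⟨1, -1, 0, 0, -1, 0, 0, -1⟩, ⟨⟨1, 0, -1, 0, 1, 0, -1, 2⟩, ⟨0, 0, 0, 0, 0, 0, 0, 0⟩, ⟨1, -2, 1, 0, 1, 0, 1, 0⟩⟩), ([10, 18, 12, 20], ⟨-1, 0, 0, 0, 0, 1, 1, -1⟩, ⟨⟨2, 0, 0, 0, 0, 0, 0, 0⟩, ⟨0, 0, 2, 0, 0, 0, 0, 0⟩, ⟨1, 0, 1, 0, 1, 0, -1, 2⟩⟩), ([2, 20, 12,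 20], ⟨0, 0, -1, 1, 0, -1, 1, 0⟩, ⟨⟨1, -2, 1, 0, 1, 0, 1, 0⟩, ⟨1, -2, 1, 0, 1, 0, 1, 0⟩, ⟨0, 0, 0, 0, 0, 0, 0, 0⟩⟩), ([4, 20, 12, 20], ⟨0, 0, -1, 1, 0, -1, 1, 0⟩, ⟨⟨1, -2, 1, 0, 1, 0, 1, 0⟩, ⟨-1, 0, 1, -2, 1, 0, -1, 0⟩, ⟨0, 0, 0, 0, 0, 0, 0, 0⟩⟩), ([6, 20, 12, 20], ⟨0, 0, -1, 1, 0, -1, 1, 0⟩, ⟨⟨1, -2, 1, 0, 1, 0, 1, 0⟩, ⟨1, 0, 1, 0, -1, 2, -1, 0⟩, ⟨0, 0, 0, 0, 0, 0, 0, 0⟩⟩), ([16, 20, 12, 20], ⟨0, 0, -1, 1, 0, -1, 1, 0⟩, ⟨⟨1, -2, 1, 0, 1, 0, 1, 0⟩, ⟨-1, 0, 1, 0, -1, 0, 1, -2⟩, ⟨0, 0, 0, 0, 0, 0, 0, 0⟩⟩), ([20, 2, 16, 20], ⟨-1, 1, 0, 0, 1, 0, 0, -1⟩, ⟨⟨1,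 0, 1, -2, 1, 0, -1, 0⟩, ⟨2, 0, 0, 0, 0, 0, 0, 0⟩, ⟨-2, 0, 0, 0, 0, 0, 0, 0⟩⟩), ([20, 4, 16, 20], ⟨-1, 0, -1, 1, 0, 0, 0, -1⟩, ⟨⟨1, 0, -1, 0, -1, 2, -1, 0⟩, ⟨2, 0, 0, 0, 0, 0, 0, 0⟩, ⟨0, 0, 2, 0, 0, 0, 0, 0⟩⟩), ([20, 6, 16, 20], ⟨0, 0, -1, 0, 1, -1, 0, -1⟩, ⟨⟨-1, 2, -1, 0, 1, 0, -1, 0⟩, ⟨2, 0, 0, 0, 0, 0, 0, 0⟩, ⟨0, 0, 0, 0, -2, 0, 0, 0⟩⟩), ([14, 10, 12, 2, 18], ⟨-1, 0, -1, 1, 0, 0, 0, 1⟩, ⟨⟨0, 0, 0, 0, 0, 0, 0, 0⟩, ⟨1, -2, 1, 0, 1, 0, 1, 0⟩, ⟨-1, 2, -1, 0, -1, 0, -1, 0⟩⟩), ([15, 10, 12, 2, 18], ⟨0, 1, 1, 0, 0, 0, 1, -1⟩, ⟨⟨0, 0, 0, 0, 0, 0, 0, 0⟩, ⟨1,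 -2, 1, 0, 1, 0, 1, 0⟩, ⟨-1, 0, 1, -2, 1, 0, -1, 0⟩⟩), ([18, 10, 12, 2, 18], ⟨-1, 0, 0, 0, 0, 1, -1, 1⟩, ⟨⟨1, 0, -1, 2, -1, 0, 1, 0⟩, ⟨0, 0, 0, 0, 0, 0, 0, 0⟩, ⟨1, -2, 1, 0, 1, 0, 1, 0⟩⟩), ([20, 10, 12, 2, 18], ⟨0, 1, -1, 1, -1, 0, 0, 0⟩, ⟨⟨-1, 0, 1, -2, -1, 0, -1, 0⟩, ⟨2, 0, 0, 0, 0, 0, 0, 0⟩, ⟨0, 0, 0, 0, 2, 0, 0, 0⟩⟩), ([8, 20, 12, 2, 18], ⟨0, 0, -1, 0, 1, -1, 0, 1⟩, ⟨⟨1, 0, -1, 0, 1, 0, 1, -2⟩, ⟨2, 0, 0, 0, 0, 0, 0, 0⟩, ⟨0, 0, 0, 0, 0, 0, -2, 0⟩⟩), ([8, 2, 20, 2, 18], ⟨1, 0, -1, 0, -1, 0, -1, 0⟩, ⟨⟨0, 1, 0, -1, 0, 1, 0, 1⟩, ⟨1, -1, -1, 1, 1, -1, -1,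 1⟩, ⟨2, 0, 0, 0, 0, 0, 0, 0⟩⟩), ([8, 4, 20, 2, 18], ⟨-1, 0, -1, 0, 1, 0, -1, 0⟩, ⟨⟨0, 1, 0, 1, 0, -1, 0, 1⟩, ⟨-1, 1, 1, -1, 1, -1, -1, 1⟩, ⟨2, 0, 0, 0, 0, 0, 0, 0⟩⟩), ([8, 6, 20, 2, 18], ⟨1, 0, 1, 0, 1, 0, -1, 0⟩, ⟨⟨0, 1, 0, -1, 0, -1, 0, -1⟩, ⟨-1, 1, -1, 1, -1, 1, -1, 1⟩, ⟨2, 0, 0, 0, 0, 0, 0, 0⟩⟩), ([18, 15, 10, 12, 18], ⟨1, 0, 0, -1, 1, -1, 0, 0⟩, ⟨⟨-1, 0, -1, 0, 1, -2, 1, 0⟩, ⟨0, 0, 0, 0, 0, 0, 0, 0⟩, ⟨1, -2, 1, 0, 1, 0, 1, 0⟩⟩), ([12, 18, 10, 12, 18], ⟨-2, 0, 0, 0, 0, 0, 0, 0⟩, ⟨⟨-1, 0, -1, 0, 1, -2, -1, 0⟩, ⟨2, 0, 0, 0, 0, 0, 0, 0⟩, ⟨0, 0, 0, 0,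 0, 0, 2, 0⟩⟩), ([6, 2, 18, 12, 18], ⟨-1, 1, 0, 1, 0, 0, 1, 0⟩, ⟨⟨1, 0, 1, 0, -1, 2, -1, 0⟩, ⟨0, 0, 0, 0, 0, 0, 0, 0⟩, ⟨1, -2, 1, 0, 1, 0, 1, 0⟩⟩), ([12, 2, 18, 12, 18], ⟨0, 0, 2, 0, 0, 0, 0, 0⟩, ⟨⟨1, 0, -1, 2, -1, 0, -1, 0⟩, ⟨2, 0, 0, 0, 0, 0, 0, 0⟩, ⟨0, 0, 0, 0, 0, 0, -2, 0⟩⟩), ([20, 2, 18, 12, 18], ⟨0, 0, 1, -1, 0, 1, -1, 0⟩, ⟨⟨0, 0, -2, 0, 0, 0, 0, 0⟩, ⟨-1, 0, -1, 2, 1, 0, -1, 0⟩, ⟨2, 0, 0, 0, 0, 0, 0, 0⟩⟩), ([12, 4, 18, 12, 18], ⟨2, 0, 0, 0, 0, 0, 0, 0⟩, ⟨⟨1, -2, 1, 0, 1, 0, -1, 0⟩, ⟨2, 0, 0, 0, 0, 0, 0, 0⟩, ⟨0, 0, 0, 0, 0, 0, -2, 0⟩⟩), ([20, 4,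 18, 12, 18], ⟨1, 0, 0, -1, -1, 1, 0, 0⟩, ⟨⟨0, 0, 0, 0, 0, 0, 2, 0⟩, ⟨-1, 0, -1, 0, 1, -2, -1, 0⟩, ⟨2, 0, 0, 0, 0, 0, 0, 0⟩⟩), ([12, 6, 18, 12, 18], ⟨0, 0, 0, 0, -2, 0, 0, 0⟩, ⟨⟨-1, 0, -1, 0, 1, -2, -1, 0⟩, ⟨2, 0, 0, 0, 0, 0, 0, 0⟩, ⟨0, 0, 0, 0, 0, 0, -2, 0⟩⟩), ([20, 6, 18, 12, 18], ⟨-1, 0, 0, -1, -1, 1, 0, 0⟩, ⟨⟨0, 0, 0, 0, -2, 0, 0, 0⟩, ⟨-1, 2, -1, 0, 1, 0, -1, 0⟩, ⟨2, 0, 0, 0, 0, 0, 0, 0⟩⟩), ([10, 12, 18, 12, 18], ⟨2, 0, 0, 0, 0, 0, 0, 0⟩, ⟨⟨-1, 0, 1, -2, -1, 0, -1, 0⟩, ⟨2, 0, 0, 0, 0, 0, 0, 0⟩, ⟨0, 0, 0, 0, -2, 0, 0, 0⟩⟩), ([20, 2, 0, 20, 18], ⟨1,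 0, -1, 0, -1, 0, 1, 0⟩, ⟨⟨0, 0, 0, 0, 2, 0, 0, 0⟩, ⟨-1, 2, -1, 0, 1, 0, -1, 0⟩, ⟨2, 0, 0, 0, 0, 0, 0, 0⟩⟩), ([20, 4, 0, 20, 18], ⟨1, 0, -1, 0, -1, 0, 1, 0⟩, ⟨⟨0, 0, 2, 0, 0, 0, 0, 0⟩, ⟨-1, 0, -1, 2, 1, 0, -1, 0⟩, ⟨2, 0, 0, 0, 0, 0, 0, 0⟩⟩), ([20, 6, 0, 20, 18], ⟨1, 0, -1, 0, -1, 0, 1, 0⟩, ⟨⟨0, 0, 0, 0, 0, 0, -2, 0⟩, ⟨-1, 0, -1, 0, 1, -2, -1, 0⟩, ⟨2, 0, 0, 0, 0, 0, 0, 0⟩⟩), ([20, 4, 2, 20, 18], ⟨1, 0, 0, 0, 0, -1, 1, -1⟩, ⟨⟨0, 0, 2, 0, 0, 0, 0, 0⟩, ⟨-1, 2, 1, 0, -1, 0, -1, 0⟩, ⟨2, 0, 0, 0, 0, 0, 0, 0⟩⟩), ([20, 6, 2, 20, 18], ⟨0, 0, 0, -1, -1, 0, 1, -1⟩,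 ⟨⟨0, 0, 0, 0, 0, 0, -2, 0⟩, ⟨-1, 2, -1, 0, -1, 0, 1, 0⟩, ⟨2, 0, 0, 0, 0, 0, 0, 0⟩⟩), ([20, 8, 2, 20, 18], ⟨0, 0, 0, 0, 0, 0, 2, 0⟩, ⟨⟨1, 0, -1, 0, 1, -2, 1, 0⟩, ⟨2, 0, 0, 0, 0, 0, 0, 0⟩, ⟨-2, 0, 0, 0, 0, 0, 0, 0⟩⟩), ([20, 16, 2, 20, 18], ⟨0, 1, -1, 0, 0, 0, 1, -1⟩, ⟨⟨-2, 0, 0, 0, 0, 0, 0, 0⟩, ⟨-1, 2, 1, 0, 1, 0, 1, 0⟩, ⟨2, 0, 0, 0, 0, 0, 0, 0⟩⟩), ([20, 2, 4, 20, 18], ⟨0, 0, -1, 0, -1, 1, 0, 1⟩, ⟨⟨0, 0, 0, 0, 2, 0, 0, 0⟩, ⟨1, 0, -1, 2, 1, 0, 1, 0⟩, ⟨2, 0, 0, 0, 0, 0, 0, 0⟩⟩)]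
def TW6 : List (List ℕ × Z8 × V3) := [([20, 6, 4, 20, 18], ⟨1, 0, 0, -1, -1, 1, 0, 0⟩, ⟨⟨0, 0, 0, 0, 0, 0, -2, 0⟩, ⟨1, 0, -1, 2, -1, 0, -1, 0⟩, ⟨2, 0, 0, 0, 0, 0, 0, 0⟩⟩), ([20, 8, 4, 20, 18], ⟨0, 0, 0, 0, 0, 0, 2, 0⟩, ⟨⟨1, -2, -1, 0, 1, 0, 1, 0⟩, ⟨2, 0, 0, 0, 0, 0, 0, 0⟩, ⟨0, 0, 2, 0, 0, 0, 0, 0⟩⟩), ([20, 16, 4, 20, 18], ⟨0, 1, 0, 0, -1, 1, 1, 0⟩, ⟨⟨-2, 0, 0, 0, 0, 0, 0, 0⟩, ⟨-1, 0, -1, 2, -1, 0, 1, 0⟩, ⟨2, 0, 0, 0, 0, 0, 0, 0⟩⟩), ([20, 8, 6, 20, 18], ⟨0, 0, 0, 0, 0, 0, 2, 0⟩, ⟨⟨1, 0, -1, 2, 1, 0, 1, 0⟩, ⟨2, 0, 0, 0, 0, 0, 0, 0⟩, ⟨0, 0, 0, 0, -2, 0,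 0, 0⟩⟩), ([10, 12, 2, 0, 20], ⟨1, 0, 0, 0, 0, -1, -1, 1⟩, ⟨⟨2, 0, 0, 0, 0, 0, 0, 0⟩, ⟨0, 0, 0, 0, 0, 0, 2, 0⟩, ⟨-1, 0, 1, -2, 1, 0, 1, 0⟩⟩), ([18, 12, 2, 0, 20], ⟨1, -1, 0, -1, 0, 0, 1, 0⟩, ⟨⟨2, 0, 0, 0, 0, 0, 0, 0⟩, ⟨0, 0, 2, 0, 0, 0, 0, 0⟩, ⟨-1, 2, 1, 0, -1, 0, -1, 0⟩⟩), ([20, 18, 2, 0, 20], ⟨1, -1, 0, -1, 0, 0, -1, 0⟩, ⟨⟨2, 0, 0, 0, 0, 0, 0, 0⟩, ⟨0, 0, 0, 0, 2, 0, 0, 0⟩, ⟨-1, 2, -1, 0, 1, 0, -1, 0⟩⟩), ([2, 20, 2, 0, 20], ⟨-1, 0, -1, 0, -1, 0, -1, 0⟩, ⟨⟨2, 0, 0, 0, 0, 0, 0, 0⟩, ⟨0, 0, 0, 0, 2, 0, 0, 0⟩, ⟨1, 0, 1, 0, 1, -2, -1, 0⟩⟩), ([4, 20, 2, 0,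 20], ⟨-1, 0, -1, 0, -1, 0, -1, 0⟩, ⟨⟨2, 0, 0, 0, 0, 0, 0, 0⟩, ⟨0, 0, 0, 0, 0, 0, -2, 0⟩, ⟨1, 0, -1, 0, 1, 0, 1, -2⟩⟩), ([6, 20, 2, 0, 20], ⟨-1, 0, -1, 0, -1, 0, -1, 0⟩, ⟨⟨2, 0, 0, 0, 0, 0, 0, 0⟩, ⟨2, 0, 0, 0, 0, 0, 0, 0⟩, ⟨-1, 2, 1, 0, 1, 0, 1, 0⟩⟩), ([8, 20, 2, 0, 20], ⟨-1, 0, -1, 0, 1, 0, 1, 0⟩, ⟨⟨0, 0, 0, 0, -2, 0, 0, 0⟩, ⟨1, -2, 1, 0, -1, 0, 1, 0⟩, ⟨2, 0, 0, 0, 0, 0, 0, 0⟩⟩), ([16, 20, 2, 0, 20], ⟨-1, 0, -1, 0, -1, 0, -1, 0⟩, ⟨⟨2, 0, 0, 0, 0, 0, 0, 0⟩, ⟨0, 0, 2, 0, 0, 0, 0, 0⟩, ⟨-1, 0, -1, 2, 1, 0, -1, 0⟩⟩), ([18, 20, 2, 0, 20], ⟨1, 0, -1, 0, 1,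 0, -1, 0⟩, ⟨⟨1, 0, -1, 0, -1, 2, -1, 0⟩, ⟨2, 0, 0, 0, 0, 0, 0, 0⟩, ⟨0, 0, -2, 0, 0, 0, 0, 0⟩⟩), ([10, 12, 4, 0, 20], ⟨1, 0, 0, 0, 0, -1, -1, 1⟩, ⟨⟨2, 0, 0, 0, 0, 0, 0, 0⟩, ⟨0, 0, 0, 0, 2, 0, 0, 0⟩, ⟨1, -2, 1, 0, -1, 0, 1, 0⟩⟩), ([20, 18, 4, 0, 20], ⟨1, -1, 0, 0, 1, 0, 0, 1⟩, ⟨⟨2, 0, 0, 0, 0, 0, 0, 0⟩, ⟨-2, 0, 0, 0, 0, 0, 0, 0⟩, ⟨-1, 2, 1, 0, 1, 0, 1, 0⟩⟩), ([4, 20, 4, 0, 20], ⟨-1, 0, -1, 0, 1, 0, 1, 0⟩, ⟨⟨2, 0, 0, 0, 0, 0, 0, 0⟩, ⟨-2, 0, 0, 0, 0, 0, 0, 0⟩, ⟨1, 0, 1, -2, 1, 0, -1, 0⟩⟩), ([6, 20, 4, 0, 20], ⟨-1, 0, -1, 0, 1, 0, 1, 0⟩, ⟨⟨2, 0, 0, 0, 0,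 0, 0, 0⟩, ⟨0, 0, 0, 0, 0, 0, -2, 0⟩, ⟨1, 0, 1, 0, -1, 2, 1, 0⟩⟩), ([8, 20, 4, 0, 20], ⟨-1, 0, 1, 0, -1, 0, 1, 0⟩, ⟨⟨0, 0, -2, 0, 0, 0, 0, 0⟩, ⟨1, 0, 1, -2, -1, 0, 1, 0⟩, ⟨2, 0, 0, 0, 0, 0, 0, 0⟩⟩), ([16, 20, 4, 0, 20], ⟨-1, 0, -1, 0, 1, 0, 1, 0⟩, ⟨⟨2, 0, 0, 0, 0, 0, 0, 0⟩, ⟨0, 0, 0, 0, -2, 0, 0, 0⟩, ⟨-1, 0, 1, 0, 1, 0, 1, -2⟩⟩), ([18, 20, 4, 0, 20], ⟨-1, 0, 1, 0, 1, 0, -1, 0⟩, ⟨⟨-1, 2, -1, 0, 1, 0, -1, 0⟩, ⟨2, 0, 0, 0, 0, 0, 0, 0⟩, ⟨0, 0, 0, 0, 2, 0, 0, 0⟩⟩), ([10, 12, 6, 0, 20], ⟨1, 0, 0, 0, 0, -1, -1, 1⟩, ⟨⟨2, 0, 0, 0, 0, 0, 0, 0⟩, ⟨-2, 0, 0, 0, 0,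 0, 0, 0⟩, ⟨1, 0, -1, 0, 1, -2, 1, 0⟩⟩), ([18, 12, 6, 0, 20], ⟨-1, 0, 0, 0, 0, 1, 1, -1⟩, ⟨⟨2, 0, 0, 0, 0, 0, 0, 0⟩, ⟨0, 0, 0, 0, -2, 0, 0, 0⟩, ⟨-1, 2, -1, 0, 1, 0, -1, 0⟩⟩), ([20, 18, 6, 0, 20], ⟨1, -1, 1, 0, 0, -1, 0, 0⟩, ⟨⟨2, 0, 0, 0, 0, 0, 0, 0⟩, ⟨0, 0, -2, 0, 0, 0, 0, 0⟩, ⟨-1, 2, 1, 0, -1, 0, -1, 0⟩⟩), ([2, 20, 6, 0, 20], ⟨-1, 0, 1, 0, -1, 0, 1, 0⟩, ⟨⟨2, 0, 0, 0, 0, 0, 0, 0⟩, ⟨0, 0, 0, 0, 0, 0, -2, 0⟩, ⟨1, 0, -1, 2, -1, 0, -1, 0⟩⟩), ([16, 20, 6, 0, 20], ⟨-1, 0, 1, 0, -1, 0, 1, 0⟩, ⟨⟨2, 0, 0, 0, 0, 0, 0, 0⟩, ⟨2, 0, 0, 0, 0, 0, 0, 0⟩, ⟨-1, 0, 1, 0,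 -1, 2, -1, 0⟩⟩), ([18, 20, 6, 0, 20], ⟨-1, 0, -1, 0, -1, 0, -1, 0⟩, ⟨⟨1, 0, 1, -2, 1, 0, -1, 0⟩, ⟨2, 0, 0, 0, 0, 0, 0, 0⟩, ⟨2, 0, 0, 0, 0, 0, 0, 0⟩⟩), ([18, 10, 12, 0, 20], ⟨1, -1, 0, -1, 0, 0, 1, 0⟩, ⟨⟨-1, 0, -1, 2, -1, 0, 1, 0⟩, ⟨2, 0, 0, 0, 0, 0, 0, 0⟩, ⟨-2, 0, 0, 0, 0, 0, 0, 0⟩⟩), ([2, 20, 18, 0, 20], ⟨-1, 0, -1, 0, -1, 0, 1, 0⟩, ⟨⟨-1, 2, -1, 0, -1, 0, 1, 0⟩, ⟨2, 0, 0, 0, 0, 0, 0, 0⟩, ⟨0, 0, 0, 0, 0, 0, -2, 0⟩⟩), ([4, 20, 18, 0, 20], ⟨1, 0, -1, 0, 1, 0, 1, 0⟩, ⟨⟨-1, 0, 1, -2, 1, 0, 1, 0⟩, ⟨2, 0, 0, 0, 0, 0, 0, 0⟩, ⟨0, 0, 0, 0, 0, 0, -2, 0⟩⟩), ([6,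 20, 18, 0, 20], ⟨-1, 0, 1, 0, 1, 0, 1, 0⟩, ⟨⟨1, 0, 1, 0, -1, 2, 1, 0⟩, ⟨2, 0, 0, 0, 0, 0, 0, 0⟩, ⟨0, 0, 0, 0, 0, 0, -2, 0⟩⟩), ([4, 20, 0, 2, 20], ⟨1, 0, -1, 0, 1, 0, 1, 0⟩, ⟨⟨0, 0, 0, 0, 0, 0, 2, 0⟩, ⟨1, -2, 1, 0, 1, 0, -1, 0⟩, ⟨2, 0, 0, 0, 0, 0, 0, 0⟩⟩), ([6, 20, 0, 2, 20], ⟨-1, 0, 1, 0, 1, 0, 1, 0⟩, ⟨⟨2, 0, 0, 0, 0, 0, 0, 0⟩, ⟨1, -2, -1, 0, -1, 0, -1, 0⟩, ⟨2, 0, 0, 0, 0, 0, 0, 0⟩⟩), ([8, 20, 0, 2, 20], ⟨1, 0, -1, 0, -1, 0, -1, 0⟩, ⟨⟨2, 0, 0, 0, 0, 0, 0, 0⟩, ⟨0, 0, 0, 0, -2, 0, 0, 0⟩, ⟨1, 0, 1, 0, 1, -2, -1, 0⟩⟩), ([16, 20, 0, 2, 20], ⟨-1, 0, -1, 0,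 1, 0, -1, 0⟩, ⟨⟨0, 0, -2, 0, 0, 0, 0, 0⟩, ⟨1, -2, -1, 0, 1, 0, 1, 0⟩, ⟨2, 0, 0, 0, 0, 0, 0, 0⟩⟩), ([18, 20, 0, 2, 20], ⟨1, 0, 1, 0, -1, 0, 1, 0⟩, ⟨⟨2, 0, 0, 0, 0, 0, 0, 0⟩, ⟨0, 0, 0, 0, -2, 0, 0, 0⟩, ⟨1, 0, -1, 0, -1, 0, -1, 2⟩⟩)]
def TW7 : List (List ℕ × Z8 × V3) := [([10, 12, 4, 2, 20], ⟨1, 0, 0, 0, 0, -1, -1, 1⟩, ⟨⟨2, 0, 0, 0, 0, 0, 0, 0⟩, ⟨-2, 0, 0, 0, 0, 0, 0, 0⟩, ⟨-1, 0, 1, 0, -1, 2, -1, 0⟩⟩), ([18, 12, 4, 2, 20], ⟨-1, 0, 0, 0, 0, 1, 1, -1⟩, ⟨⟨2, 0, 0, 0, 0, 0, 0, 0⟩, ⟨0, 0, 0, 0, -2, 0, 0, 0⟩, ⟨1, -2, 1, 0, -1, 0, 1, 0⟩⟩), ([0, 20, 4, 2, 20],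 ⟨1, 0, 0, 0, 0, 1, -1, 1⟩, ⟨⟨-1, 0, -1, 2, 1, 0, -1, 0⟩, ⟨2, 0, 0, 0, 0, 0, 0, 0⟩, ⟨0, 0, -2, 0, 0, 0, 0, 0⟩⟩), ([2, 20, 4, 2, 20], ⟨0, 0, 1, 0, -1, 1, 0, -1⟩, ⟨⟨-1, 2, 1, 0, -1, 0, -1, 0⟩, ⟨2, 0, 0, 0, 0, 0, 0, 0⟩, ⟨0, 0, -2, 0, 0, 0, 0, 0⟩⟩), ([8, 20, 4, 2, 20], ⟨-1, 0, 0, 0, 0, -1, 1, -1⟩, ⟨⟨-1, 0, -1, 2, 1, 0, -1, 0⟩, ⟨2, 0, 0, 0, 0, 0, 0, 0⟩, ⟨0, 0, 2, 0, 0, 0, 0, 0⟩⟩), ([16, 20, 4, 2, 20], ⟨0, 1, -1, 1, -1, 0, 0, 0⟩, ⟨⟨-1, 0, -1, 0, -1, 0, 1, -2⟩, ⟨2, 0, 0, 0, 0, 0, 0, 0⟩, ⟨0, 0, -2, 0, 0, 0, 0, 0⟩⟩), ([18, 12, 6, 2, 20], ⟨0, -1, -1, 1, -1, 0,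 0, 0⟩, ⟨⟨2, 0, 0, 0, 0, 0, 0, 0⟩, ⟨-2, 0, 0, 0, 0, 0, 0, 0⟩, ⟨1, -2, -1, 0, -1, 0, -1, 0⟩⟩), ([20, 12, 6, 2, 20], ⟨0, 1, 0, 0, 1, -1, 1, 0⟩, ⟨⟨2, 0, 0, 0, 0, 0, 0, 0⟩, ⟨0, 0, 0, 0, 0, 0, -2, 0⟩, ⟨-1, 0, -1, 0, 1, -2, -1, 0⟩⟩), ([0, 20, 6, 2, 20], ⟨1, -1, 1, 0, 0, 1, 0, 0⟩, ⟨⟨-1, 0, 1, 0, 1, 0, 1, -2⟩, ⟨2, 0, 0, 0, 0, 0, 0, 0⟩, ⟨0, 0, 0, 0, 2, 0, 0, 0⟩⟩), ([4, 20, 6, 2, 20], ⟨0, 0, 0, 1, -1, 0, 1, -1⟩, ⟨⟨1, -2, 1, 0, -1, 0, 1, 0⟩, ⟨2, 0, 0, 0, 0, 0, 0, 0⟩, ⟨0, 0, 0, 0, 2, 0, 0, 0⟩⟩), ([8, 20, 6, 2, 20], ⟨-1, 1, -1, 0, 0, -1, 0, 0⟩, ⟨⟨-1, 0, 1, 0, 1, 0,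 1, -2⟩, ⟨2, 0, 0, 0, 0, 0, 0, 0⟩, ⟨0, 0, 0, 0, -2, 0, 0, 0⟩⟩), ([18, 20, 6, 2, 20], ⟨0, -1, 0, 0, 1, -1, 1, 0⟩, ⟨⟨0, 0, -2, 0, 0, 0, 0, 0⟩, ⟨-1, 0, 1, 0, 1, -2, 1, 0⟩, ⟨2, 0, 0, 0, 0, 0, 0, 0⟩⟩), ([20, 12, 8, 2, 20], ⟨1, -1, 0, 0, 1, 0, 0, 1⟩, ⟨⟨2, 0, 0, 0, 0, 0, 0, 0⟩, ⟨-1, 2, 1, 0, 1, 0, 1, 0⟩, ⟨2, 0, 0, 0, 0, 0, 0, 0⟩⟩), ([10, 0, 12, 2, 20], ⟨0, 0, -1, 0, 1, -1, 0, -1⟩, ⟨⟨0, 0, 2, 0, 0, 0, 0, 0⟩, ⟨1, 0, -1, 0, -1, 2, -1, 0⟩, ⟨2, 0, 0, 0, 0, 0, 0, 0⟩⟩), ([6, 18, 12, 2, 20], ⟨0, 0, -1, 0, 1, -1, 0, -1⟩, ⟨⟨-1, 0, 1, 0, 1, -2, 1, 0⟩, ⟨2, 0, 0, 0, 0, 0,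 0, 0⟩, ⟨0, 0, 2, 0, 0, 0, 0, 0⟩⟩), ([10, 18, 12, 2, 20], ⟨0, 0, -1, 0, 1, -1, 0, -1⟩, ⟨⟨-1, 0, -1, 0, 1, 0, -1, 2⟩, ⟨2, 0, 0, 0, 0, 0, 0, 0⟩, ⟨2, 0, 0, 0, 0, 0, 0, 0⟩⟩), ([12, 18, 12, 2, 20], ⟨0, -1, -1, 0, 0, 0, 1, -1⟩, ⟨⟨1, 0, -1, 0, 1, -2, 1, 0⟩, ⟨2, 0, 0, 0, 0, 0, 0, 0⟩, ⟨2, 0, 0, 0, 0, 0, 0, 0⟩⟩), ([8, 20, 16, 2, 20], ⟨0, 0, -1, 1, 0, -1, 1, 0⟩, ⟨⟨1, -2, 1, 0, 1, 0, -1, 0⟩, ⟨2, 0, 0, 0, 0, 0, 0, 0⟩, ⟨0, 0, 0, 0, 0, 0, 2, 0⟩⟩), ([2, 20, 18, 2, 20], ⟨0, 0, -1, 0, 1, -1, 0, 1⟩, ⟨⟨0, 0, 0, 0, 0, 0, 2, 0⟩, ⟨1, 0, -1, 2, -1, 0, -1, 0⟩, ⟨2, 0, 0, 0, 0,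 0, 0, 0⟩⟩), ([4, 20, 18, 2, 20], ⟨-1, 0, 0, 0, 0, -1, 1, -1⟩, ⟨⟨0, 0, 0, 0, -2, 0, 0, 0⟩, ⟨-1, 0, 1, -2, -1, 0, -1, 0⟩, ⟨2, 0, 0, 0, 0, 0, 0, 0⟩⟩), ([12, 20, 18, 2, 20], ⟨2, 0, 0, 0, 0, 0, 0, 0⟩, ⟨⟨0, 0, 0, 0, 0, 0, -2, 0⟩, ⟨1, -2, 1, 0, 1, 0, -1, 0⟩, ⟨2, 0, 0, 0, 0, 0, 0, 0⟩⟩), ([2, 20, 0, 4, 20], ⟨-1, 0, 1, 0, -1, 0, -1, 0⟩, ⟨⟨2, 0, 0, 0, 0, 0, 0, 0⟩, ⟨1, 0, 1, -2, 1, 0, -1, 0⟩, ⟨2, 0, 0, 0, 0, 0, 0, 0⟩⟩), ([8, 20, 0, 4, 20], ⟨1, 0, -1, 0, 1, 0, 1, 0⟩, ⟨⟨2, 0, 0, 0, 0, 0, 0, 0⟩, ⟨2, 0, 0, 0, 0, 0, 0, 0⟩, ⟨1, 0, 1, -2, 1, 0, -1, 0⟩⟩), ([16, 20, 0, 4,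 20], ⟨-1, 0, 1, 0, 1, 0, 1, 0⟩, ⟨⟨0, 0, 0, 0, 0, 0, 2, 0⟩, ⟨-1, 0, 1, -2, 1, 0, 1, 0⟩, ⟨2, 0, 0, 0, 0, 0, 0, 0⟩⟩), ([18, 20, 0, 4, 20], ⟨1, 0, -1, 0, -1, 0, -1, 0⟩, ⟨⟨2, 0, 0, 0, 0, 0, 0, 0⟩, ⟨2, 0, 0, 0, 0, 0, 0, 0⟩, ⟨1, 0, -1, 0, 1, -2, 1, 0⟩⟩), ([20, 12, 2, 4, 20], ⟨0, 0, 0, 1, 1, 0, 1, -1⟩, ⟨⟨2, 0, 0, 0, 0, 0, 0, 0⟩, ⟨0, 0, 0, 0, 0, 0, -2, 0⟩, ⟨-1, 0, 1, 0, -1, 0, -1, 2⟩⟩), ([0, 20, 2, 4, 20], ⟨0, -1, 1, -1, -1, 0, 0, 0⟩, ⟨⟨1, 0, 1, 0, -1, 0, 1, -2⟩, ⟨2, 0, 0, 0, 0, 0, 0, 0⟩, ⟨2, 0, 0, 0, 0, 0, 0, 0⟩⟩), ([4, 20, 2, 4, 20], ⟨1, -1, 0, 1, 0, 0, -1,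 0⟩, ⟨⟨-1, 0, 1, 0, -1, 2, -1, 0⟩, ⟨2, 0, 0, 0, 0, 0, 0, 0⟩, ⟨2, 0, 0, 0, 0, 0, 0, 0⟩⟩), ([6, 20, 2, 4, 20], ⟨1, 0, 0, 0, 0, -1, 1, -1⟩, ⟨⟨-1, 0, -1, 2, -1, 0, 1, 0⟩, ⟨2, 0, 0, 0, 0, 0, 0, 0⟩, ⟨2, 0, 0, 0, 0, 0, 0, 0⟩⟩), ([8, 20, 2, 4, 20], ⟨0, 1, -1, 1, 1, 0, 0, 0⟩, ⟨⟨1, 0, 1, 0, -1, 0, 1, -2⟩, ⟨2, 0, 0, 0, 0, 0, 0, 0⟩, ⟨-2, 0, 0, 0, 0, 0, 0, 0⟩⟩), ([12, 20, 2, 4, 20], ⟨0, -1, 0, 0, -1, 1, -1, 0⟩, ⟨⟨-1, 2, 1, 0, -1, 0, -1, 0⟩, ⟨2, 0, 0, 0, 0, 0, 0, 0⟩, ⟨0, 0, 2, 0, 0, 0, 0, 0⟩⟩), ([18, 20, 2, 4, 20], ⟨0, -1, 1, -1, -1, 0, 0, 0⟩, ⟨⟨0, 0, 0, 0, 0, 0, 2,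 0⟩, ⟨-1, 2, -1, 0, -1, 0, 1, 0⟩, ⟨2, 0, 0, 0, 0, 0, 0, 0⟩⟩), ([18, 12, 6, 4, 20], ⟨1, -1, 0, -1, 0, 0, 1, 0⟩, ⟨⟨2, 0, 0, 0, 0, 0, 0, 0⟩, ⟨0, 0, 2, 0, 0, 0, 0, 0⟩, ⟨1, -2, -1, 0, 1, 0, 1, 0⟩⟩), ([0, 20, 6, 4, 20], ⟨0, -1, 1, 0, 0, 0, -1, 1⟩, ⟨⟨1, 0, 1, 0, 1, -2, -1, 0⟩, ⟨2, 0, 0, 0, 0, 0, 0, 0⟩, ⟨0, 0, 0, 0, 2, 0, 0, 0⟩⟩), ([8, 20, 6, 4, 20], ⟨0, 1, -1, 0, 0, 0, 1, -1⟩, ⟨⟨1, 0, 1, 0, 1, -2, -1, 0⟩, ⟨2, 0, 0, 0, 0, 0, 0, 0⟩, ⟨0, 0, 0, 0, -2, 0, 0, 0⟩⟩)]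
def TW8 : List (List ℕ × Z8 × V3) := [([10, 12, 8, 4, 20], ⟨-1, 0, 0, 0, 0, 1, 1, -1⟩, ⟨⟨2, 0, 0, 0, 0, 0, 0, 0⟩, ⟨1, 0, -1, 0, 1, -2, 1, 0⟩, ⟨2, 0, 0, 0, 0, 0, 0, 0⟩⟩), ([18, 12, 8, 4, 20], ⟨0, -1, -1, 1, -1, 0, 0, 0⟩, ⟨⟨1, -2, -1, 0, -1, 0, -1, 0⟩, ⟨2, 0, 0, 0, 0, 0, 0, 0⟩, ⟨-2, 0, 0, 0, 0, 0, 0, 0⟩⟩), ([20, 18, 8, 4, 20], ⟨-1, 0, 0, 1, -1, 1, 0, 0⟩, ⟨⟨2, 0, 0, 0, 0, 0, 0, 0⟩, ⟨0, 0, 0, 0, 2, 0, 0, 0⟩, ⟨-1, 0, 1, 0, 1, 0, 1, -2⟩⟩), ([10, 0, 12, 4, 20], ⟨-1, 0, 0, 0, 0, 1, 1, -1⟩, ⟨⟨-2, 0, 0, 0, 0, 0, 0, 0⟩, ⟨-1, 0, 1, 0, -1, 2, -1, 0⟩, ⟨2, 0, 0, 0,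 0, 0, 0, 0⟩⟩), ([18, 0, 12, 4, 20], ⟨0, 1, 1, -1, 1, 0, 0, 0⟩, ⟨⟨1, -2, -1, 0, -1, 0, -1, 0⟩, ⟨2, 0, 0, 0, 0, 0, 0, 0⟩, ⟨2, 0, 0, 0, 0, 0, 0, 0⟩⟩), ([12, 18, 12, 4, 20], ⟨0, 0, 0, -1, 1, 0, 1, -1⟩, ⟨⟨1, -2, -1, 0, 1, 0, 1, 0⟩, ⟨2, 0, 0, 0, 0, 0, 0, 0⟩, ⟨0, 0, -2, 0, 0, 0, 0, 0⟩⟩), ([8, 20, 16, 4, 20], ⟨0, 1, 0, 0, 1, -1, 1, 0⟩, ⟨⟨1, 0, -1, 2, -1, 0, -1, 0⟩, ⟨2, 0, 0, 0, 0, 0, 0, 0⟩, ⟨0, 0, 0, 0, 0, 0, 2, 0⟩⟩), ([4, 20, 18, 4, 20], ⟨0, 0, 1, -1, 0, -1, 1, 0⟩, ⟨⟨0, 0, 0, 0, -2, 0, 0, 0⟩, ⟨1, 0, 1, 0, 1, -2, -1, 0⟩, ⟨2, 0, 0, 0, 0, 0, 0, 0⟩⟩), ([6, 20,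 18, 4, 20], ⟨-1, 0, 0, -1, -1, 1, 0, 0⟩, ⟨⟨0, 0, -2, 0, 0, 0, 0, 0⟩, ⟨1, 0, -1, 0, -1, 2, -1, 0⟩, ⟨2, 0, 0, 0, 0, 0, 0, 0⟩⟩), ([8, 20, 18, 4, 20], ⟨0, 1, -1, 0, 0, 0, 1, -1⟩, ⟨⟨2, 0, 0, 0, 0, 0, 0, 0⟩, ⟨0, 0, 0, 0, 0, 0, -2, 0⟩, ⟨-1, 0, 1, -2, 1, 0, 1, 0⟩⟩), ([4, 20, 0, 6, 20], ⟨-1, 0, -1, 0, 1, 0, -1, 0⟩, ⟨⟨2, 0, 0, 0, 0, 0, 0, 0⟩, ⟨-1, 0, 1, 0, -1, 2, -1, 0⟩, ⟨2, 0, 0, 0, 0, 0, 0, 0⟩⟩), ([16, 20, 0, 6, 20], ⟨-1, 0, 1, 0, -1, 0, -1, 0⟩, ⟨⟨0, 0, 0, 0, -2, 0, 0, 0⟩, ⟨-1, 0, -1, 0, -1, 2, 1, 0⟩, ⟨2, 0, 0, 0, 0, 0, 0, 0⟩⟩), ([18, 20, 0, 6, 20], ⟨1, 0, -1,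 0, 1, 0, 1, 0⟩, ⟨⟨2, 0, 0, 0, 0, 0, 0, 0⟩, ⟨0, 0, 2, 0, 0, 0, 0, 0⟩, ⟨1, 0, 1, -2, -1, 0, 1, 0⟩⟩), ([18, 12, 2, 6, 20], ⟨0, 1, 1, -1, 1, 0, 0, 0⟩, ⟨⟨2, 0, 0, 0, 0, 0, 0, 0⟩, ⟨2, 0, 0, 0, 0, 0, 0, 0⟩, ⟨1, -2, -1, 0, -1, 0, -1, 0⟩⟩), ([18, 12, 4, 6, 20], ⟨-1, 1, 0, 1, 0, 0, -1, 0⟩, ⟨⟨2, 0, 0, 0, 0, 0, 0, 0⟩, ⟨0, 0, -2, 0, 0, 0, 0, 0⟩, ⟨1, -2, -1, 0, 1, 0, 1, 0⟩⟩), ([2, 20, 4, 6, 20], ⟨0, 1, 1, 0, 0, 0, 1, -1⟩, ⟨⟨-1, 0, 1, 0, 1, -2, 1, 0⟩, ⟨2, 0, 0, 0, 0, 0, 0, 0⟩, ⟨0, 0, -2, 0, 0, 0, 0, 0⟩⟩), ([8, 20, 4, 6, 20], ⟨-1, 0, 0, 1, 1, -1, 0, 0⟩, ⟨⟨-1, 0, -1,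 0, -1, 0, 1, -2⟩, ⟨2, 0, 0, 0, 0, 0, 0, 0⟩, ⟨0, 0, 2, 0, 0, 0, 0, 0⟩⟩), ([12, 20, 4, 6, 20], ⟨-1, 0, -1, 1, 0, 0, 0, 1⟩, ⟨⟨-1, 0, 1, 0, -1, 2, -1, 0⟩, ⟨2, 0, 0, 0, 0, 0, 0, 0⟩, ⟨-2, 0, 0, 0, 0, 0, 0, 0⟩⟩), ([18, 20, 4, 6, 20], ⟨0, -1, -1, 0, 0, 0, -1, 1⟩, ⟨⟨0, 0, 0, 0, -2, 0, 0, 0⟩, ⟨1, 0, -1, 2, 1, 0, 1, 0⟩, ⟨2, 0, 0, 0, 0, 0, 0, 0⟩⟩), ([20, 12, 8, 6, 20], ⟨0, 0, -1, 1, 0, 1, 1, 0⟩, ⟨⟨2, 0, 0, 0, 0, 0, 0, 0⟩, ⟨-1, 0, -1, 2, -1, 0, 1, 0⟩, ⟨2, 0, 0, 0, 0, 0, 0, 0⟩⟩), ([10, 0, 12, 6, 20], ⟨0, -1, -1, 1, -1, 0, 0, 0⟩, ⟨⟨0, 0, 0, 0, 2, 0, 0, 0⟩, ⟨-1, 0,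 -1, 0, -1, 2, 1, 0⟩, ⟨2, 0, 0, 0, 0, 0, 0, 0⟩⟩), ([2, 18, 12, 6, 20], ⟨1, 0, 0, 0, 0, -1, -1, 1⟩, ⟨⟨1, -2, 1, 0, -1, 0, 1, 0⟩, ⟨2, 0, 0, 0, 0, 0, 0, 0⟩, ⟨0, 0, 0, 0, -2, 0, 0, 0⟩⟩), ([12, 18, 12, 6, 20], ⟨-1, 0, 0, 0, 0, 1, 1, -1⟩, ⟨⟨1, 0, -1, 2, 1, 0, 1, 0⟩, ⟨2, 0, 0, 0, 0, 0, 0, 0⟩, ⟨0, 0, 0, 0, 2, 0, 0, 0⟩⟩), ([6, 20, 18, 6, 20], ⟨0, 0, 0, -1, -1, 0, -1, 1⟩, ⟨⟨0, 0, -2, 0, 0, 0, 0, 0⟩, ⟨-1, 2, 1, 0, -1, 0, -1, 0⟩, ⟨2, 0, 0, 0, 0, 0, 0, 0⟩⟩), ([12, 20, 18, 6, 20], ⟨-1, 0, -1, 0, -1, 0, 1, 0⟩, ⟨⟨0, 0, 0, 0, 2, 0, 0, 0⟩, ⟨-1, 0, 1, -2, -1, 0, -1, 0⟩,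 ⟨2, 0, 0, 0, 0, 0, 0, 0⟩⟩), ([18, 10, 18, 12, 20], ⟨0, -1, -1, 1, -1, 0, 0, 0⟩, ⟨⟨2, 0, 0, 0, 0, 0, 0, 0⟩, ⟨0, 0, -2, 0, 0, 0, 0, 0⟩, ⟨1, 0, 1, -2, -1, 0, 1, 0⟩⟩), ([2, 20, 4, 16, 20], ⟨-1, 1, 1, 0, 0, 1, 0, 0⟩, ⟨⟨1, 0, 1, 0, 1, 0, -1, 2⟩, ⟨2, 0, 0, 0, 0, 0, 0, 0⟩, ⟨0, 0, -2, 0, 0, 0, 0, 0⟩⟩), ([4, 20, 6, 16, 20], ⟨0, -1, -1, 1, -1, 0, 0, 0⟩, ⟨⟨1, 0, -1, 0, -1, 0, -1, 2⟩, ⟨2, 0, 0, 0, 0, 0, 0, 0⟩, ⟨0, 0, 0, 0, 2, 0, 0, 0⟩⟩), ([12, 20, 6, 18, 12, 18], ⟨0, -1, -1, 1, 1, 0, 0, 0⟩, ⟨⟨2, 0, 0, 0, 0, 0, 0, 0⟩, ⟨0, 0, 0, 0, 2, 0, 0, 0⟩, ⟨1, 0, -1, 0, -1, 0,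 -1, 2⟩⟩), ([0, 20, 4, 2, 20, 18], ⟨1, 0, 0, 0, 0, -1, 1, -1⟩, ⟨⟨0, 0, 2, 0, 0, 0, 0, 0⟩, ⟨1, -2, -1, 0, 1, 0, 1, 0⟩, ⟨2, 0, 0, 0, 0, 0, 0, 0⟩⟩), ([0, 20, 16, 2, 20, 18], ⟨0, 1, -1, 0, 0, 0, 1, -1⟩, ⟨⟨-2, 0, 0, 0, 0, 0, 0, 0⟩, ⟨1, -2, -1, 0, -1, 0, -1, 0⟩, ⟨2, 0, 0, 0, 0, 0, 0, 0⟩⟩), ([0, 20, 6, 4, 20, 18], ⟨1, 0, 0, -1, -1, 1, 0, 0⟩, ⟨⟨0, 0, 0, 0, 0, 0, -2, 0⟩, ⟨-1, 0, 1, -2, 1, 0, 1, 0⟩, ⟨2, 0, 0, 0, 0, 0, 0, 0⟩⟩), ([0, 20, 16, 4, 20, 18], ⟨0, 1, 0, 0, -1, 1, 1, 0⟩, ⟨⟨-2, 0, 0, 0, 0, 0, 0, 0⟩, ⟨1, 0, 1, -2, 1, 0, -1, 0⟩, ⟨2, 0, 0, 0, 0, 0, 0, 0⟩⟩),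 ([14, 10, 12, 2, 0, 20], ⟨-1, 1, 1, 0, 0, 1, 0, 0⟩, ⟨⟨2, 0, 0, 0, 0, 0, 0, 0⟩, ⟨0, 0, 0, 0, 0, 0, 2, 0⟩, ⟨-1, 0, 1, 0, -1, 0, -1, 2⟩⟩), ([15, 10, 12, 2, 0, 20], ⟨0, -1, -1, 0, 0, 0, 1, -1⟩, ⟨⟨2, 0, 0, 0, 0, 0, 0, 0⟩, ⟨0, 0, 0, 0, 0, 0, 2, 0⟩, ⟨-1, 0, -1, 0, 1, -2, -1, 0⟩⟩)]
def TW : List (List ℕ × Z8 × V3) := TW0 ++ TW1 ++ TW2 ++ TW3 ++ TW4 ++ TW5 ++ TW6 ++ TW7 ++ TW8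
def LU : List Z8 := [⟨-2, 0, 0, 0, 0, 0, 0, 0⟩, ⟨-1, 0, -1, 0, -1, 0, -1, 0⟩, ⟨-1, 0, -1, 0, -1, 0, 1, 0⟩, ⟨-1, 0, -1, 0, 1, 0, -1, 0⟩, ⟨-1, 0, -1, 0, 1, 0, 1, 0⟩, ⟨-1, 0, -1, 1, 0, 0, 0, -1⟩, ⟨-1, 0, -1, 1, 0, 0, 0, 1⟩, ⟨-1, 0, 0, -1, -1, 1, 0, 0⟩, ⟨-1, 0, 0, -1, 1, -1, 0, 0⟩, ⟨-1, 0, 0, 0, 0, -1, -1, 1⟩, ⟨-1, 0, 0, 0, 0, -1, 1, -1⟩, ⟨-1, 0, 0, 0, 0, 1, -1, 1⟩, ⟨-1, 0, 0, 0, 0, 1, 1, -1⟩, ⟨-1, 0, 0, 1, -1, 1, 0, 0⟩, ⟨-1, 0, 0, 1, 1, -1, 0, 0⟩, ⟨-1, 0, 1, -1, 0, 0, 0, -1⟩, ⟨-1, 0, 1, -1, 0, 0, 0, 1⟩, ⟨-1, 0, 1, 0, -1, 0, -1, 0⟩, ⟨-1, 0, 1, 0, -1, 0,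 1, 0⟩, ⟨-1, 0, 1, 0, 1, 0, -1, 0⟩, ⟨-1, 0, 1, 0, 1, 0, 1, 0⟩, ⟨-1, 1, -1, 0, 0, -1, 0, 0⟩, ⟨-1, 1, -1, 0, 0, 1, 0, 0⟩, ⟨-1, 1, 0, -1, 0, 0, -1, 0⟩, ⟨-1, 1, 0, -1, 0, 0, 1, 0⟩, ⟨-1, 1, 0, 0, -1, 0, 0, -1⟩, ⟨-1, 1, 0, 0, -1, 0, 0, 1⟩, ⟨-1, 1, 0, 0, 1, 0, 0, -1⟩, ⟨-1, 1, 0, 0, 1, 0, 0, 1⟩, ⟨-1, 1, 0, 1, 0, 0, -1, 0⟩, ⟨-1, 1, 0, 1, 0, 0, 1, 0⟩, ⟨-1, 1, 1, 0, 0, -1, 0, 0⟩, ⟨-1, 1, 1, 0, 0, 1, 0, 0⟩, ⟨0, -1, -1, 0, 0, 0, -1, 1⟩, ⟨0, -1, -1, 0, 0, 0, 1, -1⟩, ⟨0, -1, -1, 1, -1, 0, 0, 0⟩, ⟨0, -1, -1, 1, 1, 0, 0, 0⟩, ⟨0, -1, 0, 0, -1, 1, -1, 0⟩, ⟨0, -1, 0, 0,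 -1, 1, 1, 0⟩, ⟨0, -1, 0, 0, 1, -1, -1, 0⟩, ⟨0, -1, 0, 0, 1, -1, 1, 0⟩, ⟨0, -1, 1, -1, -1, 0, 0, 0⟩, ⟨0, -1, 1, -1, 1, 0, 0, 0⟩, ⟨0, -1, 1, 0, 0, 0, -1, 1⟩, ⟨0, -1, 1, 0, 0, 0, 1, -1⟩, ⟨0, 0, -2, 0, 0, 0, 0, 0⟩, ⟨0, 0, -1, 0, -1, 1, 0, -1⟩, ⟨0, 0, -1, 0, -1, 1, 0, 1⟩, ⟨0, 0, -1, 0, 1, -1, 0, -1⟩, ⟨0, 0, -1, 0, 1, -1, 0, 1⟩, ⟨0, 0, -1, 1, 0, -1, -1, 0⟩, ⟨0, 0, -1, 1, 0, -1, 1, 0⟩, ⟨0, 0, -1, 1, 0, 1, -1, 0⟩, ⟨0, 0, -1, 1, 0, 1, 1, 0⟩, ⟨0, 0, 0, -1, -1, 0, -1, 1⟩, ⟨0, 0, 0, -1, -1, 0, 1, -1⟩, ⟨0, 0, 0, -1, 1, 0, -1, 1⟩, ⟨0, 0, 0, -1, 1, 0, 1, -1⟩, ⟨0, 0,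 0, 0, -2, 0, 0, 0⟩, ⟨0, 0, 0, 0, 0, 0, -2, 0⟩, ⟨0, 0, 0, 0, 0, 0, 2, 0⟩, ⟨0, 0, 0, 0, 2, 0, 0, 0⟩, ⟨0, 0, 0, 1, -1, 0, -1, 1⟩, ⟨0, 0, 0, 1, -1, 0, 1, -1⟩, ⟨0, 0, 0, 1, 1, 0, -1, 1⟩, ⟨0, 0, 0, 1, 1, 0, 1, -1⟩, ⟨0, 0, 1, -1, 0, -1, -1, 0⟩, ⟨0, 0, 1, -1, 0, -1, 1, 0⟩, ⟨0, 0, 1, -1, 0, 1, -1, 0⟩, ⟨0, 0, 1, -1, 0, 1, 1, 0⟩, ⟨0, 0, 1, 0, -1, 1, 0, -1⟩, ⟨0, 0, 1, 0, -1, 1, 0, 1⟩, ⟨0, 0, 1, 0, 1, -1, 0, -1⟩, ⟨0, 0, 1, 0, 1, -1, 0, 1⟩, ⟨0, 0, 2, 0, 0, 0, 0, 0⟩, ⟨0, 1, -1, 0, 0, 0, -1, 1⟩, ⟨0, 1, -1, 0, 0, 0, 1, -1⟩, ⟨0, 1, -1, 1, -1, 0, 0, 0⟩, ⟨0, 1, -1, 1, 1,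 0, 0, 0⟩, ⟨0, 1, 0, 0, -1, 1, -1, 0⟩, ⟨0, 1, 0, 0, -1, 1, 1, 0⟩, ⟨0, 1, 0, 0, 1, -1, -1, 0⟩, ⟨0, 1, 0, 0, 1, -1, 1, 0⟩, ⟨0, 1, 1, -1, -1, 0, 0, 0⟩, ⟨0, 1, 1, -1, 1, 0, 0, 0⟩, ⟨0, 1, 1, 0, 0, 0, -1, 1⟩, ⟨0, 1, 1, 0, 0, 0, 1, -1⟩, ⟨1, -1, -1, 0, 0, -1, 0, 0⟩, ⟨1, -1, -1, 0, 0, 1, 0, 0⟩, ⟨1, -1, 0, -1, 0, 0, -1, 0⟩, ⟨1, -1, 0, -1, 0, 0, 1, 0⟩, ⟨1, -1, 0, 0, -1, 0, 0, -1⟩, ⟨1, -1, 0, 0, -1, 0, 0, 1⟩, ⟨1, -1, 0, 0, 1, 0, 0, -1⟩, ⟨1, -1, 0, 0, 1, 0, 0, 1⟩, ⟨1, -1, 0, 1, 0, 0, -1, 0⟩, ⟨1, -1, 0, 1, 0, 0, 1, 0⟩, ⟨1, -1, 1, 0, 0, -1, 0, 0⟩, ⟨1, -1, 1, 0, 0, 1,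 0, 0⟩, ⟨1, 0, -1, 0, -1, 0, -1, 0⟩, ⟨1, 0, -1, 0, -1, 0, 1, 0⟩, ⟨1, 0, -1, 0, 1, 0, -1, 0⟩, ⟨1, 0, -1, 0, 1, 0, 1, 0⟩, ⟨1, 0, -1, 1, 0, 0, 0, -1⟩, ⟨1, 0, -1, 1, 0, 0, 0, 1⟩, ⟨1, 0, 0, -1, -1, 1, 0, 0⟩, ⟨1, 0, 0, -1, 1, -1, 0, 0⟩, ⟨1, 0, 0, 0, 0, -1, -1, 1⟩, ⟨1, 0, 0, 0, 0, -1, 1, -1⟩, ⟨1, 0, 0, 0, 0, 1, -1, 1⟩, ⟨1, 0, 0, 0, 0, 1, 1, -1⟩, ⟨1, 0, 0, 1, -1, 1, 0, 0⟩, ⟨1, 0, 0, 1, 1, -1, 0, 0⟩, ⟨1, 0, 1, -1, 0, 0, 0, -1⟩, ⟨1, 0, 1, -1, 0, 0, 0, 1⟩, ⟨1, 0, 1, 0, -1, 0, -1, 0⟩, ⟨1, 0, 1, 0, -1, 0, 1, 0⟩, ⟨1, 0, 1, 0, 1, 0, -1, 0⟩, ⟨1, 0, 1, 0, 1, 0, 1, 0⟩,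 ⟨2, 0, 0, 0, 0, 0, 0, 0⟩]
def Z16 : List Z8 := [⟨-2, 0, 0, 0, 0, 0, 0, 0⟩, ⟨0, -1, 0, -1, 0, -1, 0, 1⟩, ⟨0, -1, 0, -1, 0, 1, 0, -1⟩, ⟨0, -1, 0, 1, 0, -1, 0, -1⟩, ⟨0, -1, 0, 1, 0, 1, 0, 1⟩, ⟨0, 0, -2, 0, 0, 0, 0, 0⟩, ⟨0, 0, 0, 0, -2, 0, 0, 0⟩, ⟨0, 0, 0, 0, 0, 0, -2, 0⟩, ⟨0, 0, 0, 0, 0, 0, 2, 0⟩, ⟨0, 0, 0, 0, 2, 0, 0, 0⟩, ⟨0, 0, 2, 0, 0, 0, 0, 0⟩, ⟨0, 1, 0, -1, 0, -1, 0, -1⟩, ⟨0, 1, 0, -1, 0, 1, 0, 1⟩, ⟨0, 1, 0, 1, 0, -1, 0, 1⟩, ⟨0, 1, 0, 1, 0, 1, 0, -1⟩, ⟨2, 0, 0, 0, 0, 0, 0, 0⟩]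

end Cfsg.Agent.HJ
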