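/-
The minimal vectors of the icosian Leech lattice.
-/
import Cfsg.Agent.HJ.IcoD

set_option autoImplicit false
set_option maxRecDepth 100000

namespace Cfsg.Agent.HJ

open Quaternion Spor Z8

def RV : List V3 := TW.map fun e => e.2.2

def C3 (x y z : Z8) : Prop := ⟨x, y, z⟩ ∈ RV ∧ ⟨y, z, x⟩ ∈ RV ∧ ⟨z, x, y⟩ ∈ RV

instance decC3 (x y z : Z8) : Decidable (C3 x y z) := by unfold C3; infer_instance

theorem F0 : ∀ z : Z8, S z = (4 : ℕ) → z.code → (N1 z = 0 ∧ z ∈ LU ∨ N1 z = 4) ∧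
    (inH (sub (sc 2) z) → z ∈ Z16) := allS_sound (by norm_num) (by decide +kernel)

theorem F1 : ∀ x : Z8, S x = (8 : ℕ) → x.code → -4 ≤ N1 x ∧
    (inH (sub x (sc 2)) → ∀ z ∈ Z16, N1 x + N1 z = 0 → inB (add (add x (sc 2)) z) →
      C3 x (sc 2) z ∧ (N1 z ≠ 0 → C3 x z (sc 2))) ∧
    (N1 x = 0 → (inH (sub wh x) → inB (add wh x) → C3 (sc 0) wh x) ∧
      (inB (hf (mul x wh)) → (hf (hf (mul x wh))).code ∧ hf (mul x wh) = sm 2 (hf (hf (mul x wh))))) :=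
  allS_sound (by norm_num) (by decide +kernel)

theorem F2 : C3 (sc 0) (sc 4) (sc 0) := by decide +kernel

def Un (u : ℍ[ℝ]) : Prop := u ∈ icosians ∧ normSq u = 1

def Lat (x y z : ℍ[ℝ]) : Prop := (x ∈ icosians ∧ y ∈ icosians ∧ z ∈ icosians) ∧
  x - y ∈ leftIdeal icoH ∧ y - z ∈ leftIdeal icoH ∧ x + y + z ∈ leftIdeal (star icoH) ∧
  normSq x + normSq y + normSq z = 4

def G3 (x y z : ℍ[ℝ]) : Prop := ∃ u a b c, Un u ∧ C3 a b c ∧ x = u * ic a ∧ y = u * ic b ∧ z = u * ic c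

variable {x y z u : ℍ[ℝ]}

theorem G3.cyc (h : G3 x y z) : G3 y z x := by
  obtain ⟨u, a, b, c, h1, h2, h3, h4, h5⟩ := h
  exact ⟨u, b, c, a, h1, ⟨h2.2.1, h2.2.2, h2.1⟩, h4, h5, h3⟩

theorem Lat.cyc (h : Lat x y z) : Lat y z x := by
  obtain ⟨⟨h1, h2, h3⟩, h4, h5, h6, h7⟩ := h
  exact ⟨⟨h2, h3, h1⟩, h5, by convert li_sub (li_sub li_zero h5) h4 using 1; abel,
    by convert h6 using 1; abel, by linarith⟩

theorem Lat.swap (h : Lat x y z) : Lat x z y := by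
  obtain ⟨⟨h1, h2, h3⟩, h4, h5, h6, h7⟩ := h
  exact ⟨⟨h1, h3, h2⟩, by convert li_sub h4 (li_sub li_zero h5) using 1; abel,
    by convert li_sub li_zero h5 using 1; abel, by convert h6 using 1; abel, by linarith⟩

theorem Un.star (h : Un u) : Un (star u) := ⟨Z8.star_mem h.1, by rw [normSq_star, h.2]⟩
theorem Un.l (h : Un u) : Star.star u * u = 1 := by rw [star_mul_self, h.2, coe_one]
theorem Un.r (h : Un u) (x : ℍ[ℝ]) : x = u * (Star.star u * x) := by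
  rw [← mul_assoc, self_mul_star, h.2, coe_one, one_mul]

theorem Lat.mul (h : Lat x y z) (hu : Un u) : Lat (u * x) (u * y) (u * z) := by
  obtain ⟨⟨h1, h2, h3⟩, h4, h5, h6, h7⟩ := h
  exact ⟨⟨mul_mem hu.1 h1, mul_mem hu.1 h2, mul_mem hu.1 h3⟩, by simpa [mul_sub] using li_mul hu.1 h4,
    by simpa [mul_sub] using li_mul hu.1 h5, by simpa [mul_add] using li_mul hu.1 h6,
    by simpa [hu.2] using h7⟩

theorem nrm_eq {a b : Z8} {c : ℤ} (h : normSq (ic a) = c * normSq (ic b)) :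
    S a = c * S b ∧ N1 a = c * N1 b := eq_of (by
  rw [normSq_ic, normSq_ic] at h; push_cast; linear_combination 4 * h)

theorem Lat.sum {a b c : Z8} (h : Lat (ic a) (ic b) (ic c)) :
    S a + S b + S c = 16 ∧ N1 a + N1 b + N1 c = 0 := eq_of (by
  have := h.2.2.2.2
  simp only [normSq_ic] at this; push_cast; linear_combination 4 * this)

theorem un_of {a : Z8} (h : a.code) (h1 : S a = 4) (h2 : N1 a = 0) : Un (ic a) :=
  ⟨ic_mem h, by simp [normSq_ic, h1, h2]⟩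

theorem S_nonneg (a : Z8) : 0 ≤ S a := by
  unfold S; repeat first | exact mul_self_nonneg _ | apply add_nonneg _ (mul_self_nonneg _)

theorem zero_of_S {a : Z8} (h : S a = 0) : a = sc 0 :=
  allS_sound (n := 0) (P := fun a => a = sc 0) (by norm_num) (by decide +kernel) a h

theorem normSq_h : normSq icoH = 2 := by rw [← ic_wh, normSq_ic]; simp [S, N1, wh]; norm_num

theorem Un.rep (hu : Un u) {a : Z8} (h : a.code) :
    ∃ b, b.code ∧ u * ic a = ic b ∧ S b = S a ∧ N1 b = N1 a := by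
  obtain ⟨b, h1, h2⟩ := Z8.rep (mul_mem hu.1 (ic_mem h))
  have := nrm_eq (a := b) (b := a) (c := 1) (by rw [← h2, map_mul, hu.2]; simp)
  exact ⟨b, h1, h2, by omega, by omega⟩

theorem B1 {a b c : Z8} (ha : a.code) (hb : b.code) (hc : c.code) (h : Lat (ic a) (ic b) (ic c))
    (s1 : S a = 8) (s2 : S b = 4) (s3 : S c = 4) (n : N1 b = 0) :
    G3 (ic a) (ic b) (ic c) ∧ (N1 c ≠ 0 → G3 (ic a) (ic c) (ic b)) := by
  have hu := un_of hb s2 n
  have h' := h.mul hu.star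
  obtain ⟨a', k1, k2, k3, k4⟩ := hu.star.rep ha
  obtain ⟨c', k5, k6, k7, k8⟩ := hu.star.rep hc
  rw [k2, k6, hu.l, ← ic_one] at h'
  have := h.sum
  obtain ⟨f1, f2⟩ := (F1 a' (k3.trans s1) k1).2.1 (inH_of (ic_sub .. ▸ h'.2.1)) c'
    ((F0 c' (k7.trans s3) k5).2 (inH_of (ic_sub .. ▸ h'.2.2.1))) (by omega)
    (inB_of (by rw [ic_add, ic_add]; exact h'.2.2.2.1))
  have e1 := hu.r (ic a)
  have e2 := hu.r (ic c)
  rw [k2] at e1
  rw [k6] at e2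
  have e3 : ic b = ic b * ic (sc 2) := by rw [ic_one, mul_one]
  exact ⟨⟨_, _, _, _, hu, f1, e1, e3, e2⟩, fun n => ⟨_, _, _, _, hu, f2 (k8 ▸ n), e1, e2, e3⟩⟩

theorem B844 {a b c : Z8} (ha : a.code) (hb : b.code) (hc : c.code) (h : Lat (ic a) (ic b) (ic c))
    (s1 : S a = 8) (s2 : S b = 4) (s3 : S c = 4) : G3 (ic a) (ic b) (ic c) := by
  have := h.sum
  have f1 := (F1 a s1 ha).1
  rcases (F0 b s2 hb).1 with n | n
  · exact (B1 ha hb hc h s1 s2 s3 n.1).1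
  · rcases (F0 c s3 hc).1 with n' | n'
    · exact (B1 ha hc hb h.swap s1 s3 s2 n'.1).2 (by omega)
    · omega

theorem B3 (h : Lat 0 y 0) : G3 0 y 0 := by
  obtain ⟨b, hb, rfl⟩ := Z8.rep h.1.2.1
  obtain ⟨a, h1, h2⟩ := h.2.2.1
  obtain ⟨a, ha, rfl⟩ := Z8.rep h1
  rw [sub_zero] at h2
  have s := (ic_zero ▸ h : Lat (ic (sc 0)) (ic b) (ic (sc 0))).sum
  have n := nrm_eq (a := b) (b := a) (c := 2) (by rw [h2, map_mul, normSq_h]; push_cast; ring)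
  simp only [show S (sc 0) = 0 from rfl, show N1 (sc 0) = 0 from rfl] at s
  have e : hf (mul a wh) = b := by rw [ic_mul_iff.mp (ic_wh ▸ h2.symm), hf_sm]
  have := ((F1 a (by omega) ha).2.2 (by omega)).2
  rw [e] at this
  obtain ⟨k1, k2⟩ := this (inB_of (by simpa using h.2.2.2.1))
  generalize hf b = v at *
  have e2 : ic b = ic v * ic (sc 4) := by rw [k2, ic_sm, ic_sc]; simp; norm_num
  have n2 := nrm_eq (a := b) (b := v) (c := 4) (by
    rw [e2, map_mul, normSq_ic (sc 4)]; simp [S, N1, sc]; ring)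
  exact ⟨_, _, _, _, un_of k1 (by omega) (by omega), F2, by simp [ic_zero], e2, by simp [ic_zero]⟩

theorem B0 (h : Lat 0 y z) : G3 0 y z := by
  obtain ⟨b, hb, rfl⟩ := Z8.rep h.1.2.1
  obtain ⟨c, hc, rfl⟩ := Z8.rep h.1.2.2
  obtain ⟨a, h1, h2⟩ := li_sub li_zero h.2.1
  obtain ⟨a', h3, h4⟩ := h.cyc.2.2.1
  obtain ⟨a, ha, rfl⟩ := Z8.rep h1
  obtain ⟨a', ha', rfl⟩ := Z8.rep h3
  simp only [zero_sub, neg_neg, sub_zero] at h2 h4
  have s := (ic_zero ▸ h : Lat (ic (sc 0)) (ic b) (ic c)).sum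
  have n := nrm_eq (a := b) (b := a) (c := 2) (by rw [h2, map_mul, normSq_h]; push_cast; ring)
  have n' := nrm_eq (a := c) (b := a') (c := 2) (by rw [h4, map_mul, normSq_h]; push_cast; ring)
  simp only [show S (sc 0) = 0 from rfl, show N1 (sc 0) = 0 from rfl] at s
  have d1 := four_dvd ha
  have d2 := S_nonneg a
  have d3 := S_nonneg a'
  rcases (by omega : S b = 0 ∨ S c = 0 ∨ S a = 4 ∧ S a' = 4) with e | e | ⟨e1, e2⟩
  · rw [zero_of_S e, ic_zero] at h ⊢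
    exact (B3 h.cyc).cyc.cyc
  · rw [zero_of_S e, ic_zero] at h ⊢
    exact B3 h
  have f1 := (F0 a e1 ha).1
  have f2 := (F0 a' e2 ha').1
  have hu := un_of ha e1 (by omega)
  have h' := h.mul hu.star
  obtain ⟨c', k5, k6, k7, k8⟩ := hu.star.rep hc
  rw [k6, h2, ← mul_assoc, hu.l, one_mul, mul_zero, ← ic_wh] at h'
  have := ((F1 c' (by omega) k5).2.2 (by omega)).1 (inH_of (ic_sub .. ▸ h'.2.2.1))
    (inB_of (by simpa [ic_add] using h'.2.2.2.1))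
  have e3 := hu.r (ic c)
  rw [k6] at e3
  exact ⟨_, _, _, _, hu, this, by simp [ic_zero], ic_wh ▸ h2, e3⟩

theorem Lat.g3 (h : Lat x y z) : G3 x y z := by
  obtain ⟨a, ha, rfl⟩ := Z8.rep h.1.1
  obtain ⟨b, hb, rfl⟩ := Z8.rep h.1.2.1
  obtain ⟨c, hc, rfl⟩ := Z8.rep h.1.2.2
  have s := h.sum
  have d1 := four_dvd ha
  have d2 := four_dvd hb
  have d3 := S_nonneg a
  have d4 := S_nonneg b
  have d5 := S_nonneg c
  rcases (by omega : S a = 0 ∨ S b = 0 ∨ S c = 0 ∨ (S a = 8 ∧ S b = 4 ∧ S c = 4) ∨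
    (S b = 8 ∧ S c = 4 ∧ S a = 4) ∨ (S c = 8 ∧ S a = 4 ∧ S b = 4)) with e | e | e | e | e | e
  · rw [zero_of_S e, ic_zero] at h ⊢; exact B0 h
  · rw [zero_of_S e, ic_zero] at h ⊢; exact (B0 h.cyc).cyc.cyc
  · rw [zero_of_S e, ic_zero] at h ⊢; exact (B0 h.cyc.cyc).cyc
  · exact B844 ha hb hc h e.1 e.2.1 e.2.2
  · exact (B844 hb hc ha h.cyc e.1 e.2.1 e.2.2).cyc.cyc
  · exact (B844 hc ha hb h.cyc.cyc e.1 e.2.1 e.2.2).cyc

theorem mv_enum (r : MV) : ∃ u ∈ LU, ∃ e ∈ TW, ∀ t, r.1.1 t = ic u * (1 / 2 : ℝ) • e.2.2.em t := by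
  obtain ⟨⟨r, h1, h2, h3, h4⟩, h5⟩ := r
  obtain ⟨u, a, b, c, k1, k2, k3, k4, k5⟩ := Lat.g3 (x := r 0) (y := r 1) (z := r 2)
    ⟨⟨h1 0, h1 1, h1 2⟩, h2, h3, h4, coe_injective ((qip_self r).symm.trans h5)⟩
  obtain ⟨u, hu, rfl⟩ := Z8.rep k1.1
  have := nrm_eq (a := u) (b := sc 2) (c := 1) (by rw [k1.2, ic_one]; simp)
  obtain ⟨e, he, e1⟩ := List.mem_map.mp k2.1
  refine ⟨u, (((F0 u this.1 hu).1).resolve_right (by rw [this.2]; decide)).2, e, he, fun t => ?_⟩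
  rw [e1]
  fin_cases t
  exacts [k3, k4, k5]

end Cfsg.Agent.HJ
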