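/-
The Sylow structure of groups isomorphic to the Hall–Janko group.
-/
import Cfsg.Agent.HJ.Syl

set_option autoImplicit false
set_option maxRecDepth 100000

namespace Cfsg.Agent.HJ

open Subgroup PLoc
open scoped commutatorElement

variable {G : Type*} [Group G] [Finite G]

theorem xs_of {p : ℕ} [hp : Fact p.Prime] {P : Subgroup G} {z : G} (hP : IsPGroup p P) (hz : z ∈ P)
    (oz : orderOf z = p) (h1 : ∀ x ∈ P, x * z = z * x)
    (h2 : ∀ x ∈ P, (∀ y ∈ P, x * y = y * x) → x ∈ zpowers z)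
    (h3 : ∀ x ∈ P, ∀ y ∈ P, x * y * x⁻¹ * y⁻¹ ∈ zpowers z) (h4 : ∀ x ∈ P, x ^ p ∈ zpowers z)
    (h5 : ∃ x ∈ P, ∃ y ∈ P, x * y ≠ y * x) : IsExtraspecial p P := by
  have e1 : center P = (zpowers z).subgroupOf P := by
    refine le_antisymm (fun (x : P) hx => h2 x x.2 fun y hy =>
      (congrArg Subtype.val (mem_center_iff.mp hx ⟨y, hy⟩)).symm) fun x hx => mem_center_iff.mpr fun y => ?_
    obtain ⟨n, e⟩ := mem_zpowers_iff.mp hx
    exact Subtype.ext (show (y : G) * x = x * y from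
      (show z ^ n = x from e) ▸ (Commute.zpow_right (h1 y y.2) n).eq)
  have e2 : Nat.card (center P) = p := by
    rw [e1, Nat.card_congr (subgroupOfEquivOfLe (zpowers_le.mpr hz)).toEquiv, Nat.card_zpowers, oz]
  have e3 : commutator P ≤ center P := e1 ▸ commutator_le.mpr fun x _ y _ => h3 x x.2 y y.2
  have e4 : commutator P = center P := (Core.eq_bot_or_eq_of_card_prime hp.out e2 e3).resolve_left
    fun e => by
      obtain ⟨x, hx, y, hy, ne⟩ := h5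
      have : ⁅(⟨x, hx⟩ : P), (⟨y, hy⟩ : P)⁆ ∈ commutator P :=
        commutator_mem_commutator (mem_top _) (mem_top _)
      rw [e, mem_bot, commutatorElement_eq_one_iff_mul_comm] at this
      exact ne (congrArg Subtype.val this)
  exact ⟨⟨hP, le_antisymm (Core.frattini_le_of_elementary_quotient hp.out _ e3
    fun x => e1 ▸ h4 x x.2) (e4 ▸ commutator_le_frattini hP), e4⟩, e2⟩

theorem f7d : (∀ n ∈ pr T7 L21, (∀ x ∈ g7, n * x = x * n) → n ∈ L7) ∧ L7.length = 7 ^ 1 ∧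
    (pr T7 L21).length = 42 ∧ s7 ∈ pr T7 L21 ∧ t7 ∈ pr T7 L21 ∧ s7 * t7 ≠ t7 * s7 := by
  decide +kernel

theorem IsoΓ.syl7 (h : IsoΓ G) (D : Sylow 7 G) :
    centralizer ((D : Subgroup G) : Set G) = D ∧
      Nat.card (normalizer ((D : Subgroup G) : Set G)) = 42 ∧
      ¬ IsMulCommutative (normalizer ((D : Subgroup G) : Set G)) := by
  obtain ⟨⟨φ, hi, hr⟩, -⟩ := h
  obtain ⟨a1, a2, a3, a4, a5, a6⟩ := f7d
  have : Fact (Nat.Prime 7) := ⟨by norm_num⟩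
  obtain ⟨g, -, e⟩ := (nd7.sylow hi hr a2 (by norm_num)).exists_cj_eq (isSylowOf_top D)
  rw [← e, ← cj_centralizer, ← cj_normalizer, card_cj, nd7.cent hr a1 (by simp) hi, nd7.cardN hi hr]
  refine ⟨rfl, a3, fun hc => a6 ?_⟩
  have := isMulCommutative_cj g⁻¹ hc
  rw [cj_inv_cj] at this
  obtain ⟨x, e'⟩ := pre hr (nd7.n2 _ a4)
  obtain ⟨y, e⟩ := pre hr (nd7.n2 _ a5)
  rw [← e, ← e', ← map_mul, ← map_mul,
    comm_of_mem this ((nd7.memN hr x).mpr (e' ▸ a4)) ((nd7.memN hr y).mpr (e ▸ a5))]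

theorem mem5x : ∀ x ∈ clo g5x, x ∈ L5x := mem_list_of_closed (by decide +kernel) (by decide +kernel)
theorem mem5y : ∀ x ∈ clo g5y, x ∈ L5y := mem_list_of_closed (by decide +kernel) (by decide +kernel)

theorem f5d : (∀ n ∈ pr T15 L20, (∀ x ∈ g5, n * x = x * n) → n ∈ L25) ∧ L25.length = 5 ^ 2 ∧
    (pr T15 L20).length = 300 ∧ (∀ x ∈ g5, ∀ y ∈ g5, x * y = y * x) ∧
    (L5x.Nodup ∧ L5x.length = 5) ∧ (L5y.Nodup ∧ L5y.length = 5) ∧
    (∀ x ∈ L5y, x ∈ L25 ∧ (x = 1 ∨ ∀ i ∈ I15, x * i ≠ i * x)) ∧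
    ∀ x ∈ L25, x = 1 ∨ ∃ n ∈ R5, n * x * n⁻¹ ∈ L5x ∨ n * x * n⁻¹ ∈ L5y := by decide +kernel

theorem IsoΓ.syl5 (h : IsoΓ G) (P : Sylow 5 G) :
    centralizer ((P : Subgroup G) : Set G) = P ∧ Nat.card P = 25 ∧
      Nat.card (normalizer ((P : Subgroup G) : Set G)) = 300 ∧ ∃ X Y : Subgroup G, Nat.card X = 5 ∧
      Nat.card Y = 5 ∧ (∀ g : G, X.map (MulAut.conj g).toMonoidHom ≠ Y) ∧
      ∀ W : Subgroup G, Nat.card W = 5 → ∃ g : G, W.map (MulAut.conj g).toMonoidHom = X ∨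
        W.map (MulAut.conj g).toMonoidHom = Y := by
  obtain ⟨⟨φ, hi, hr⟩, -⟩ := h
  obtain ⟨a1, a2, a3, a4, a5, a6, a7, a8⟩ := f5d
  have : Fact (Nat.Prime 5) := ⟨by norm_num⟩
  have hS := nd5.sylow hi hr a2 (by norm_num)
  obtain ⟨g, -, e⟩ := hS.exists_cj_eq (isSylowOf_top P)
  have c1 : Nat.card ((clo g5x).comap φ) = 5 := (card_of_list hi hr a5.1
    (fun _ => ⟨mem5x _, L5x_mem _⟩) fun l hl => g5_le (clo_le (by simp [mem_clo]) (L5x_mem l hl))).trans a5.2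
  have c2 : Nat.card ((clo g5y).comap φ) = 5 := (card_of_list hi hr a6.1
    (fun _ => ⟨mem5y _, L5y_mem _⟩) fun l hl => g5_le (clo_le (by simp [mem_clo]) (L5y_mem l hl))).trans a6.2
  refine ⟨by rw [← e, ← cj_centralizer, nd5.cent hr a1 a4 hi], ?_,
    by rw [← e, ← cj_normalizer, card_cj, nd5.cardN hi hr, a3], _, _, c1, c2, fun g e => ?_,
    fun W hW => ?_⟩
  · show Nat.card (P : Subgroup G) = 25
    rw [← e, card_cj, nd5.cardP hi hr, a2]; rfl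
  · obtain ⟨x, hx⟩ := pre hr (g5_le (mem_clo (show f1 ∈ g5 by simp)))
    have h1 : g * x * g⁻¹ ∈ (clo g5y).comap φ :=
      e ▸ conj_mem_cj.mpr (show φ x ∈ clo g5x from hx ▸ mem_clo (by simp))
    have h2 := a7 _ (mem5y _ h1)
    rw [map_mul, map_mul, map_inv, hx] at h2
    have h3 : φ g * f1 * (φ g)⁻¹ ≠ 1 := by simpa using f5c.1
    have h4 := cj_comm (g := φ g) f5c.2.1
    exact h2.2.resolve_left h3 _ (f5a' h2.1 h3 (cj315 _ (inG hr g)) h4) h4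
  · obtain ⟨w, h1, h2⟩ := exists_mem_orderOf_eq_prime (H := W) (p := 5) (by norm_num) (by rw [hW])
    obtain ⟨g, -, h3⟩ := hS.exists_cj_le (IsPGroup.of_card (n := 1) hW) le_top
    have h4 := mem25 _ (h3 (conj_mem_cj.mpr h1))
    have w1 : w ≠ 1 := fun e => by simp [e] at h2
    obtain ⟨n, h5, h6⟩ := (a8 _ h4).resolve_left (by simpa [map_eq_one_iff φ hi] using w1)
    obtain ⟨m, rfl⟩ := pre hr (R5_mem n h5)
    have k : ∀ X : Subgroup G, Nat.card X = 5 → m * (g * w * g⁻¹) * m⁻¹ ∈ X → cj (m * g) W = X := by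
      intro X hX hm
      rw [← eq_of_le_of_card_ge (zpowers_le.mpr h1) (by rw [hW, Nat.card_zpowers, h2]), cj_zpowers,
        cj_mul']
      exact eq_of_le_of_card_ge (zpowers_le.mpr hm)
        (by rw [hX, Nat.card_zpowers, orderOf_conj', orderOf_conj', h2])
    rw [← map_inv, ← map_mul, ← map_mul] at h6
    exact ⟨m * g, h6.imp (fun h => k _ c1 (L5x_mem _ h)) fun h => k _ c2 (L5y_mem _ h)⟩

theorem f3d : L27.length = 3 ^ 3 ∧ (pr T3 L108).length = 216 ∧ fixc d0 ≠ fixc e1 := by decide +kernel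

theorem IsoΓ.syl3 (h : IsoΓ G) (P : Sylow 3 G) :
    IsExtraspecial 3 (P : Subgroup G) ∧ Nat.card P = 27 ∧
      Nat.card (normalizer ((P : Subgroup G) : Set G)) = 216 ∧ ∃ a b : G, orderOf a = 3 ∧
      orderOf b = 3 ∧ ¬ IsConj a b ∧ ∀ c : G, orderOf c = 3 → IsConj c a ∨ IsConj c b := by
  obtain ⟨⟨φ, hi, hr⟩, CX⟩ := h
  obtain ⟨a1, a2, a3⟩ := f3d
  obtain ⟨b1, b2, -, -, -, -, b3, b4⟩ := f3c
  have nd := nd3 CX
  have hS := nd.sylow hi hr a1 (by norm_num)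
  obtain ⟨g, -, e⟩ := hS.exists_cj_eq (isSylowOf_top P)
  have m1 : e1 ∈ clo g3 := mem_clo (by simp)
  have m2 : e2 ∈ clo g3 := mem_clo (by simp)
  obtain ⟨d, hd⟩ := pre hr (nd.le (nd.m2 _ b2))
  obtain ⟨x1, h1⟩ := pre hr (nd.le m1)
  obtain ⟨x2, h2⟩ := pre hr (nd.le m2)
  have o3 : ∀ x, φ x ∈ L27 → φ x ≠ 1 → orderOf x = 3 := fun x k1 k2 =>
    orderOf_eq_prime (hi (by rw [map_pow, (f3a _ k1).2.1, map_one])) fun e => k2 (by rw [e, map_one])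
  have od := o3 d (hd ▸ b2) (hd ▸ b1)
  have zp : ∀ x, φ x = 1 ∨ φ x = d0 ∨ φ x = d0⁻¹ → x ∈ zpowers d := by
    rintro x (k | k | k)
    · rw [(map_eq_one_iff φ hi).mp k]; exact one_mem _
    · rw [hi (k.trans hd.symm)]; exact mem_zpowers d
    · rw [hi (k.trans (by rw [map_inv, hd]) : φ x = φ d⁻¹)]; exact inv_mem (mem_zpowers d)
  refine ⟨?_, ?_, by rw [← e, ← cj_normalizer, card_cj, nd.cardN hi hr, a2], d, x1, od,
    o3 x1 (h1 ▸ mem27 _ m1) (h1 ▸ b3), fun hc => a3 ?_, fun c hc => ?_⟩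
  · rw [← e]
    refine Comp.extraspecial_congr ((MulAut.conj g).subgroupMap _) (xs_of hS.isP
      (show φ d ∈ _ from hd ▸ nd.m2 _ b2) od (fun x hx => hi ?_) (fun x hx k => zp x ?_)
      (fun x hx y hy => zp _ ?_) (fun x hx => zp _ (Or.inl ?_))
      ⟨x1, show φ x1 ∈ _ from h1 ▸ m1, x2, show φ x2 ∈ _ from h2 ▸ m2, fun e => b4 ?_⟩)
    · rw [map_mul, map_mul, hd, (f3a _ (mem27 _ hx)).2.2.1]
    · exact (f3a _ (mem27 _ hx)).1 (by rw [← h1, ← map_mul, k x1 (show φ x1 ∈ _ from h1 ▸ m1), map_mul])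
        (by rw [← h2, ← map_mul, k x2 (show φ x2 ∈ _ from h2 ▸ m2), map_mul])
    · simpa using (f3a _ (mem27 _ hx)).2.2.2.2 _ (mem27 _ hy)
    · rw [map_pow, (f3a _ (mem27 _ hx)).2.1]
    · rw [← h1, ← h2, ← map_mul, e, map_mul]
  · show Nat.card (P : Subgroup G) = 27
    rw [← e, card_cj, nd.cardP hi hr, a1]; rfl
  · obtain ⟨n, hn⟩ := isConj_iff.mp hc
    rw [← h1, ← hn, map_mul, map_mul, map_inv, fixc_cj, hd]
  · obtain ⟨g, -, h3⟩ := hS.exists_cj_le (isPGroup_zpowers (x := c) (k := 1)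
      (by rw [pow_one, ← hc, pow_orderOf_eq_one])) le_top
    have h4 := mem27 _ (h3 (conj_mem_cj.mpr (mem_zpowers c)))
    have c1 : c ≠ 1 := fun e => by simp [e] at hc
    obtain ⟨n, h5, h6⟩ := (f3a _ h4).2.2.2.1.resolve_left (by simpa [map_eq_one_iff φ hi] using c1)
    obtain ⟨m, rfl⟩ := pre hr (R3_mem n h5)
    rw [← map_inv, ← map_mul, ← map_mul, ← hd, ← h1, ← cj_mul'] at h6
    exact h6.imp (fun k => isConj_iff.mpr ⟨_, hi k⟩) fun k => isConj_iff.mpr ⟨_, hi k⟩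

end Cfsg.Agent.HJ
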