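/-
Computations in the icosian reflection group.
-/
import Cfsg.Agent.HJ.Ico3
import Cfsg.Agent.HJ.Syl2

set_option autoImplicit false
set_option maxRecDepth 100000

namespace Cfsg.Agent.HJ

open Quaternion Spor Z8 Subgroup

noncomputable section

def mI : M9 := ⟨ebZ 0, ebZ 1, ebZ 2⟩
def mN : M9 := ⟨(ebZ 0).sm (-1), (ebZ 1).sm (-1), (ebZ 2).sm (-1)⟩

theorem vR_ok : ∀ e ∈ vR, okV e.1 e.2.1 ∧ ∀ t, (e.2.2.row t).sm 2 = (rfM e.1).row t := by
  decide +kernel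
theorem WR_ok : ∀ p ∈ WR.zip msG, ∀ t,
    act (tabl (vR.map fun e => e.2.2)) p.1 (ebZ t) = (p.2.row t).sm (4 ^ p.1.length) := by
  decide +kernel
theorem wz_ok : (∃ e ∈ vR, e.1 = wz) ∧ ∀ t, ((tabl msG 8).row t).sm 2 = (rfM wz).row t := by
  decide +kernel
theorem rel_ok : ∀ l ∈ cG1.RL ++ cH.RL,
    (∀ t, act (tabl msG) l (ebZ t) = (mI.row t).sm (4 ^ l.length)) ∨
      ∀ t, act (tabl msG) l (ebZ t) = (mN.row t).sm (4 ^ l.length) := by decide +kernel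
theorem nu_ok : (∀ t, act (tabl msG) [10, 10] (ebZ t) = (mN.row t).sm (4 ^ [10, 10].length)) ∧
    act (tabl msG) [8, 18] (ebZ 0) ≠ act (tabl msG) [18, 8] (ebZ 0) := by decide +kernel
theorem TW_ok : ∀ e ∈ TW, e.2.1.code ∧ S e.2.1 = 4 ∧ N1 e.2.1 = 0 ∧
    (act (tabl msG) e.1 wz).sm 2 = (e.2.2.lm e.2.1).sm (4 ^ e.1.length) := by decide +kernel
theorem TW_T : T315 = TW.map fun e => ev (atm gG) e.1 := by decide +kernel
theorem LU_ok : (∀ u ∈ LU, u.code ∧ S u = 4 ∧ N1 u = 0) ∧ LU.Nodup ∧ LU.length = 120 ∧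
    TW.length = 315 := by decide +kernel
theorem satGH : Sat (cG1.RL ++ cH.RL) gG := satG.append (by decide +kernel)

end

end Cfsg.Agent.HJ
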