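/-
The icosian reflection group modulo its centre is the permutation group on 100 points.
-/
import Cfsg.Agent.HJ.Ico4a

set_option autoImplicit false
set_option maxRecDepth 100000

namespace Cfsg.Agent.HJ

open Quaternion Spor Z8 Subgroup

noncomputable section

theorem exists_gens : ∃ gs : List twoJ2, List.Forall₂ (fun g m => Row g.1 m) gs msG := by
  have : ∀ L : List (V3 × V3 × M9), (∀ e ∈ L, e ∈ vR) → ∃ gs : List twoJ2,
      List.Forall₂ (fun g m => Row g.1 m) gs (L.map fun e => e.2.2) := fun L hL => by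
    induction L with
    | nil => exact ⟨[], .nil⟩
    | cons e L ih =>
      obtain ⟨gs, h⟩ := ih fun e he => hL e (List.mem_cons_of_mem _ he)
      obtain ⟨h1, h2⟩ := vR_ok e (hL e (List.mem_cons_self ..))
      obtain ⟨r, hr⟩ := h1.ex
      exact ⟨⟨rf r, rf_mem r⟩ :: gs, .cons (row_rf hr h2) h⟩
  obtain ⟨gs, h⟩ := this vR fun _ h => h
  refine ⟨WR.map (ev (atm gs)), List.forall₂_map_left_iff.mpr
    (List.forall₂_iff_zip.mpr ⟨rfl, fun hp => row_word h (WR_ok _ hp)⟩)⟩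

def gJ : List twoJ2 := exists_gens.choose
theorem gJ_row : List.Forall₂ (fun g m => Row g.1 m) gJ msG := exists_gens.choose_spec
theorem gJ_len : gJ.length = 11 := gJ_row.length_eq

theorem exists_rz : ∃ r : MV, (2 : ℝ) • r.1.1 = wz.em := by
  obtain ⟨e, h1, h2⟩ := wz_ok.1
  exact h2 ▸ (vR_ok e h1).1.ex

def rz : MV := exists_rz.choose
theorem rz_em : (2 : ℝ) • rz.1.1 = wz.em := exists_rz.choose_spec
theorem gJ_z : (ev (atm gJ) [8]).1 = rf rz := by
  rw [ev_cons, ev_nil, mul_one]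
  exact (row_atm gJ_row 8).ext (atm gJ 8).2 (rf_mem rz) (row_rf rz_em wz_ok.2)

/-- the conjugate of the basic reflection by a word -/
def cw (l : List ℕ) : twoJ2 := ev (atm gJ) l * ev (atm gJ) [8] * (ev (atm gJ) l)⁻¹

theorem orb {e : List ℕ × Z8 × V3} (he : e ∈ TW) :
    ∃ r : MV, r.1.1 = (1 / 2 : ℝ) • e.2.2.em ∧ (cw e.1).1 = rf r := by
  obtain ⟨h1, h2, h3, h4⟩ := TW_ok e he
  have hu := un_of h1 h2 h3
  let r := rz.map (ev (atm gJ) e.1).2
  have k : ∀ t, r.1.1 t = ic e.2.1 * (1 / 2 : ℝ) • e.2.2.em t := fun t => by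
    have k1 := congrFun (act_sound gJ_row e.1 rz_em) t
    have k2 := congrFun (congrArg V3.em h4) t
    rw [em_sm, em_sm, Pi.smul_apply, Pi.smul_apply, ← k1, em_lm, Pi.smul_apply, smul_smul] at k2
    refine smul_right_injective _ (show (4 * 4 ^ e.1.length : ℝ) ≠ 0 by positivity) ?_
    simp only [ic, smul_mul_smul_comm, smul_smul]
    push_cast at k2
    rw [show (4 * 4 ^ e.1.length * (1 / 2 * (1 / 2)) : ℝ) = 4 ^ e.1.length by ring, ← k2]
    congr 1; ring
  have k' : ∀ t, star (ic e.2.1) * r.1.1 t = (1 / 2 : ℝ) • e.2.2.em t := fun t => by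
    rw [k, ← mul_assoc, hu.l, one_mul]
  refine ⟨⟨⟨_, lam_mul hu.star.1 r.1.2⟩, ?_⟩, funext k', ?_⟩
  · rw [qip_mul, qip_mul', r.2, star_star, show (4 : ℍ[ℝ]) = ((4 : ℝ) : ℍ[ℝ]) from rfl,
      coe_commutes, ← mul_assoc, hu.l, one_mul]
  · rw [rf_unit (r := r) hu.star.2 fun _ => rfl, ← conj_rf, ← gJ_z]; rfl

theorem refl_iff {f : Equiv.Perm icoLeech} : IsIcoReflection f ↔ ∃ e ∈ TW, (cw e.1).1 = f := by
  rw [isRefl_iff]
  refine ⟨?_, fun ⟨e, he, h⟩ => (orb he).imp fun r k => h ▸ k.2⟩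
  rintro ⟨r, rfl⟩
  obtain ⟨u, hu, e, he, h⟩ := mv_enum r
  obtain ⟨r', h1, h2⟩ := orb he
  obtain ⟨a, b, c⟩ := LU_ok.1 u hu
  exact ⟨e, he, h2.trans (rf_unit (un_of a b c).2 fun t => by rw [h, h1]; rfl).symm⟩

theorem gJ_top (x : twoJ2) : x ∈ clo gJ := by
  have : twoJ2 ≤ (clo gJ).map twoJ2.subtype := (closure_le _).mpr fun f hf => by
    obtain ⟨e, -, rfl⟩ := refl_iff.mp hf
    exact ⟨_, mul_mem (mul_mem (ev_mem_clo _ _) (ev_mem_clo _ _)) (inv_mem (ev_mem_clo _ _)), rfl⟩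
  obtain ⟨y, h1, h2⟩ := this x.2
  exact Subtype.ext h2 ▸ h1

def nu : twoJ2 := ev (atm gJ) [10, 10]

theorem nu_row : Row nu.1 mN := row_word gJ_row nu_ok.1

theorem nu_app (x : icoLeech) : (nu.1 x).1 = -x.1 := by
  ext1 t
  have h1 := iso nu.2 x (eb t)
  have h2 : (nu.1 (eb t)).1 = fun u => (-1) * (eb t).1 u := by
    refine smul_right_injective _ (two_ne_zero (α := ℝ)) ?_
    beta_reduce
    rw [nu_row t, show mN.row t = (ebZ t).sm (-1) by fin_cases t <;> rfl, em_sm, ← em_eb]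
    ext1 u; simp
  rw [h2, qip_mul', qip_eb, qip_eb] at h1
  refine smul_right_injective _ (two_ne_zero (α := ℝ)) ?_
  simpa [neg_eq_iff_eq_neg] using h1

theorem nu_cent : nu ∈ center twoJ2 := mem_center_iff.mpr fun g =>
  Subtype.ext (Equiv.ext fun x => Subtype.ext (nondeg (g := g) fun v => by
    show qip (g.1 (nu.1 x)).1 _ = qip (nu.1 (g.1 x)).1 _
    rw [iso g.2, nu_app, nu_app, ← neg_one_smul ℝ, ← neg_one_smul ℝ (g.1 x).1, qip_smul, qip_smul,
      iso g.2]))

theorem nu_order : orderOf nu = 2 := orderOf_eq_prime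
  (Subtype.ext (Equiv.ext fun x => Subtype.ext (by
    show (nu.1 (nu.1 x)).1 = x.1
    rw [nu_app, nu_app, neg_neg]))) fun e => by
  have := congrFun (nu_app (eb 0)) 0
  rw [e] at this
  have := congrArg (fun q : ℍ[ℝ] => q.re) this
  simp [eb, two_eq] at this
  norm_num at this

theorem em_inj {v w : V3} (h : v.em = w.em) : v = w := by
  cases v; cases w
  simp only [V3.mk.injEq]
  exact ⟨emb_inj (congrFun h 0), emb_inj (congrFun h 1), emb_inj (congrFun h 2)⟩

theorem exists_phi (N : Subgroup twoJ2) [N.Normal] (h1 : nu ∈ N) (h2 : N ≤ center twoJ2) :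
    ∃ φ : twoJ2 ⧸ N →* Γ, Function.Injective φ ∧ φ.range = clo gG ∧
      ∀ l, φ (ev (atm gJ) l : twoJ2) = ev (atm gG) l := by
  let π := QuotientGroup.mk' N
  have hl : gG.length = (gJ.map π).length := by simp [gJ_len]
  have sat : Sat (cG1.RL ++ cH.RL) (gJ.map π) := fun l hl => by
    rw [← ev_map]
    refine (QuotientGroup.eq_one_iff _).mpr ?_
    rcases rel_ok l hl with e | e
    · rw [show ev (atm gJ) l = 1 from Subtype.ext ((row_word gJ_row e).ext (ev (atm gJ) l).2 (one_mem _) row_one)]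
      exact one_mem _
    · rwa [show ev (atm gJ) l = nu from Subtype.ext ((row_word gJ_row e).ext (ev (atm gJ) l).2 nu.2 nu_row)]
  have s := satGH.zip sat hl
  have fn : Fn (gr gG (gJ.map π)) := fn_of_le (leG1 (s.sub fun _ h => List.mem_append_left _ h)
    (s.ren _ (by decide)) (by simp [gJ_len])) chG_card hl
  have m : ∀ l, (ev (atm gG) l, π (ev (atm gJ) l)) ∈ gr gG (gJ.map π) := fun l =>
    ev_map π gJ l ▸ ev_mem_gr hl l
  have inj : Inj (gr gG (gJ.map π)) := by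
    refine (simpleG (N := (gr gG (gJ.map π)).comap (MonoidHom.inl _ _)) (fun x hx => (gr_mem hx hl).1)
      fun g hg x hx => ?_).resolve_right fun h => nu_ok.2 (em_inj ?_)
    · obtain ⟨y, -, m⟩ := gr_right (gJ.map π) hg hl
      simpa using pm_mul (pm_mul m hx) (pm_inv m)
    · have := mem_center_iff.mp (h2 ((QuotientGroup.eq_one_iff _).mp
        (fn.eq (m [8]) (h (ev_mem_clo gG [8])) rfl))) (ev (atm gJ) [18])
      rw [← act_sound gJ_row _ (em_eb 0), ← act_sound gJ_row _ (em_eb 0),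
        show ev (atm gJ) [8, 18] = ev (atm gJ) [18, 8] by simpa using this.symm]
      rfl
  obtain ⟨φ, k1, k2, k3⟩ := exists_hom_gr fn inj (fun x => by
    obtain ⟨x, rfl⟩ := QuotientGroup.mk'_surjective N x
    exact clo_map π gJ ▸ mem_map_of_mem π (gJ_top x)) hl
  exact ⟨φ, k1, k2, fun l => inj.eq (k3 _) (m l) rfl⟩

theorem center_eq : center twoJ2 = zpowers nu := by
  have hle : zpowers nu ≤ center twoJ2 := zpowers_le.mpr nu_cent
  have : (zpowers nu).Normal := ⟨fun x hx g => by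
    rwa [mem_center_iff.mp (hle hx) g, mul_inv_cancel_right]⟩
  obtain ⟨φ, h1, h2, -⟩ := exists_phi (zpowers nu) (mem_zpowers _) hle
  refine le_antisymm (fun c hc => (QuotientGroup.eq_one_iff _).mp (h1 ?_)) hle
  have k : ∀ x ∈ gG, φ c * x = x * φ c := fun x hx => by
    obtain ⟨y, rfl⟩ := pre h2 (mem_clo hx)
    obtain ⟨y, rfl⟩ := QuotientGroup.mk_surjective y
    rw [← map_mul, ← map_mul, ← QuotientGroup.mk_mul, ← mem_center_iff.mp hc y, QuotientGroup.mk_mul]
  rcases (fH _ (centH _ (inG h2 _) (k z0 (by simp)))).2.1 (k _ (by simp)) (k _ (by simp))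
    (k _ (by simp)) (k _ (by simp)) with e | e
  · rw [e, map_one]
  · exact absurd (e ▸ k g0 (by simp)) (by decide +kernel)

theorem card_center : Nat.card (center twoJ2) = 2 := by rw [center_eq, Nat.card_zpowers, nu_order]

theorem exists_J2 : ∃ φ : J2 →* Γ, Function.Injective φ ∧ φ.range = clo gG ∧
    ∀ l, φ (cw l : twoJ2) = ev (atm gG) l * z0 * (ev (atm gG) l)⁻¹ := by
  obtain ⟨φ, h1, h2, h3⟩ := exists_phi (center twoJ2) nu_cent le_rfl
  refine ⟨φ, h1, h2, fun l => ?_⟩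
  rw [cw, QuotientGroup.mk_mul, QuotientGroup.mk_mul, QuotientGroup.mk_inv, map_mul, map_mul, map_inv,
    h3, h3]
  simp [atm]

theorem card_of_hom {G : Type*} [Group G] {φ : G →* Γ} (hi : Function.Injective φ)
    (hr : φ.range = clo gG) : Nat.card G = 604800 := by
  rw [← cardG, ← hr, Nat.card_congr (MonoidHom.ofInjective hi).toEquiv]

theorem IsoΓ.isoJ2 {G : Type*} [Group G] (h : IsoΓ G) : IsoJ2 G := by
  obtain ⟨⟨φ, h1, h2⟩, -⟩ := h
  obtain ⟨ψ, k1, k2, -⟩ := exists_J2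
  exact ⟨((MonoidHom.ofInjective h1).trans (MulEquiv.subgroupCongr (h2.trans k2.symm))).trans
    (MonoidHom.ofInjective k1).symm⟩

theorem cw_nodup : (TW.map fun e => (cw e.1).1).Nodup := by
  obtain ⟨φ, -, -, h⟩ := exists_J2
  have := nd315
  rw [I315_eq, TW_T, List.map_map] at this
  refine (List.nodup_map_iff_inj_on (List.Nodup.of_map _ this)).mpr fun e he e' he' k =>
    List.inj_on_of_nodup_map this he he' ?_
  simp only [Function.comp, ← h, Subtype.ext k]

theorem s1621 : {r : Fin 3 → ℍ[ℝ] | r ∈ icoLeech ∧ qip r r = 4}.ncard = 37800 ∧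
    {f : Equiv.Perm icoLeech | IsIcoReflection f}.ncard = 315 := by
  classical
  obtain ⟨a1, a2, a3, a4⟩ := LU_ok
  have nd := List.Nodup.of_map _ cw_nodup
  constructor
  · have : {r : Fin 3 → ℍ[ℝ] | r ∈ icoLeech ∧ qip r r = 4} = (fun p : Z8 × List ℕ × Z8 × V3 =>
        fun t => ic p.1 * (1 / 2 : ℝ) • p.2.2.2.em t) '' ↑(LU.toFinset ×ˢ TW.toFinset) := by
      ext r
      simp only [Set.mem_setOf_eq, Set.mem_image, Finset.mem_coe, Finset.mem_product, List.mem_toFinset]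
      refine ⟨fun h => ?_, ?_⟩
      · obtain ⟨u, hu, e, he, k⟩ := mv_enum ⟨⟨r, h.1⟩, h.2⟩
        exact ⟨(u, e), ⟨hu, he⟩, (funext k).symm⟩
      · rintro ⟨⟨u, e⟩, ⟨hu, he⟩, rfl⟩
        obtain ⟨r, h1, -⟩ := orb he
        obtain ⟨a, b, c⟩ := a1 u hu
        have hu := un_of a b c
        rw [show (fun t => ic u * (1 / 2 : ℝ) • e.2.2.em t) = fun t => ic u * r.1.1 t by rw [h1]; rfl]
        exact ⟨lam_mul hu.1 r.1.2, by
          rw [qip_mul, qip_mul', r.2, show (4 : ℍ[ℝ]) = ((4 : ℝ) : ℍ[ℝ]) from rfl, coe_commutes,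
            ← mul_assoc, self_mul_star, hu.2, Quaternion.coe_one, one_mul]⟩
    rw [this, Set.ncard_image_of_injOn, Set.ncard_coe_finset, Finset.card_product,
      List.toFinset_card_of_nodup a2, List.toFinset_card_of_nodup nd, a3, a4]
    rintro ⟨u, e⟩ h ⟨u', e'⟩ h' k
    simp only [Finset.mem_coe, Finset.mem_product, List.mem_toFinset] at h h'
    obtain ⟨r, h1, h2⟩ := orb h.2
    obtain ⟨r', h3, h4⟩ := orb h'.2
    obtain ⟨a, b, c⟩ := a1 u h.1
    obtain ⟨a', b', c'⟩ := a1 u' h'.1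
    have hu := un_of a b c
    have k1 : ∀ t, ic u * r.1.1 t = ic u' * r'.1.1 t := fun t => by rw [h1, h3]; exact congrFun k t
    obtain rfl : e = e' := List.inj_on_of_nodup_map cw_nodup h.2 h'.2 (by
      rw [h2, h4]
      refine rf_unit (u := star (ic u) * ic u') (by rw [map_mul, hu.star.2, (un_of a' b' c').2, one_mul])
        fun t => by rw [mul_assoc, ← k1, ← mul_assoc, hu.l, one_mul])
    have k2 := congrArg (qip · r.1.1) (funext k1)
    rw [h3, ← h1] at k2
    simp only [qip_mul, r.2] at k2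
    rw [ic_inj (mul_right_cancel₀ (fun e => by
      simpa using coe_injective (show ((4 : ℝ) : ℍ[ℝ]) = (0 : ℝ) from e)) k2)]
  · have : {f : Equiv.Perm icoLeech | IsIcoReflection f} = ↑(TW.map fun e => (cw e.1).1).toFinset := by
      ext f; simp [refl_iff]
    rw [this, Set.ncard_coe_finset, List.toFinset_card_of_nodup cw_nodup, List.length_map, a4]

end

end Cfsg.Agent.HJ
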