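/-
Order bounds from the coset enumerations.
-/
import Cfsg.Agent.HJ.Abs1
import Cfsg.Agent.HJ.Cert2
import Cfsg.Agent.HJ.Cert3

set_option autoImplicit false

namespace Cfsg.Agent.HJ

variable {G : Type*} [Group G]

/-- a sublist of generators -/
def sel (gs : List G) (σ : List ℕ) : List G := σ.map fun j => gs.getD j 1

def ren (σ : List ℕ) (l : List ℕ) : List ℕ := l.map fun y => 2 * σ.getD (y / 2) 0 + y % 2

theorem ev_ren (gs : List G) (σ : List ℕ) {l : List ℕ} (h : ∀ y ∈ l, y / 2 < σ.length) :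
    ev (atm (sel gs σ)) l = ev (atm gs) (ren σ l) := by
  induction l with
  | nil => rfl
  | cons y l ih =>
    have h1 := h y (List.mem_cons_self ..)
    have h2 : (2 * σ.getD (y / 2) 0 + y % 2) / 2 = σ.getD (y / 2) 0 := by omega
    have h3 : (2 * σ.getD (y / 2) 0 + y % 2) % 2 = y % 2 := by omega
    have h4 : (sel gs σ).getD (y / 2) 1 = gs.getD (σ.getD (y / 2) 0) 1 := by
      simp [sel, h1]
    rw [ren, List.map_cons, ev_cons, ev_cons, ih fun z hz => h z (List.mem_cons_of_mem _ hz)]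
    simp only [atm, h2, h3, h4, ren]

theorem Sat.ren {RL RL' : List (List ℕ)} {gs : List G} (h : Sat RL gs) (σ : List ℕ)
    (hc : ∀ l ∈ RL', (∀ y ∈ l, y / 2 < σ.length) ∧ ren σ l ∈ RL) : Sat RL' (sel gs σ) :=
  fun l hl => by rw [ev_ren gs σ (hc l hl).1, h _ (hc l hl).2]

theorem base_sel (gs : List G) (σ : List ℕ) :
    ∀ w ∈ σ.map fun j => [2 * j], ev (atm gs) w ∈ clo (sel gs σ) := by
  intro w hw
  obtain ⟨j, hj, rfl⟩ := List.mem_map.mp hw
  have : ev (atm gs) [2 * j] = gs.getD j 1 := by simp [atm]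
  rw [this]
  exact mem_clo (List.mem_map.mpr ⟨j, hj, rfl⟩)

theorem le_triv {P : TP} {a : ℕ → G} (h : P.BW = []) : ∀ w ∈ P.BW, ev a w ∈ (⊥ : Subgroup G) := by
  simp [h]

theorem leQ {gs : List G} (h : Sat cQ.RL gs) (hn : gs.length = 5 := by rfl) : Le (clo gs) 32 :=
  cQ.le hn h (le_triv rfl) le_bot

theorem leH {gs : List G} (h : Sat cH.RL gs) (hn : gs.length = 8 := by rfl) : Le (clo gs) 1920 :=
  cH.le hn h (base_sel gs [5, 6, 7])
    (cA5.le rfl (h.ren [5, 6, 7] (by decide)) (le_triv rfl) le_bot)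

theorem leM {gs : List G} (h : Sat cM.RL gs) (hn : gs.length = 8 := by rfl) : Le (clo gs) 1152 :=
  cM.le hn h (base_sel gs [5, 6]) (cA4.le rfl (h.ren [5, 6] (by decide)) (le_triv rfl) le_bot)

theorem leD {gs : List G} (h : Sat cD.RL gs) (hn : gs.length = 4 := by rfl) : Le (clo gs) 24 :=
  cD.le hn h (le_triv rfl) le_bot

theorem leX {gs : List G} (h : Sat cX.RL gs) (hn : gs.length = 6 := by rfl) : Le (clo gs) 1080 :=
  cX.le hn h (base_sel gs [0, 1, 2, 3]) (leD (h.ren [0, 1, 2, 3] (by decide)))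

theorem leG1 {gs : List G} (h : Sat cG1.RL gs) (h' : Sat cH.RL (sel gs [0, 1, 2, 3, 4, 5, 6, 7]))
    (hn : gs.length = 11 := by rfl) : Le (clo gs) 604800 :=
  cG1.le hn h (base_sel gs [0, 1, 2, 3, 4, 5, 6, 7]) (leH h')

theorem leG2 {gs : List G} (h : Sat cG2.RL gs) (h' : Sat cH.RL (sel gs [0, 1, 2, 3, 4, 5, 6, 7]))
    (hn : gs.length = 11 := by rfl) : Le (clo gs) 1920 :=
  cG2.le hn h (base_sel gs [0, 1, 2, 3, 4, 5, 6, 7]) (leH h')

theorem list_mem {gs L : List G} {W : List (List ℕ)} (h : L = W.map (ev (atm gs))) :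
    ∀ t ∈ L, t ∈ clo gs := by
  subst h
  intro t ht
  obtain ⟨w, -, rfl⟩ := List.mem_map.mp ht
  exact ev_mem_clo gs w

theorem chain_mem {gs : List G} {L : List (ℕ × List G)} {W : List (List (List ℕ))}
    (h : L.map Prod.snd = W.map (List.map (ev (atm gs)))) : ∀ T ∈ L, ∀ t ∈ T.2, t ∈ clo gs := by
  intro T hT
  have : T.2 ∈ W.map (List.map (ev (atm gs))) := h ▸ List.mem_map_of_mem hT
  obtain ⟨w, -, e⟩ := List.mem_map.mp this
  exact list_mem e.symm

/-- relators describing an action -/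
theorem Sat.act {Γ : Type*} [Group Γ] {Δ : Subgroup (Γ × G)} (hf : Fn Δ) {xs : List Γ}
    {ys : List G} {S J : List ℕ} (hS : AllM Δ xs ys S)
    (hJ : AllM (Subgroup.normalizer (Δ : Set (Γ × G))) xs ys J) {RL : List (List ℕ)}
    (hc : ∀ l ∈ RL, l.getD 0 0 / 2 ∈ J ∧ l.getD 1 0 / 2 ∈ S ∧ l.getD 0 0 % 2 = 0 ∧
      l = l.getD 0 0 :: l.getD 1 0 :: (l.getD 0 0 + 1) :: l.drop 3 ∧ ∀ y ∈ l.drop 3, y / 2 ∈ S)
    (hx : Sat RL xs) : Sat RL ys := by
  intro l hl
  obtain ⟨h1, h2, h3, h4, h5⟩ := hc l hl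
  refine hf.eq ?_ pm_one (hx l hl)
  generalize l.getD 0 0 = j at *
  generalize l.getD 1 0 = i at *
  generalize l.drop 3 = w at *
  subst h4
  have m1 := hJ.ev (l := [j]) (by simpa using h1)
  have m2 := hS.ev (l := [i]) (by simpa using h2)
  have m3 := hS.ev h5
  have e1 : (j + 1) / 2 = j / 2 := by omega
  have e2 : ¬ (j + 1) % 2 = 0 := by omega
  have m4 := Δ.mul_mem ((Subgroup.mem_normalizer_iff.mp m1 _).mp m2) m3
  simpa [atm, h3, e1, e2, mul_assoc] using m4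

end Cfsg.Agent.HJ
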