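import Cfsg.Agent.HJ.TC

set_option autoImplicit false
set_option maxRecDepth 100000

namespace Cfsg.Agent.HJ

namespace cZ

def R1 : List (List ℕ) := [[0, 0, 0, 0, 0, 0, 0, 0, 0, 0, 0, 0, 0, 0, 0]]
def RL : List (List ℕ) := R1
def P : TP := ⟨5, 1, 0, [[1, 1, 1, 1, 1, 1, 1, 1, 1, 1, 1, 1, 1, 1, 1]], []⟩
theorem ok : P.ok RL = true := by decide +kernel
def S1 : List ℕ := [0, 8, 524288, 1048584, 1572864, 2097160, 2621440, 3145736, 3670016, 4194312, 4718592, 5242888, 5767168, 6291464, 6291465]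
def T1 : ℕ := 0x7340c781eb029c06a408601670194049404400e3008c02840120062
theorem r1 : P.runTo S1 0 1 T1 15 = true := by decide +kernel
def live : List ℕ := [0, 1, 2, 3, 4, 5, 6, 7, 8, 9, 10, 11, 12, 13, 14]
theorem fin : P.fin T1 15 live = true := by decide +kernel
theorem st {G : Type*} [Group G] {gs : List G} (hn : gs.length = 1) (hR : Sat RL gs) {K : Subgroup G}
    (hB : ∀ w ∈ P.BW, ev (atm gs) w ∈ K) : St P (atm gs) K T1 15 :=
  ((Ctx.of ok hn hR hB).init.run r1)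
theorem le {G : Type*} [Group G] {gs : List G} (hn : gs.length = 1) (hR : Sat RL gs) {K : Subgroup G}
    (hB : ∀ w ∈ P.BW, ev (atm gs) w ∈ K) {M : ℕ} (hK : Le K M) : Le (clo gs) (15 * M) :=
  (st hn hR hB).le hn fin hK

end cZ
namespace cB

def R1 : List (List ℕ) := [[0, 0], [2, 2, 2, 2, 2, 2, 2, 2, 2, 2, 2, 2, 2, 2, 2], [0, 2, 0, 3, 0, 2, 0, 3], [0, 2, 0, 3, 2, 2, 2, 2, 0, 3, 3, 3, 3]]
def RL : List (List ℕ) := R1
def P : TP := ⟨5, 2, 1, [[0, 2, 0, 3, 0, 2, 0, 3], [3, 3, 3, 2, 0, 3, 0, 2, 2, 2, 2, 0, 3], [3, 2, 2, 2, 2, 0, 3, 3, 3, 3, 0, 2, 0], [3, 2], [3, 3, 0, 2, 0, 3, 2, 2, 2, 2, 0, 3, 3], [0, 3, 3, 3, 3, 0, 2, 0, 3, 2, 2, 2, 2], [0, 3, 0, 2, 0, 3, 0, 2], [3, 0, 2, 0, 3, 0, 2, 0], [3, 3, 3, 3, 2, 0, 3, 0, 2, 2, 2, 2, 0]], [[2]]⟩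
theorem ok : P.ok RL = true := by decide +kernel
def S1 : List ℕ := [5, 0, 524304, 524312, 1048576, 1048592, 1572864, 1572873, 1572888, 1573385, 2621440, 2621456, 3145752, 3670016, 4194320, 4194328, 4195354, 6292993, 4196361, 4718592, 4721161, 5242880, 5245961, 5767192, 5770761, 5771273]
def T1 : ℕ := 0x8300e03e20581500280c4822b48000045c04012704006781e072c06014806016501003501203a0030204038046014041802008402
theorem r1 : P.runTo S1 0 1 T1 17 = true := by decide +kernel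
def live : List ℕ := [0, 1, 2, 3, 4, 5, 6, 7, 8, 9, 10, 11, 13, 14, 15, 16]
theorem fin : P.fin T1 17 live = true := by decide +kernel
theorem st {G : Type*} [Group G] {gs : List G} (hn : gs.length = 2) (hR : Sat RL gs) {K : Subgroup G}
    (hB : ∀ w ∈ P.BW, ev (atm gs) w ∈ K) : St P (atm gs) K T1 17 :=
  ((Ctx.of ok hn hR hB).init.run r1)
theorem le {G : Type*} [Group G] {gs : List G} (hn : gs.length = 2) (hR : Sat RL gs) {K : Subgroup G}
    (hB : ∀ w ∈ P.BW, ev (atm gs) w ∈ K) {M : ℕ} (hK : Le K M) : Le (clo gs) (16 * M) :=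
  (st hn hR hB).le hn fin hK

end cB
namespace cS

def R1 : List (List ℕ) := [[0, 0], [4, 4, 4, 4, 4, 4, 4, 4, 4, 4, 4, 4, 4, 4, 4], [0, 4, 0, 5, 0, 4, 0, 5], [0, 4, 0, 5, 4, 4, 4, 4, 0, 5, 5, 5, 5], [2, 2], [2, 4, 2, 4], [2, 0, 2, 0, 2, 0]]
def RL : List (List ℕ) := R1
def P : TP := ⟨5, 3, 3, [[2, 5, 2, 5], [5, 2, 5, 2], [5, 4, 4, 4, 4, 0, 5, 5, 5, 5, 0, 4, 0], [4, 2, 4, 2], [2, 4, 2, 4], [0, 2, 0, 2, 0, 2], [0, 4, 0, 5, 0, 4, 0, 5], [5, 5, 5, 4, 0, 5, 0, 4, 4, 4, 4, 0, 5], [2, 0, 2, 0, 2, 0], [5, 4], [5, 5, 0, 4, 0, 5, 4, 4, 4, 4, 0, 5, 5], [4, 0, 5, 0, 4, 0, 5, 0], [5, 0, 4, 0, 5, 0, 4, 0]], [[0], [4]]⟩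
theorem ok : P.ok RL = true := by decide +kernel
def S1 : List ℕ := [5, 517, 16, 2057, 524288, 526857, 1048608, 1048616, 1049097, 1572864, 1572896, 2097152, 2100233, 2097192, 2097673, 2100745, 2621456, 2621449, 3145728, 3670032, 3670025, 3674121, 3670056, 4194304, 5242896, 5242912, 5242920, 5243930, 7868929, 5248009, 5767200, 5768713, 5772809, 8912921, 7346233, 7341073, 7341577]
def T1 : ℕ := 0xc781a0681cb0380f6ac00000009380b0440f88220481680481202a40401408b40f01c07600c0600c501c0e034c0600a02280902c0848140201230100800ce0280c02900300802100201802100801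
theorem r1 : P.runTo S1 0 1 T1 18 = true := by decide +kernel
def live : List ℕ := [0, 1, 2, 3, 4, 5, 6, 7, 8, 9, 10, 11, 12, 13, 14, 16, 17]
theorem fin : P.fin T1 18 live = true := by decide +kernel
theorem st {G : Type*} [Group G] {gs : List G} (hn : gs.length = 3) (hR : Sat RL gs) {K : Subgroup G}
    (hB : ∀ w ∈ P.BW, ev (atm gs) w ∈ K) : St P (atm gs) K T1 18 :=
  ((Ctx.of ok hn hR hB).init.run r1)
theorem le {G : Type*} [Group G] {gs : List G} (hn : gs.length = 3) (hR : Sat RL gs) {K : Subgroup G}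
    (hB : ∀ w ∈ P.BW, ev (atm gs) w ∈ K) {M : ℕ} (hK : Le K M) : Le (clo gs) (17 * M) :=
  (st hn hR hB).le hn fin hK

end cS
end Cfsg.Agent.HJ
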