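/-
Small permutation models used for groups of `J₃` type.
-/
import Cfsg.Agent.HJ.Bnd
import Cfsg.Agent.HJ.Cert5

set_option autoImplicit false
set_option maxRecDepth 100000

namespace Cfsg.Agent.HJ

instance fact16 : Fact (16 ≤ 2 ^ 4) := ⟨by norm_num⟩
instance fact9 : Fact (9 ≤ 2 ^ 4) := ⟨by norm_num⟩
instance fact6 : Fact (6 ≤ 2 ^ 3) := ⟨by norm_num⟩

abbrev Γa : Type := PC 4 16
abbrev Γb : Type := PC 4 9
abbrev Γc : Type := PC 3 6

theorem leE {G : Type*} [Group G] {gs : List G} (h : Sat cE.RL gs) (hn : gs.length = 4 := by rfl) :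
    Le (clo gs) 16 := cE.le hn h (le_triv rfl) le_bot
theorem leY {G : Type*} [Group G] {gs : List G} (h : Sat cY.RL gs) (hn : gs.length = 6 := by rfl) :
    Le (clo gs) 1080 :=
  cY.le hn h (base_sel gs [0, 1, 2, 3]) (leD (h.ren [0, 1, 2, 3] (by decide)))

@[irreducible] noncomputable def z₁ : Γa := PC.of 0xefcdab8967452301
@[irreducible] noncomputable def q₁ : Γa := PC.of 0xdcfe98ba54761032
@[irreducible] noncomputable def a₁ : Γa := PC.of 0xba98fedc32107654
@[irreducible] noncomputable def c₁ : Γa := PC.of 0x76543210fedcba98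
@[irreducible] noncomputable def d₁ : Γa := PC.of 0x7654fedcba983210
@[irreducible] noncomputable def y₁ : Γa := PC.of 0xdfec9ba857641320
@[irreducible] noncomputable def w₁ : Γa := PC.of 0xcdef98ba67453210
@[irreducible] noncomputable def k₁ : Γa := PC.of 0xfb73ea62d951c840
@[irreducible] noncomputable def l₁ : Γa := PC.of 0xae62bf739d518c40
@[irreducible] noncomputable def q₂ : Γb := PC.of 0x876452310
@[irreducible] noncomputable def p₂ : Γb := PC.of 0x876345201
@[irreducible] noncomputable def z₂ : Γb := PC.of 0x876325410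
@[irreducible] noncomputable def d₂ : Γb := PC.of 0x687543210
@[irreducible] noncomputable def g₂ : Γb := PC.of 0x876534201
@[irreducible] noncomputable def j₂ : Γb := PC.of 0x876345120
noncomputable abbrev gE1 : List Γa := [z₁, q₁, a₁, c₁]
noncomputable abbrev gD2 : List Γb := [q₂, p₂, z₂, d₂]
noncomputable abbrev gY : List Γb := [q₂, p₂, z₂, d₂, g₂, j₂]
theorem satE1 : Sat cE.RL gE1 := by decide +kernel
theorem satD2 : Sat cD.RL gD2 := by decide +kernel
theorem satY : Sat cY.RL gY := by decide +kernel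
@[irreducible] noncomputable def chE1 : List (ℕ × List Γa) := [(0, [0xfedcba9876543210, 0xefcdab8967452301, 0xdcfe98ba54761032, 0xba98fedc32107654, 0x76543210fedcba98, 0xcdef89ab45670123, 0xab89efcd23016745, 0x67452301efcdab89, 0x98badcfe10325476, 0x54761032dcfe98ba, 0x32107654ba98fedc, 0x89abcdef01234567, 0x45670123cdef89ab, 0x23016745ab89efcd, 0x1032547698badcfe, 0x123456789abcdef].map PC.of)]
theorem chE1_mem : ∀ T ∈ chE1, ∀ t ∈ T.2, t ∈ clo gE1 :=
  chain_mem (W := [[[], [0], [2], [4], [6], [0, 2], [0, 4], [0, 6], [2, 4], [2, 6], [4, 6], [0, 2, 4], [0, 2, 6], [0, 4, 6], [2, 4, 6], [0, 2, 4, 6]]]) (by decide +kernel)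
theorem chE1_ok : PC.chainOk chE1 = true := by decide +kernel
theorem chE1_len : PC.clen chE1 = 16 := by decide +kernel
theorem chE1_card : 16 ≤ Nat.card (clo gE1) :=
  chE1_len.symm.le.trans (PC.le_card chE1_ok chE1_mem)
@[irreducible] noncomputable def chD2 : List (ℕ × List Γb) := [(0, [0x876543210, 0x876345201].map PC.of), (6, [0x876543210, 0x687543210, 0x768543210].map PC.of), (2, [0x876543210, 0x876452310, 0x876325410, 0x876234510].map PC.of)]
theorem chD2_mem : ∀ T ∈ chD2, ∀ t ∈ T.2, t ∈ clo gD2 :=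
  chain_mem (W := [[[], [2]], [[], [6], [7]], [[], [0], [4], [0, 4]]]) (by decide +kernel)
theorem chD2_ok : PC.chainOk chD2 = true := by decide +kernel
theorem chD2_len : PC.clen chD2 = 24 := by decide +kernel
theorem chD2_card : 24 ≤ Nat.card (clo gD2) :=
  chD2_len.symm.le.trans (PC.le_card chD2_ok chD2_mem)
@[irreducible] noncomputable def chY : List (ℕ × List Γb) := [(6, [0x876543210, 0x687543210, 0x768543210].map PC.of), (0, [0x876543210, 0x876345201, 0x876543102, 0x876452103, 0x876325104, 0x876234105].map PC.of), (1, [0x876543210, 0x876345120, 0x876254130, 0x876523140, 0x876432150].map PC.of), (2, [0x876543210, 0x876452310, 0x876325410, 0x876234510].map PC.of), (3, [0x876543210, 0x876354210, 0x876435210].map PC.of)]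
theorem chY_mem : ∀ T ∈ chY, ∀ t ∈ T.2, t ∈ clo gY :=
  chain_mem (W := [[[], [6], [7]], [[], [2], [10, 2], [0, 10, 2], [4, 10, 2], [0, 4, 10, 2]], [[], [10], [0, 10], [4, 10], [0, 4, 10]], [[], [0], [4], [0, 4]], [[], [2, 8], [8, 2]]]) (by decide +kernel)
theorem chY_ok : PC.chainOk chY = true := by decide +kernel
theorem chY_len : PC.clen chY = 1080 := by decide +kernel
theorem chY_card : 1080 ≤ Nat.card (clo gY) :=
  chY_len.symm.le.trans (PC.le_card chY_ok chY_mem)
@[irreducible] noncomputable def chS6 : List (ℕ × List Γc) := [(0, [0x2c688, 0x2c681, 0x23445, 0x58ca, 0x1a22c, 0x8b13].map PC.of), (1, [0x2c688, 0xd8d0, 0x23468, 0x11b18, 0x1a360].map PC.of), (2, [0x2c688, 0x158c8, 0x23548, 0x2b508].map PC.of), (3, [0x2c688, 0x2b888, 0x23a88].map PC.of), (4, [0x2c688, 0x25688].map PC.of)]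
theorem chS6_ok : PC.chainOk chS6 = true := by decide +kernel
theorem chS6_len : PC.clen chS6 = 720 := by decide +kernel
@[irreducible] noncomputable def LD2 : List Γb := [0x876543210, 0x876452310, 0x876345201, 0x876325410, 0x687543210, 0x768543210, 0x876254301, 0x876234510, 0x687452310, 0x768452310, 0x876432501, 0x876523401, 0x687345201, 0x768345201, 0x687325410, 0x768325410, 0x687254301, 0x768254301, 0x687234510, 0x768234510, 0x687432501, 0x768432501, 0x687523401, 0x768523401].map PC.of
theorem LD2_mem : ∀ t ∈ LD2, t ∈ clo gD2 :=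
  list_mem (W := [[], [0], [2], [4], [6], [7], [0, 2], [0, 4], [0, 6], [0, 7], [2, 0], [2, 4], [2, 6], [2, 7], [4, 6], [4, 7], [0, 2, 6], [0, 2, 7], [0, 4, 6], [0, 4, 7], [2, 0, 6], [2, 0, 7], [2, 4, 6], [2, 4, 7]]) (by decide +kernel)
theorem enumY : PC.Enum (clo gY) chY :=
  PC.Enum.of chY_ok chY_mem ((leY satY).2.trans chY_len.symm.le)

end Cfsg.Agent.HJ
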