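/-
The involution centraliser and the rank 3 action of the Hall–Janko group.
-/
import Cfsg.Agent.HJ.Ico4
import Cfsg.Agent.HJ.Syl2

set_option autoImplicit false
set_option maxRecDepth 100000

namespace Cfsg.Agent.HJ

open Subgroup

def gA5 : List (alternatingGroup (Fin 5)) :=
  [⟨Equiv.swap 0 1 * Equiv.swap 2 3, by simp⟩, ⟨Equiv.swap 0 1 * Equiv.swap 3 4, by simp⟩,
    ⟨Equiv.swap 0 1 * Equiv.swap 1 2, by simp⟩]

def WA5 : List (List ℕ) := [[], [0], [2], [4], [0, 2], [0, 4], [2, 0], [2, 4], [4, 0], [4, 2], [4, 4], [0, 2, 0], [0, 2, 4], [0, 4, 0], [0, 4, 2], [0, 4, 4], [2, 0, 4], [2, 4, 0], [4, 0, 2], [4, 0, 4], [4, 2, 0], [4, 4, 0], [0, 2, 0, 4], [0, 2, 4, 0], [0, 4, 0, 2], [0, 4, 2, 0], [2, 0, 4, 0], [2, 0, 4, 2], [2, 0, 4, 4], [2, 4, 0, 2], [2, 4, 0, 4], [4, 0, 2, 0], [4, 0, 2, 4], [4, 0, 4, 2], [4, 0, 4, 4], [4, 2, 0, 4], [4, 4, 0, 2], [4, 4, 0, 4], [0, 2, 0, 4, 0], [0, 2, 4, 0, 2], [0, 2, 4,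 0, 4], [0, 4, 0, 2, 0], [0, 4, 0, 2, 4], [0, 4, 2, 0, 4], [2, 0, 4, 0, 2], [2, 4, 0, 2, 4], [2, 4, 0, 4, 2], [2, 4, 0, 4, 4], [4, 0, 2, 4, 0], [4, 2, 0, 4, 2], [0, 2, 0, 4, 0, 2], [0, 2, 4, 0, 2, 4], [0, 2, 4, 0, 4, 2], [0, 2, 4, 0, 4, 4], [0, 4, 0, 2, 4, 0], [0, 4, 2, 0, 4, 2], [2, 4, 0, 2, 4, 0], [4, 0, 2, 4, 0, 4], [0, 2, 4, 0, 2, 4, 0], [0, 4, 0, 2, 4, 0, 4]]

theorem satA5 : Sat cA5.RL gA5 := by decide +kernel

theorem cardA5 : 60 ≤ Nat.card (clo gA5) := by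
  have := card_ge (K := clo gA5) (C := ⊥) bot_le (fun t => (t.1 0, t.1 1, t.1 2))
    (fun t c h => by rw [mem_bot.mp h, mul_one]) (T := WA5.map (ev (atm gA5))) (list_mem rfl)
    (by decide +kernel)
  simpa [WA5] using this

/-- a group of order 60 generated by three elements satisfying the relations is `A₅` -/
theorem equivA5 {L : Type*} [Group L] {gs : List L} (h : Sat cA5.RL gs) (hl : gs.length = 3)
    (ht : clo gs = ⊤) (hc : Nat.card L = 60) : Nonempty (L ≃* alternatingGroup (Fin 5)) := by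
  have hl' : gA5.length = gs.length := hl.symm
  have le : Le (gr gA5 gs) 60 :=
    cA5.le (by simp [gA5, hl]) (satA5.zip h hl') (le_triv rfl) le_bot
  obtain ⟨e, -⟩ := exists_equiv_gr (fn_of_le le cardA5 hl') (inj_of_le le (by simp [ht, hc]) hl') hl'
  have h1 : clo gA5 = ⊤ := (card_eq_iff_eq_top _).mp (le_antisymm (card_le_card_group _) (by
    refine le_trans (le_of_eq ?_) cardA5
    have := two_mul_nat_card_alternatingGroup (α := Fin 5)
    rw [Nat.card_perm, Nat.card_fin] at this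
    simp only [Nat.factorial] at this
    omega))
  exact ⟨(topEquiv.symm.trans ((MulEquiv.subgroupCongr ht.symm).trans e.symm)).trans
    ((MulEquiv.subgroupCongr h1).trans topEquiv)⟩

theorem fQ3 : LQ.Nodup ∧ LQ.length = 32 ∧ z0 * z0 = 1 ∧ q0 * r0 ≠ r0 * q0 ∧ ∀ x ∈ LQ,
    (x * x = 1 ∨ x * x = z0) ∧ ∀ y ∈ LQ, x * y * x⁻¹ * y⁻¹ = 1 ∨ x * y * x⁻¹ * y⁻¹ = z0 := by
  decide +kernel

variable {G : Type*} [Group G] {φ : G →* Γ} (hi : Function.Injective φ) (hr : φ.range = clo gG)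
include hi hr

theorem cent_struct {x : G} (hx : φ x = z0) : ∃ (Q : Subgroup (centralizer ({x} : Set G)))
    (_ : Q.Normal), Nat.card Q = 32 ∧ IsExtraspecial 2 Q ∧
      Nonempty (centralizer ({x} : Set G) ⧸ Q ≃* alternatingGroup (Fin 5)) := by
  have : Finite G := .of_injective φ hi
  obtain ⟨a1, a2, a3, a4, a5⟩ := fQ3
  let ψ := φ.comp (centralizer ({x} : Set G)).subtype
  have pi : Function.Injective ψ := hi.comp Subtype.val_injective
  have pr : ψ.range = clo gH := by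
    ext y
    refine ⟨?_, fun h => ?_⟩
    · rintro ⟨c, rfl⟩
      exact centH _ (inG hr _) (by
        rw [← hx]; exact (map_mul φ ..).symm.trans
          ((congrArg φ (mem_centralizer_singleton_iff.mp c.2)).trans (map_mul φ ..)))
    · obtain ⟨c, rfl⟩ := pre hr (H_le h)
      exact ⟨⟨c, mem_centralizer_singleton_iff.mpr (hi (by rw [map_mul, map_mul, hx, zH _ h]))⟩, rfl⟩
  have ex : ∀ y ∈ gH, ∃ c, ψ c = y := fun y hy => by
    have := mem_clo hy; rwa [← pr] at this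
  have QH : clo gQ ≤ clo gH := clo_le fun y hy => mem_clo (by simp at hy ⊢; tauto)
  let Q := (clo gQ).comap ψ
  have hn : Q.Normal := ⟨fun y hy g => by
    simpa [Q] using (mem_normalizer_iff.mp (normQ (pr ▸ ⟨g, rfl⟩ : ψ g ∈ clo gH)) _).mp hy⟩
  have cQ : Nat.card Q = 32 := by
    rw [← a2]
    exact card_of_list (φ := φ) hi hr (S := Q.map (centralizer ({x} : Set G)).subtype) a1
      (fun y => ⟨by rintro ⟨y, h, rfl⟩; exact memQ _ h, fun h => by
        obtain ⟨c, hc⟩ : φ y ∈ ψ.range := pr ▸ QH (LQ_mem _ h)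
        exact ⟨c, (show ψ c ∈ clo gQ from hc ▸ LQ_mem _ h), hi hc⟩⟩)
      (fun l h => H_le (QH (LQ_mem l h))) ▸ (card_map_of_injective Subtype.val_injective).symm
  obtain ⟨z, hz⟩ := ex z0 (by simp)
  have zp : ∀ y, ψ y = 1 ∨ ψ y = z0 → y ∈ zpowers z := by
    rintro y (e | e)
    · rw [pi (e.trans (map_one ψ).symm)]; exact one_mem _
    · rw [pi (e.trans hz.symm)]; exact mem_zpowers _
  have : Fact (Nat.Prime 2) := ⟨Nat.prime_two⟩
  refine ⟨Q, hn, cQ, xs_of (z := z) (IsPGroup.of_card (n := 5) cQ)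
    (show ψ z ∈ clo gQ from hz ▸ mem_clo (by simp))
    (orderOf_eq_prime (pi (by rw [map_pow, hz, sq, a3, map_one])) fun e => fQ2.2.1 (by
      rw [← hz, e, map_one]))
    (fun y hy => pi (by rw [map_mul, map_mul, hz, zH _ (QH hy)])) (fun y hy h => zp y ?_)
    (fun y hy w hw => zp _ (by simpa using (a5 _ (memQ _ hy)).2 _ (memQ _ hw)))
    (fun y hy => zp _ (by simpa [sq] using (a5 _ (memQ _ hy)).1)) ?_, ?_⟩
  · have k : ∀ w ∈ gQ, ψ y * w = w * ψ y := fun w hw => by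
      obtain ⟨c, rfl⟩ : w ∈ ψ.range := pr ▸ QH (mem_clo hw)
      rw [← map_mul, ← map_mul, h c (mem_clo hw)]
    exact (fH _ (QH hy)).2.1 (k _ (by simp)) (k _ (by simp)) (k _ (by simp)) (k _ (by simp))
  · obtain ⟨q, hq⟩ := ex q0 (by simp)
    obtain ⟨r, hr⟩ := ex r0 (by simp)
    exact ⟨q, show ψ q ∈ clo gQ from hq ▸ mem_clo (by simp), r,
      show ψ r ∈ clo gQ from hr ▸ mem_clo (by simp), fun e => a4 (by rw [← hq, ← hr, ← map_mul, e, map_mul])⟩
  · obtain ⟨a, ha⟩ := ex a0 (by simp)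
    obtain ⟨b, hb⟩ := ex b0 (by simp)
    obtain ⟨d, hd⟩ := ex d0 (by simp)
    let π := QuotientGroup.mk' Q
    have e1 : [a, b, d].map ψ = sel gH [5, 6, 7] := by simp [ha, hb, hd, sel]
    refine equivA5 (gs := [a, b, d].map π) (fun l hl => ?_) rfl (eq_top_iff.mpr fun y _ => ?_) ?_
    · rw [← ev_map, show ev (atm [a, b, d]) l = 1 from pi (by
        rw [ev_map, e1, satH.ren [5, 6, 7] (by decide) l hl, map_one]), map_one]
    · obtain ⟨y, rfl⟩ := QuotientGroup.mk'_surjective Q y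
      have : clo gH ≤ ((clo ([a, b, d].map π)).comap π).map ψ := clo_le fun w hw => by
        obtain ⟨c, rfl⟩ := ex w hw
        refine mem_map_of_mem ψ ?_
        by_cases h : ψ c ∈ gQ
        · rw [mem_comap, show π c = 1 from (QuotientGroup.eq_one_iff _).mpr (mem_clo h)]
          exact one_mem _
        · have : ψ c ∈ [a, b, d].map ψ := by simp [ha, hb, hd] at hw h ⊢; tauto
          obtain ⟨c', h1, h2⟩ := List.mem_map.mp this
          exact mem_clo (List.mem_map_of_mem (pi h2 ▸ h1))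
      obtain ⟨c, h1, h2⟩ := this (pr ▸ ⟨y, rfl⟩ : ψ y ∈ clo gH)
      exact pi h2 ▸ h1
    · have := card_eq_card_quotient_mul_card_subgroup Q
      rw [cQ, Nat.card_congr (MonoidHom.ofInjective pi).toEquiv, pr, cardH] at this
      omega

omit hi hr in
theorem fO : (∀ g ∈ gU, (∀ i ∈ O36, g.ap i ∈ O36 ∧ g⁻¹.ap i ∈ O36) ∧
    ∀ i ∈ O63, g.ap i ∈ O63 ∧ g⁻¹.ap i ∈ O63) ∧ T36.map (·.ap 2) = O36 ∧ T63.map (·.ap 1) = O63 ∧
    O36.Nodup ∧ O63.Nodup ∧ (∀ i ∈ O36, i < 100) ∧ (∀ i ∈ O63, i < 100) ∧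
    (∃ t ∈ T100, t.ap 0 = 2) ∧ ∃ t ∈ T100, t.ap 0 = 1 := by decide +kernel

theorem orbit_card {O : List ℕ} {T : List Γ} {i : ℕ} (h1 : ∀ g ∈ gU, ∀ i ∈ O, g.ap i ∈ O ∧ g⁻¹.ap i ∈ O)
    (h2 : T.map (·.ap i) = O) (hT : ∀ t ∈ T, t ∈ clo gU) (nd : O.Nodup) (hO : ∀ i ∈ O, i < 100)
    (hm : i ∈ O) (ht : ∃ t ∈ T100, t.ap 0 = i) :
    ∃ c : G ⧸ (clo gU).comap φ, (MulAction.orbit ((clo gU).comap φ) c).ncard = O.length := by
  classical
  obtain ⟨t, h3, h4⟩ := ht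
  obtain ⟨t, rfl⟩ := pre hr (T100_mem t h3)
  let F : G ⧸ (clo gU).comap φ → ℕ := Quotient.lift (fun g => (φ g).ap 0) fun a b h => by
    have := ap_stab (φ a) _ (U_stab (mem_comap.mp (QuotientGroup.leftRel_apply.mp h)))
    simpa using this.symm
  have inj : Function.Injective F := fun a b => Quotient.inductionOn₂ a b fun a b h =>
    QuotientGroup.eq.mpr (stabU _ (inG hr _) (mem_stab.mpr (by
      rw [map_mul, map_inv, PC.ap_mul _ _ (by norm_num)]
      change (φ a)⁻¹.ap ((φ b).ap 0) = 0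
      rw [← show (φ a).ap 0 = (φ b).ap 0 from h, ← PC.ap_mul _ _ (by norm_num), inv_mul_cancel,
        PC.ap_one (by norm_num)])))
  have cl : ∀ g ∈ clo gU, ∀ i ∈ O, g.ap i ∈ O := fun g hg => by
    induction hg using closure_induction'' with
    | one => exact fun i h => (PC.ap_one (w := 7) (hO i h)).symm ▸ h
    | mem x hx => exact fun i h => (h1 x hx i h).1
    | inv_mem x hx => exact fun i h => (h1 x hx i h).2
    | mul x y _ _ hx hy => exact fun i h => PC.ap_mul x y (hO i h) ▸ hx _ (hy i h)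
  have e : ∀ g : (clo gU).comap φ, F (g • (t : G ⧸ (clo gU).comap φ)) = (φ g).ap i := fun g => by
    rw [← h4, ← PC.ap_mul _ _ (by norm_num), ← map_mul]; rfl
  refine ⟨t, ?_⟩
  rw [← Set.ncard_image_of_injective _ inj, ← List.toFinset_card_of_nodup nd, ← Set.ncard_coe_finset]
  congr 1
  ext j
  simp only [Set.mem_image, Finset.mem_coe, List.mem_toFinset]
  refine ⟨?_, fun h => ?_⟩
  · rintro ⟨_, ⟨g, rfl⟩, rfl⟩
    exact e g ▸ cl _ g.2 i hm
  · obtain ⟨u, h5, rfl⟩ := List.mem_map.mp (h2 ▸ h)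
    obtain ⟨u, rfl⟩ := pre hr (U_le (hT u h5))
    exact ⟨_, ⟨⟨u, hT _ h5⟩, rfl⟩, e _⟩

theorem index_U : ((clo gU).comap φ).index = 100 := by
  have := card_mul_index ((clo gU).comap φ)
  rw [card_of_hom hi hr, Nat.card_congr ((equivMapOfInjective _ φ hi).trans (MulEquiv.subgroupCongr
    (map_comap_eq_self (hr ▸ U_le)))).toEquiv, cardU] at this
  omega

end Cfsg.Agent.HJ
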