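/-
Abstract lemmas for the identification of groups of `J₃` type.
-/
import Cfsg.Agent.HJ.Data4
import Cfsg.Agent.HJ.Fin
import Cfsg.Agent.S0848
import Cfsg.Agent.S0497
import Cfsg.Agent.S0206

set_option autoImplicit false
set_option maxRecDepth 100000

namespace Cfsg.Agent.HJ

open Subgroup Module

theorem comm_of_norm {G : Type*} [Group G] [Finite G] {P : Subgroup G} {p : ℕ} [hp : Fact p.Prime]
    (hP : Nat.card P = p) {y : G} (hy : y ∈ normalizer (P : Set G))
    (hc : (orderOf y).Coprime (p - 1)) : y ∈ centralizer (P : Set G) := by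
  have : IsCyclic P := isCyclic_of_prime_card hP
  have h1 : orderOf (P.normalizerMonoidHom ⟨y, hy⟩) ∣ p - 1 := by
    rw [← Nat.totient_prime hp.out, ← hP, ← IsCyclic.card_mulAut]; exact orderOf_dvd_natCard _
  have h2 : orderOf (P.normalizerMonoidHom ⟨y, hy⟩) ∣ orderOf y :=
    (orderOf_map_dvd _ _).trans (by rw [← orderOf_coe])
  have : (⟨y, hy⟩ : normalizer (P : Set G)) ∈ P.normalizerMonoidHom.ker :=
    orderOf_eq_one_iff.mp (Nat.eq_one_of_dvd_coprimes hc h2 h1)
  rwa [normalizerMonoidHom_ker] at this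

theorem card_sylow_prime {G : Type*} [Group G] [Finite G] {p : ℕ} [hp : Fact p.Prime] (P : Sylow p G)
    (h1 : p ∣ Nat.card G) (h2 : ¬ p * p ∣ Nat.card G) : Nat.card (P : Subgroup G) = p := by
  obtain ⟨k, hk⟩ := P.2.exists_card_eq
  have h3 := card_subgroup_dvd_card (P : Subgroup G)
  have h4 := card_mul_index (P : Subgroup G)
  rcases k with _ | _ | k
  · exact absurd (by rwa [← h4, hk, pow_zero, one_mul] at h1) P.not_dvd_index
  · simpa using hk
  · exact absurd (Dvd.dvd.trans ⟨p ^ k, by ring⟩ (hk ▸ h3)) h2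

theorem exists_17_19 {D : Type*} [Group D] [Finite D] (ho : Odd (Nat.card D)) (h1 : 17 ∣ Nat.card D)
    (h2 : 19 ∣ Nat.card D) (h3 : ¬ 17 * 17 ∣ Nat.card D) (h4 : ¬ 19 * 19 ∣ Nat.card D) :
    ∃ x y : D, orderOf x = 17 ∧ orderOf y = 19 ∧ x * y = y * x := by
  have : Fact (Nat.Prime 17) := ⟨by norm_num⟩
  have : Fact (Nat.Prime 19) := ⟨by norm_num⟩
  obtain ⟨P⟩ : Nonempty (Sylow 17 D) := inferInstance
  have cP := card_sylow_prime P h1 h3
  have hN : normalizer (P : Set D) ≤ centralizer (P : Set D) := fun y hy => comm_of_norm cP hy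
    (Nat.Coprime.coprime_dvd_left (orderOf_dvd_natCard y)
      (Nat.Coprime.pow_right 4 (Nat.coprime_two_right.mpr ho)))
  have hK := MonoidHom.ker_transferSylow_isComplement' P hN
  generalize hk : (MonoidHom.transferSylow P hN).ker = K at hK
  have : K.Normal := hk ▸ MonoidHom.normal_ker _
  have cK := hK.card_mul
  rw [cP] at cK
  obtain ⟨R, hR⟩ := PLoc.exists_isSylowOf (p := 19) K
  obtain ⟨R', -, e⟩ := hR.exists_sylow
  have cR := (card_map_of_injective (K := (R' : Subgroup K)) K.subtype_injective).trans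
    (card_sylow_prime R' ((Nat.Coprime.dvd_mul_right (by norm_num)).mp (cK ▸ h2))
      fun h => h4 (h.trans (card_subgroup_dvd_card K)))
  rw [e] at cR
  obtain ⟨x, h5, h6⟩ := PLoc.exists_mem_orderOf_eq_prime (H := normalizer (R : Set D)) (p := 17)
    (by norm_num) (by
      have e := PLoc.card_sup_dvd (H := normalizer (R : Set D)) (N := K) (by simp [normalizer_eq_top])
      rw [sup_comm, hR.frattini_sup, card_top, ← cK, mul_comm] at e
      exact Nat.dvd_of_mul_dvd_mul_right Nat.card_pos e)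
  obtain ⟨y, h7, h8⟩ := PLoc.exists_mem_orderOf_eq_prime (H := R) (p := 19) (by norm_num) (by rw [cR])
  exact ⟨x, y, h6, h8, (comm_of_norm cR h5 (by rw [h6]; norm_num) y h7).symm⟩

theorem fix_modEq {F V : Type*} [Field F] [Fintype F] (hF : Fintype.card F = 4) [AddCommGroup V]
    [Module F V] [Module.Finite F V] {f : V →ₗ[F] V} {p : ℕ} [Fact p.Prime] (hf : f ^ p = 1) :
    4 ^ finrank F V ≡ 4 ^ finrank F (LinearMap.eqLocus f LinearMap.id) [MOD p] := by
  classical
  have : Finite V := Module.finite_of_finite F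
  have := Fintype.ofFinite V
  have h := Equiv.Perm.card_fixedPoints_modEq (f := (f : V → V)) (p := p) (n := 1) (by
    rw [pow_one]
    funext v
    have := LinearMap.congr_fun hf v
    rw [Module.End.pow_apply] at this
    exact (congrFun (hom_coe_pow (fun g : Function.End V ↦ g) rfl (fun _ _ ↦ rfl) (f : V → V) p) v).trans this)
  rw [← hF, ← card_eq_pow_finrank, ← card_eq_pow_finrank]
  convert h using 1
  exact Fintype.card_congr (Equiv.refl _)

theorem no_323 {F V : Type*} [Field F] [Fintype F] (hF : Fintype.card F = 4) [AddCommGroup V]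
    [Module F V] [Module.Finite F V] (hV : finrank F V = 9) {A B : V →ₗ[F] V} (hA : A ^ 17 = 1)
    (hB : B ^ 19 = 1) (h : A * B = B * A) : A = 1 ∨ B = 1 := by
  have : Fact (Nat.Prime 17) := ⟨by norm_num⟩
  have : Fact (Nat.Prime 19) := ⟨by norm_num⟩
  have top : ∀ f : V →ₗ[F] V, finrank F (LinearMap.eqLocus f LinearMap.id) = 9 → f = 1 := fun f e =>
    LinearMap.ext fun v => (Submodule.eq_top_of_finrank_eq (e.trans hV.symm) ▸ Submodule.mem_top :
      v ∈ LinearMap.eqLocus f LinearMap.id)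
  have le : ∀ f : V →ₗ[F] V, finrank F (LinearMap.eqLocus f LinearMap.id) ≤ 9 := fun f =>
    hV ▸ Submodule.finrank_le _
  have hW : ∀ v ∈ LinearMap.eqLocus A LinearMap.id, B v ∈ LinearMap.eqLocus A LinearMap.id :=
    fun v hv => (LinearMap.congr_fun h v).trans (congrArg B hv)
  have h1 := fix_modEq hF hA
  have h2 := fix_modEq hF hB
  have h3 := fix_modEq hF (f := B.restrict hW) (p := 19) (by
    rw [Module.End.pow_restrict 19 hW]
    ext v; simp [hB])
  have h4 : finrank F (LinearMap.eqLocus (B.restrict hW) LinearMap.id) ≤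
      finrank F (LinearMap.eqLocus B LinearMap.id) := by
    rw [← Submodule.finrank_map_subtype_eq]
    exact Submodule.finrank_mono (by
      rintro _ ⟨v, hv, rfl⟩; exact congrArg Subtype.val hv)
  have h5 := le A
  have h6 := le B
  refine (Classical.em _).imp (top A) fun n1 => top B ?_
  rw [hV] at h1 h2
  generalize finrank F (LinearMap.eqLocus A LinearMap.id) = m at *
  generalize finrank F (LinearMap.eqLocus B LinearMap.id) = n at *
  by_contra n2
  have k1 : ∀ n ≤ 9, 4 ^ 9 ≡ 4 ^ n [MOD 19] → n = 0 ∨ n = 9 := by decide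
  have k2 : ∀ m ≤ 9, 4 ^ 9 ≡ 4 ^ m [MOD 17] → 4 ^ m ≡ 4 ^ 0 [MOD 19] → m = 9 := by decide
  obtain rfl := (k1 n h6 h2).resolve_right n2
  exact n1 (k2 m h5 h1 (Nat.le_zero.mp h4 ▸ h3))

theorem relIndex_eq_of_cover {G : Type*} [Group G] {H D K : Subgroup G} (hD : D ≤ K)
    (h : ∀ x ∈ K, ∃ d ∈ D, d⁻¹ * x ∈ H) : H.relIndex D = H.relIndex K :=
  Nat.card_congr (Equiv.ofBijective (quotientSubgroupOfEmbeddingOfLE H hD)
    ⟨(quotientSubgroupOfEmbeddingOfLE H hD).injective, fun x => by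
      obtain ⟨x, rfl⟩ := QuotientGroup.mk_surjective x
      obtain ⟨d, h1, h2⟩ := h x x.2
      exact ⟨(⟨d, h1⟩ : D), QuotientGroup.eq.mpr h2⟩⟩)

theorem ord_S6 (x : Equiv.Perm (Fin 6)) : x ^ 4 = 1 ∨ x ^ 5 = 1 ∨ x ^ 6 = 1 := by
  have e : PC.Enum (⊤ : Subgroup Γc) chS6 := PC.Enum.of chS6_ok (fun _ _ _ _ => mem_top _) (by
    rw [chS6_len, card_top, ← Nat.card_congr (PC.equiv (w := 3) (n := 6)).toEquiv, Nat.card_perm]
    simp [Nat.factorial])
  have := e.all (P := fun x => x ^ 4 = 1 ∨ x ^ 5 = 1 ∨ x ^ 6 = 1) (by decide +kernel)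
    (PC.equiv x) (mem_top _)
  simpa only [← map_pow, MulEquiv.map_eq_one_iff] using this

theorem fD8 : ∀ a b x : DihedralGroup 4, a * a = 1 → b * b = 1 → a * b * (a * b) ≠ 1 →
    x ^ 4 = 1 ∧ (x * a = a * x → x * b = b * x → x = 1 ∨ x = a * b * (a * b)) ∧
    (x * x = 1 → x = 1 ∨ x = a * b * (a * b) ∨ x = a ∨ x = b ∨ x = b * a * b⁻¹ ∨ x = a * b * a⁻¹) := by
  decide +kernel

theorem fA5 : ev (atm gA5) [4, 0, 5, 2] ^ 5 = 1 := by decide +kernel

theorem six {L : Type*} [Group L] [Finite L] {z q p g w j : L} (z2 : z * z = 1) (z1 : z ≠ 1)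
    (q2 : q * q = 1) (p2 : p * p = 1) (g2 : g * g = 1) (w2 : w * w = 1) (j2 : j * j = 1)
    (hz : q * p * (q * p) = z) (gz : g * z * g⁻¹ = q) (wz : w * z * w⁻¹ = p)
    (hC : ∀ x, x * z = z * x ↔ x ∈ closure {q, p}) (h1 : (g * p) ^ 3 = 1) (h2 : (g * p * z) ^ 3 = 1)
    (h3 : (z * j) ^ 3 = 1) (h4 : g * p * j * (g * p * j) = 1) :
    Nat.card L = 360 ∧ (j * g) ^ 3 = 1 := by
  have : Fact (Nat.Prime 2) := ⟨Nat.prime_two⟩
  have o2 : ∀ {x : L}, x * x = 1 → x ≠ 1 → orderOf x = 2 := fun h h' =>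
    orderOf_eq_prime (by rwa [sq]) h'
  have q1 : q ≠ 1 := fun e => z1 (by simpa [e] using gz)
  have p1 : p ≠ 1 := fun e => z1 (by simpa [e] using wz)
  have o4 : orderOf (q * p) = 4 := orderOf_eq_prime_pow (p := 2) (n := 1) (by simpa [sq, hz])
    (by rw [show 2 ^ (1 + 1) = 2 * 2 from rfl, pow_mul, sq, sq, hz, z2])
  obtain ⟨e⟩ := S0206.result q p (o2 q2 q1) (o2 p2 p1) fun e => z1 (by rw [← hz, e, p2, one_mul])
  rw [o4] at e
  have mq : q ∈ closure {q, p} := subset_closure (by simp)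
  have mp : p ∈ closure {q, p} := subset_closure (by simp)
  have F : ∀ x, x * z = z * x → x ^ 4 = 1 ∧ (x * q = q * x → x * p = p * x → x = 1 ∨ x = z) ∧
      (x * x = 1 → x = 1 ∨ x = z ∨ x = q ∨ x = p ∨ x = p * q * p⁻¹ ∨ x = q * p * q⁻¹) := fun x hx => by
    have := fD8 (e ⟨q, mq⟩) (e ⟨p, mp⟩) (e ⟨x, (hC x).mp hx⟩)
    simp only [← map_mul, ← map_pow, ← map_inv, MulEquiv.map_eq_one_iff, ne_eq,
      EmbeddingLike.apply_eq_iff_eq, Subtype.ext_iff, coe_mul, coe_one, coe_pow, coe_inv, hz] at this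
    exact this q2 p2 z1
  have qz := (hC q).mpr mq
  have pz := (hC p).mpr mp
  have mz : z ∈ closure {q, p} := (hC z).mp rfl
  have hP : PLoc.IsSylowOf 2 (closure {q, p}) ⊤ := by
    obtain ⟨P, k1, k2, k3⟩ := sylow_cent (K := ⊤) le_top (PLoc.isPGroup_iff_forall.mpr fun x hx =>
      ⟨2, (F x ((hC x).mpr hx)).1⟩) mz z1 fun x _ hx => (F x (hx z mz)).2.1 (hx q mq) (hx p mp)
    rwa [le_antisymm k2 fun x hx => (hC x).mp (k3 x hx)]
  have cz : ∀ N : Subgroup L, g ∈ N → w ∈ N → q ∈ N → p ∈ N → ∀ x, x * z = z * x → x * x = 1 →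
      x ≠ 1 → ∃ n ∈ N, x = n * z * n⁻¹ := fun N a1 a2 a3 a4 x k1 k2 k3 => by
    rcases (F x k1).2.2 k2 with e | e | e | e | e | e
    exacts [absurd e k3, ⟨1, one_mem _, by simp [e]⟩, ⟨g, a1, e ▸ gz.symm⟩, ⟨w, a2, e ▸ wz.symm⟩,
      ⟨p * g, mul_mem a4 a1, by rw [cj_mul', gz, e]⟩, ⟨q * w, mul_mem a3 a2, by rw [cj_mul', wz, e]⟩]
  have cj : ∀ x, x * x = 1 → x ≠ 1 → ∃ n, x = n * z * n⁻¹ := fun x k1 k2 => by
    obtain ⟨y, -, k3⟩ := conj_into hP (mem_top x) k1
    obtain ⟨n, -, e⟩ := cz ⊤ trivial trivial trivial trivial _ ((hC _).mpr k3)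
      (by rw [conj_mul, k1]; simp) (by simpa using k2)
    exact ⟨y⁻¹ * n, by rw [cj_mul', ← e]; group⟩
  have pq : p * q * p⁻¹ = z * q := by
    rw [← hz, inv_eq_of_sq p2]
    calc p * q * p = q * (q * p * (q * p)) := by rw [← mul_assoc, ← mul_assoc q q, q2]; group
      _ = _ := by rw [hz, qz]
  have : Nontrivial L := ⟨z, 1, z1⟩
  have hs : IsSimpleGroup L := ⟨fun N hN => by
    by_cases h : z ∈ N
    · have k : ∀ x, x * x = 1 → x ∈ N := fun x k1 => by
        by_cases k2 : x = 1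
        · exact k2 ▸ one_mem _
        · obtain ⟨n, rfl⟩ := cj x k1 k2
          exact hN.conj_mem _ h _
      have le : closure {q, p} ≤ N := (closure_le _).mpr (by simp [Set.insert_subset_iff, k, q2, p2])
      refine Or.inr (eq_top_iff.mpr fun y _ => ?_)
      obtain ⟨n, k1, k2⟩ := conj_into (hP.of_le le le_top) (hN.conj_mem _ h y)
        (by rw [conj_mul, z2]; simp)
      obtain ⟨m, k3, k4⟩ := cz N (k g g2) (k w w2) (k q q2) (k p p2) _ ((hC _).mpr k2)
        (by rw [conj_mul, conj_mul, z2]; simp) (by simpa using z1)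
      simpa using mul_mem (inv_mem k1) (mul_mem k3 (le ((hC (m⁻¹ * (n * y))).mp
        (comm_of_cj (by rw [cj_mul', cj_mul', k4]; group)))))
    · have k : ∀ x ∈ N, x * x = 1 → x = 1 := fun x hx k1 => by
        by_contra k2
        obtain ⟨n, rfl⟩ := cj x k1 k2
        exact h (by simpa [mul_assoc] using hN.conj_mem _ hx n⁻¹)
      refine Or.inl (eq_bot_iff.mpr (fpf_cj (K := ⊤) (fun g _ x hx => hN.conj_mem x hx g)
        (mem_top z) (mem_top g) (mem_top (p * g)) z2 (by rw [cj_mul', gz, pq]) fun x hx k1 => ?_))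
      exact k x hx (k _ (mul_mem hx hx) (by rw [← (F x k1).1]; simp [pow_succ, mul_assoc]))⟩
  have hc : Nat.card L = 360 := by
    refine (H3.s0848 (fun H hH => ?_) z (o2 z2 z1) ((MulEquiv.subgroupCongr (ext fun x =>
      mem_centralizer_singleton_iff.trans (hC x))).trans e)).resolve_left fun h => ?_
    · rcases (normal_of_index_eq_two hH).eq_bot_or_eq_top with rfl | rfl
      · have := orderOf_dvd_natCard (q * p)
        rw [o4, ← index_bot, hH] at this
        omega
      · simp at hH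
    · have sat : Sat cA5.RL [z, j, g * p] := by
        simp only [pow_succ, pow_zero, one_mul, mul_assoc] at h1 h2 h3 h4
        simp [Sat, cA5.RL, atm, mul_assoc, z2, j2, h1, h2, h3, h4]
      have fn := fn_of_le (xs := gA5) (cA5.le rfl (satA5.zip sat) (le_triv rfl) le_bot) cardA5
      have k := fn.eq (pm_pow (ev_mem_gr (xs := gA5) (ys := [z, j, g * p]) rfl [4, 0, 5, 2])) pm_one fA5
      have k1 : ev (atm [z, j, g * p]) [4, 0, 5, 2] = q * j := by
        rw [← gz, ← congrArg (g * · * g⁻¹) (cj_of_comm pz)]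
        simp [atm, mul_assoc]
      rw [k1] at k
      have : Fact (Nat.Prime 5) := ⟨by norm_num⟩
      have := orderOf_dvd_natCard (q * j)
      rw [orderOf_eq_prime k fun e => ?_, h] at this
      · omega
      · rw [eq_inv_of_mul_eq_one_right e, inv_eq_of_sq q2, (Commute.mul_pow qz.symm 3), pow_three,
          pow_three, z2, q2, mul_one, mul_one] at h3
        refine z1 ?_
        rw [← hz, eq_inv_of_mul_eq_one_right h3, inv_eq_of_sq z2, mul_assoc, ← mul_assoc p, pz,
          mul_assoc, p2, mul_one, z2]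
  refine ⟨hc, ?_⟩
  obtain ⟨e6⟩ := S0497.result hc
  have u1 : g * p ≠ 1 := fun e => z1 (by
    rw [eq_inv_of_mul_eq_one_left e, inv_eq_of_sq p2, cj_of_comm pz] at gz
    rw [← hz, ← gz, mul_assoc, ← mul_assoc p, pz, mul_assoc, p2, mul_one, z2])
  have vu : Commute (j * g) (g * p) := by
    have : j * (g * p) * j = (g * p)⁻¹ := eq_inv_of_mul_eq_one_right (by rw [← h4]; group)
    show j * g * (g * p) = g * p * (j * g)
    calc j * g * (g * p) = j * (g * p)⁻¹ * g := by
          rw [mul_inv_rev, inv_eq_of_sq p2, inv_eq_of_sq g2, mul_assoc j g, ← mul_assoc g g, g2,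
            mul_assoc, mul_assoc p, g2]; simp
      _ = _ := by rw [← this, ← mul_assoc, ← mul_assoc, j2]; group
  generalize g * p = u at *
  generalize j * g = v at *
  have k0 : ∀ x, Commute x u → x * x = 1 → x = 1 := fun x k1 k2 => by
    by_contra k3
    obtain ⟨n, rfl⟩ := cj x k2 k3
    have := (F (n⁻¹ * u * n⁻¹⁻¹) (by
      have := cj_comm (g := n⁻¹) k1.eq
      rw [show n⁻¹ * (n * z * n⁻¹) * n⁻¹⁻¹ = z by group] at this
      exact this.symm)).1
    rw [conj_pow, pow_succ, h1] at this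
    exact u1 (by simpa [mul_assoc, inv_mul_eq_one] using this)
  have k1 : ∀ x, Commute x u → x ^ 3 = 1 ∨ x ^ 5 = 1 := fun x k => by
    have := ord_S6 (e6 x)
    simp only [← coe_pow, ← map_pow, OneMemClass.coe_eq_one, MulEquiv.map_eq_one_iff] at this
    rcases this with e | e | e
    · exact Or.inl (by rw [k0 x k (k0 _ (k.mul_left k) (by rw [← e]; simp [pow_succ, mul_assoc])), one_pow])
    · exact Or.inr e
    · exact Or.inl (k0 _ (k.pow_left 3) (by rw [← pow_add, e]))
  refine (k1 v vu).elim id fun e => (k1 _ (vu.mul_left (Commute.refl u))).elim (fun e' => ?_) fun e' => ?_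
  · rwa [vu.mul_pow, h1, mul_one] at e'
  · rw [vu.mul_pow, e, one_mul, show u ^ 5 = u ^ 3 * (u * u) by simp [pow_succ, mul_assoc], h1,
      one_mul] at e'
    exact absurd (k0 u (Commute.refl u) e') u1

end Cfsg.Agent.HJ
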