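/-
Groups of `J₃` type: the normalisers of the four-group `V` and of the group `E` of order 16.
-/
import Cfsg.Agent.HJ.J3A

set_option autoImplicit false
set_option maxRecDepth 100000

namespace Cfsg.Agent.HJ

open Subgroup A4

variable {G : Type*} [Group G] {z q r s t a b d p c g : G}

set_option hygiene false in
local notation "ΔH" => gr gH [q, r, s, t, z, a, b, d]
set_option hygiene false in
local notation "ΔM" => gr gM [q, r, s, t, z, a, d, g]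
set_option hygiene false in
local notation "ΔE" => gr gE [z, q, a, c]
set_option hygiene false in
local notation "ΔA" => gr gE1 [z, q, a, c]

theorem H0.noD (H : H0 z q r s t a b d p c) {n : G} (h1 : n * d * n⁻¹ * z = z * (n * d * n⁻¹))
    (h2 : n * d * n⁻¹ * a = a * (n * d * n⁻¹)) : False := by
  obtain ⟨⟨-, -, -, -, -, -, d3⟩, -, -, -, -, dn, -⟩ := H.rel
  have := (H.fE' h1 h2).1
  rw [conj_mul] at this
  rw [eq_one_of_sq_cube (v := d) (by simpa using this) d3] at dn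
  simp at dn

/-- `z` is fused to `q` and to `a` -/
structure K1 (z q r s t a b d p c : G) : Prop extends H0 z q r s t a b d p c where
  zq : IsConj z q
  za : IsConj z a

theorem K1.exists_g (H : K1 z q r s t a b d p c) : ∃ g, g * g = 1 ∧ g * z * g⁻¹ = q ∧
    g * d = d * g ∧ (g * p) ^ 3 = 1 ∧ g * (r * s) * g⁻¹ * (r * (a * t)) = 1 := by
  obtain ⟨⟨z2, q2, p2, -, -, -, d3⟩, ⟨qz, pz, pq, dz, dq, dp, -⟩, -, z1, qn, dn, -⟩ := H.rel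
  obtain ⟨gq, gr', gs, gt, gz, ga, gb, gd, gp, gc⟩ := H.m
  obtain ⟨g0, e0⟩ := isConj_iff.mp H.zq
  obtain ⟨g1, e1, e2⟩ : ∃ g1, g1 * z * g1⁻¹ = q ∧ g1 * q * g1⁻¹ = z := by
    have w1 : g0⁻¹ * z * g0 * z = z * (g0⁻¹ * z * g0) := by
      have := cj_comm (g := g0⁻¹) qz.symm
      rwa [← e0, inv_inv, show g0⁻¹ * (g0 * z * g0⁻¹) * g0 = z by group] at this
    rcases H.invol w1 (by simp [mul_assoc, ← mul_assoc z z, z2]) with e | e | ⟨h, hz, e⟩ | ⟨h, hz, e⟩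
    · exact absurd (by simpa [mul_assoc, inv_mul_eq_one] using e) z1
    · refine absurd ?_ qn
      rw [← e0]
      conv_lhs => rw [← e]
      group
    · exact ⟨g0 * h, by rw [cj_mul', cj_of_comm hz, e0], by rw [cj_mul', ← e]; group⟩
    · refine (H.noD (n := h⁻¹ * g0⁻¹) ?_ ?_).elim
      · rw [← cj_of_comm (Commute.inv_left hz).eq, ← show g0⁻¹ * q * g0⁻¹⁻¹ = z by rw [← e0]; group,
          ← cj_mul']
        exact cj_comm dq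
      · rw [show a = h⁻¹ * g0⁻¹ * z * (h⁻¹ * g0⁻¹)⁻¹ by rw [cj_mul', inv_inv g0, e]; group]
        exact cj_comm dz
  have sw : ∀ {g x : G}, g * z * g⁻¹ = q → g * q * g⁻¹ = z → x * z = z * x → x * q = q * x →
      g * x * g⁻¹ * z = z * (g * x * g⁻¹) ∧ g * x * g⁻¹ * q = q * (g * x * g⁻¹) :=
    fun h1 h2 h3 h4 => ⟨h2 ▸ cj_comm h4, h1 ▸ cj_comm h3⟩
  obtain ⟨g2, e1, e2, e3⟩ : ∃ g2, g2 * z * g2⁻¹ = q ∧ g2 * q * g2⁻¹ = z ∧
      (g2 * d * g2⁻¹ = d ∨ g2 * d * g2⁻¹ = d⁻¹) := by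
    obtain ⟨h1, h2⟩ := sw e1 e2 dz dq
    obtain ⟨x0, m0, m⟩ := H.liftC h1 h2
    rcases (fC x0 m0).1 (H.inj.eq (by gm) pm_one (by rw [conj_pow, d3]; simp)) with e | ⟨c0, f1, f2⟩
    · have : d = 1 := by simpa using H.fn.eq m pm_one e
      exact absurd (by simp [this]) dn
    · obtain ⟨c', cz, m'⟩ := H.down (C_le (T16_mem _ f1))
      have cq : c' * q = q * c' := H.fn.eq (by gm) (by gm)
        (comm_clo (gs := gC) (z := q0) (by decide +kernel) c0 (T16_mem _ f1))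
      exact ⟨c' * g1, by rw [cj_mul', e1, cj_of_comm cq], by rw [cj_mul', e2, cj_of_comm cz], by
        rw [cj_mul']; exact f2.imp (H.fn.eq (by gm) (by gm)) (H.fn.eq (by gm) (by gm))⟩
  have cyc : ∀ {g : G}, g * z * g⁻¹ = q → g * q * g⁻¹ = z →
      (g * p * z * (g * p)⁻¹ = q ∧ g * p * q * (g * p)⁻¹ = z * q ∧
        g * p * (z * q) * (g * p)⁻¹ = z) ∧
      (g * p) ^ 3 * z = z * (g * p) ^ 3 ∧ (g * p) ^ 3 * q = q * (g * p) ^ 3 := by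
    intro g h1 h2
    have k1 : g * p * z * (g * p)⁻¹ = q := by rw [cj_mul', cj_of_comm pz, h1]
    have k2 : g * p * q * (g * p)⁻¹ = z * q := by rw [cj_mul', pq, ← conj_mul, h1, h2, qz]
    have k3 : g * p * (z * q) * (g * p)⁻¹ = z := by
      rw [← conj_mul, k1, k2, ← mul_assoc, qz, mul_assoc, q2, mul_one]
    refine ⟨⟨k1, k2, k3⟩, comm_of_cj ?_, comm_of_cj ?_⟩
    · rw [pow_three, cj_mul' (g * p), cj_mul' (g * p), k1, k2, k3]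
    · rw [pow_three, cj_mul' (g * p), cj_mul' (g * p), k2, k3, k1]
  have e4 : g2 * d = d * g2 := by
    refine comm_of_cj (e3.resolve_right fun e => dn ?_)
    have k1 : g2 * p * d * (g2 * p)⁻¹ = d⁻¹ := by rw [cj_mul', cj_of_comm dp.symm, e]
    have k2 : g2 * p * d⁻¹ * (g2 * p)⁻¹ = d := by rw [← conj_inv, k1, inv_inv]
    have k3 : (g2 * p) ^ 3 * d * ((g2 * p) ^ 3)⁻¹ = d⁻¹ := by
      rw [pow_three, cj_mul' (g2 * p), cj_mul' (g2 * p), k1, k2, k1]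
    rw [← k3, cj_of_comm (H.fC2 (cyc e1 e2).2.1 (cyc e1 e2).2.2 (Or.inr k3)).1]
  obtain ⟨g, g2', e1, e2, e4⟩ : ∃ g, g * g = 1 ∧ g * z * g⁻¹ = q ∧ g * q * g⁻¹ = z ∧
      g * d = d * g := by
    have k1 : g2 ^ 3 * z * (g2 ^ 3)⁻¹ = q := by rw [pow_three, cj_mul', cj_mul', e1, e2, e1]
    have k2 : g2 ^ 3 * q * (g2 ^ 3)⁻¹ = z := by rw [pow_three, cj_mul', cj_mul', e2, e1, e2]
    have k3 : g2 ^ 3 * d = d * g2 ^ 3 := (Commute.pow_left e4 3).eq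
    have k4 : (g2 * g2) ^ 3 = g2 ^ 3 * g2 ^ 3 := by rw [← pow_two, ← pow_mul, ← pow_add]
    have k5 := (H.fC2 (x := g2 * g2) (comm_of_cj (by rw [cj_mul', e1, e2]))
      (comm_of_cj (by rw [cj_mul', e2, e1]))
      (Or.inl (by rw [cj_mul', cj_of_comm e4, cj_of_comm e4]))).2.1
    rw [k4] at k5
    generalize g2 ^ 3 = g3 at *
    rcases k5 with e | e | e | e
    · exact ⟨g3, e, k1, k2, k3⟩
    · exact absurd (by rw [← k1, ← e]; group) qn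
    · exact absurd (by rw [← k2, ← e]; group) qn
    · refine ⟨g3 * z, ?_, by rw [cj_mul', mul_inv_cancel_right, k1],
        by rw [cj_mul', cj_of_comm qz.symm, k2], by rw [mul_assoc, ← dz, ← mul_assoc, k3, mul_assoc]⟩
      calc g3 * z * (g3 * z) = g3 * z * g3⁻¹ * (g3 * g3) * z := by group
        _ = 1 := by rw [k1, e, ← qz, ← mul_assoc, q2, one_mul, z2]
  have gi := inv_eq_of_sq g2'
  refine ⟨g, g2', e1, e4, ?_, ?_⟩
  · obtain ⟨⟨k1, k2, k3⟩, k4, k5⟩ := cyc e1 e2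
    have k6 : Commute (g * p) d := Commute.mul_left e4 dp.symm
    obtain ⟨-, f2, f3⟩ := H.fC2 k4 k5 (Or.inl (cj_of_comm (k6.pow_left 3).eq))
    have k7 : g * p * ((g * p) ^ 3) ^ 3 * (g * p)⁻¹ = ((g * p) ^ 3) ^ 3 :=
      cj_of_comm (((Commute.refl (g * p)).pow_right 3).pow_right 3).eq
    have k8 : g * (g * p) ^ 3 * g⁻¹ = ((g * p) ^ 3)⁻¹ := by
      rw [← conj_pow, ← inv_pow, mul_inv_rev, inv_eq_of_sq p2, ← mul_assoc, g2', one_mul]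
    have k9 : g * d⁻¹ * g⁻¹ = d⁻¹ := by rw [← conj_inv, cj_of_comm e4]
    rcases f2 with e | e | e | e
    · rcases f3 e with e | e | e
      · exact e
      · rw [e, cj_of_comm e4] at k8; exact absurd k8.symm dn
      · rw [e, k9, inv_inv] at k8; exact absurd k8 dn
    · rw [e, k1] at k7; exact absurd k7 qn
    · rw [e, k2] at k7; exact absurd (by simpa using k7) z1
    · rw [e, k3] at k7
      have q1 : q = 1 := by simpa using k7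
      exact absurd (by simpa [q1] using e1) z1
  · obtain ⟨f1, f2, f3, f4⟩ := fB2
    have gu : (u0, r * s) ∈ ΔH := by rw [e_u]; gm
    generalize r * s = u at *
    have u1 : u * u = z := H.fn.eq (by gm) (by gm) f1
    have u2 : u * (d * u * d⁻¹) * (d⁻¹ * u * d) = 1 := H.fn.eq (by gm) (by gm) f2
    obtain ⟨h1, h2⟩ := sw (x := u) e1 e2 (H.fn.eq (by gm) (by gm) f3) (H.fn.eq (by gm) (by gm) f4)
    obtain ⟨x0, m0, m⟩ := H.liftC h1 h2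
    have k1 : ∀ w, d * (g * w * g⁻¹) * d⁻¹ = g * (d * w * d⁻¹) * g⁻¹ := fun w => by
      rw [← cj_mul', ← cj_mul', e4]
    have k2 : ∀ w, d⁻¹ * (g * w * g⁻¹) * d = g * (d⁻¹ * w * d) * g⁻¹ := fun w => by
      have := k1 (d⁻¹ * w * d)
      rw [show d * (d⁻¹ * w * d) * d⁻¹ = w by group] at this
      rw [← this]; group
    have k3 : g * (u * (d * (g * u * g⁻¹) * d⁻¹)) ^ 2 * g⁻¹ = (g * u * g⁻¹ * (d * u * d⁻¹)) ^ 2 := by
      rw [← conj_pow, ← conj_mul, k1, ← cj_mul' g g, g2']; simp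
    refine H.fn.eq (by gm) pm_one ((fC x0 m0).2.2 (H.inj.eq (by gm) gq (by rw [conj_mul, u1, e1]))
      (H.inj.eq (by gm) pm_one (by rw [k1, k2, conj_mul, conj_mul, u2]; simp)) ⟨fun e => ?_, fun e => ?_⟩)
    · refine H.inj.eq (by gm) pm_one ?_
      rw [← k3, H.fn.eq (y := (u * (d * (g * u * g⁻¹) * d⁻¹)) ^ 2) (by gm) pm_one e]; simp
    · refine H.inj.eq (y := (u * (d * (g * u * g⁻¹) * d⁻¹)) ^ 2) (by gm) pm_one ?_
      rw [H.fn.eq (y := (g * u * g⁻¹ * (d * u * d⁻¹)) ^ 2) (by gm) pm_one e] at k3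
      simpa using k3

/-- the normaliser of `V` is the concrete one -/
structure K2 (z q r s t a b d p c g : G) : Prop extends K1 z q r s t a b d p c where
  satM : Sat cM.RL [q, r, s, t, z, a, d, g]
  fnM : Fn (gr gM [q, r, s, t, z, a, d, g])
  injM : Inj (gr gM [q, r, s, t, z, a, d, g])
  g2 : g * g = 1
  gz : g * z * g⁻¹ = q
  gq : g * q * g⁻¹ = z
  gd : g * d = d * g
  gp : (g * p) ^ 3 = 1

theorem K1.exists_K2 (H : K1 z q r s t a b d p c) : ∃ g, K2 z q r s t a b d p c g := by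
  obtain ⟨g, g2, e1, e4, e5, e6⟩ := H.exists_g
  obtain ⟨gq, gr', gs, gt, gz, ga, gb, gd, gp, gc⟩ := H.m
  have gi := inv_eq_of_sq g2
  have e2 : g * q * g⁻¹ = z := by rw [← e1, ← cj_mul', g2]; simp
  have sM := satM
  simp only [cM.RL, Sat, List.forall_mem_append] at sM
  have sat : Sat cM.RL [q, r, s, t, z, a, d, g] := by
    refine Sat.append (Sat.tr H.fn (xs := gM) (ys := [q, r, s, t, z, a, d, g])
      (S := [0, 1, 2, 3, 4, 5, 6]) ⟨gq, gr', gs, gt, gz, ga, gd, trivial⟩ (by decide) sM.1) ?_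
    simp only [Sat, cM.R2, List.forall_mem_cons]
    have q2 := H.rel.1.2.1
    rw [H.ep] at e5
    rw [gi] at e1 e6
    simp only [pow_succ, pow_zero, one_mul, mul_assoc] at e5 e6 e1
    have e7 : g * (z * (g * q)) = 1 := by
      rw [← mul_assoc z, ← mul_assoc g, e1, q2]
    have e8 : g * (d * (g * d⁻¹)) = 1 := by rw [← mul_assoc, e4, mul_assoc, ← mul_assoc g g, g2]; simp
    simp [atm, g2, e5, e6, e7, e8]
  have fn := fn_of_le (leM (satM.zip sat)) chM_card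
  obtain ⟨f1, f2, f3, f4⟩ := fB3
  have mg : (g0, g) ∈ ΔM := mem_clo (by simp)
  have mp : (p0, p) ∈ ΔM := B_leM (by
    rw [H.ep, e_p]
    exact pm_mul (pm_mul (pm_mul (mem_clo (by simp)) (mem_clo (by simp))) (mem_clo (by simp)))
      (mem_clo (by simp)))
  refine ⟨g, H, sat, fn, inj_of_fpf (u' := z) (v' := q) (mem_clo (by simp)) (mem_clo (by simp)) f1 f2
    (fun x m e => ?_) ⟨_, _, mg, f3⟩ ⟨_, _, pm_mul mp mg, f4⟩, g2, e1, e2, e4, e5⟩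
  obtain ⟨y, -, m'⟩ := gr_right [q, r, s, t, z, a, d] (centB x (gr_mem m).1 e)
  rw [fn.eq (B_leM m') m rfl] at m'
  exact H.inj x (B_leH m')

theorem K2.mM (H : K2 z q r s t a b d p c g) : (q0, q) ∈ ΔM ∧ (z0, z) ∈ ΔM ∧ (a0, a) ∈ ΔM ∧
    (d0, d) ∈ ΔM ∧ (p0, p) ∈ ΔM ∧ (c0, c) ∈ ΔM ∧ (g0, g) ∈ ΔM ∧ (y0, g * p * d) ∈ ΔM := by
  have gq : (q0, q) ∈ ΔM := mem_clo (by simp)
  have gr' : (r0, r) ∈ ΔM := mem_clo (by simp)
  have gs : (s0, s) ∈ ΔM := mem_clo (by simp)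
  have gt : (t0, t) ∈ ΔM := mem_clo (by simp)
  have ga : (a0, a) ∈ ΔM := mem_clo (by simp)
  have gd : (d0, d) ∈ ΔM := mem_clo (by simp)
  have gg : (g0, g) ∈ ΔM := mem_clo (by simp)
  have gp : (p0, p) ∈ ΔM := by rw [H.ep, e_p]; gm
  refine ⟨gq, mem_clo (by simp), ga, gd, gp, ?_, gg, ?_⟩
  · rw [H.ec, e_c]; gm
  · rw [e_y]; gm

theorem fP1 : ∀ x ∈ clo gH, x * a0 * x⁻¹ * a0 = a0 * (x * a0 * x⁻¹) → x * q0 = q0 * x :=
  enumH.all (by decide +kernel)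

theorem fP2 : (∀ x ∈ LE, (x * y0 = y0 * x → x = 1 ∨ x = a0 ∨ x = c0 ∨ x = a0 * c0) ∧
    (x * (d0 * y0) = d0 * y0 * x → x = 1) ∧ ∃ f ∈ LE, f * (d0 * y0) * f⁻¹ = x * (d0 * y0)) ∧
    (q0 = y0 * z0 * y0⁻¹ ∧ z0 * q0 = y0 * q0 * y0⁻¹ ∧ y0 * a0 = a0 * y0 ∧ y0 * c0 = c0 * y0 ∧
      d0 * y0 = y0 * d0) ∧ (p0 * a0 * p0 * a0 * (p0 * a0 * p0)⁻¹ = z0 * a0 ∧
      p0 * a0 * p0 * c0 * (p0 * a0 * p0)⁻¹ = q0 * c0 ∧ p0 * a0 * p0 * q0 = q0 * (p0 * a0 * p0) ∧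
      p0 * a0 * p0 * (d0 * y0) = d0 * y0 * (p0 * a0 * p0)) ∧ a0 ≠ z0 ∧ Sat cE.RL gE := by
  decide +kernel

theorem fP3 : (d₁ * z₁ * d₁⁻¹ = z₁ ∧ d₁ * q₁ * d₁⁻¹ = q₁ ∧ d₁ * a₁ * d₁⁻¹ = c₁ ∧
      d₁ * c₁ * d₁⁻¹ = a₁ * c₁) ∧ (y₁ * z₁ * y₁⁻¹ = q₁ ∧ y₁ * q₁ * y₁⁻¹ = z₁ * q₁ ∧
      y₁ * a₁ * y₁⁻¹ = a₁ ∧ y₁ * c₁ * y₁⁻¹ = c₁) ∧ (w₁ * z₁ * w₁⁻¹ = z₁ ∧ w₁ * q₁ * w₁⁻¹ = q₁ ∧
      w₁ * a₁ * w₁⁻¹ = z₁ * a₁ ∧ w₁ * c₁ * w₁⁻¹ = q₁ * c₁) ∧ (k₁ * z₁ * k₁⁻¹ = a₁ ∧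
      k₁ * q₁ * k₁⁻¹ = c₁ ∧ k₁ * a₁ * k₁⁻¹ = z₁ ∧ k₁ * c₁ * k₁⁻¹ = q₁) ∧ (l₁ * z₁ * l₁⁻¹ = a₁ ∧
      l₁ * q₁ * l₁⁻¹ = a₁ * c₁ ∧ l₁ * a₁ * l₁⁻¹ = z₁ ∧ l₁ * c₁ * l₁⁻¹ = z₁ * q₁) ∧
    (k₁ * k₁ = 1 ∧ k₁ * d₁ * k₁⁻¹ * y₁⁻¹ = 1 ∧ (k₁ * w₁) ^ 3 = 1 ∧
      k₁ * (d₁ * y₁) * k₁⁻¹ * (d₁ * y₁)⁻¹ = 1) ∧
    l₁ * w₁ * l₁ * w₁ * l₁ * z₁ * (l₁ * w₁ * l₁ * w₁ * l₁)⁻¹ = z₁ ∧
    l₁ * w₁ * l₁ * w₁ * l₁ * a₁ * (l₁ * w₁ * l₁ * w₁ * l₁)⁻¹ * a₁ =
      a₁ * (l₁ * w₁ * l₁ * w₁ * l₁ * a₁ * (l₁ * w₁ * l₁ * w₁ * l₁)⁻¹) ∧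
    l₁ * w₁ * l₁ * w₁ * l₁ * q₁ * (l₁ * w₁ * l₁ * w₁ * l₁)⁻¹ ≠ q₁ := by decide +kernel

theorem K2.exists_k [Finite G] (H : K2 z q r s t a b d p c g) : ∃ k, k * k = 1 ∧ k * z * k⁻¹ = a ∧
    k * q * k⁻¹ = c ∧ k * d * k⁻¹ = g * p * d ∧ (k * (p * a * p)) ^ 3 = 1 := by
  obtain ⟨⟨z2, q2, p2, a2, -, c2, d3⟩, ⟨qz, pz, pq, dz, dq, dp, -⟩, ⟨az, aq, cz, cq, ca, dc⟩, z1, qn,
    -, a1', -⟩ := H.rel
  obtain ⟨gq, gz, ga, gd, gp, gc, -, gy⟩ := H.mM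
  obtain ⟨f1, ⟨f2, f3, f4, f5, f6⟩, ⟨f7, f8, f9, f10⟩, f11, f12⟩ := fP2
  obtain ⟨⟨u1, u2, u3, u4⟩, ⟨u5, u6, u7, u8⟩, ⟨u9, u10, u11, u12⟩, ⟨u13, u14, u15, u16⟩,
    ⟨u17, u18, u19, u20⟩, ⟨v1, v2, v3, v4⟩, v5, v6, v7⟩ := fP3
  generalize g * p * d = y at *
  have EM : ΔE ≤ ΔM := gr_le (by simp [gq, gz, ga, gc])
  have f := @H.fnM.eq
  have yz : q = y * z * y⁻¹ := f (by gm) (by gm) f2
  have yq : z * q = y * q * y⁻¹ := f (by gm) (by gm) f3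
  have ya : y * a = a * y := f (by gm) (by gm) f4
  have yc : y * c = c * y := f (by gm) (by gm) f5
  have dy : d * y = y * d := f (by gm) (by gm) f6
  have wa : p * a * p * a * (p * a * p)⁻¹ = z * a := f (by gm) (by gm) f7
  have wc : p * a * p * c * (p * a * p)⁻¹ = q * c := f (by gm) (by gm) f8
  have wq : p * a * p * q = q * (p * a * p) := f (by gm) (by gm) f9
  have wx : p * a * p * (d * y) = d * y * (p * a * p) := f (by gm) (by gm) f10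
  have wz : p * a * p * z = z * (p * a * p) := (Commute.mul_left (Commute.mul_left pz az) pz).eq
  generalize p * a * p = w at *
  have an : a ≠ z := fun e => f11 (H.injM.eq ga gz e)
  have liftE : ∀ {x}, x * z = z * x → x * a = a * x → ∃ x0 ∈ LE, (x0, x) ∈ ΔM := fun h1 h2 => by
    obtain ⟨x0, m0, m⟩ := H.liftE h1 h2
    exact ⟨x0, memE _ m0, EM m⟩
  have F1 : ∀ {x}, x * z = z * x → x * a * x⁻¹ * a = a * (x * a * x⁻¹) → x * q = q * x :=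
    fun h1 h2 => by
      obtain ⟨x0, m0, m⟩ := H.lift h1
      obtain ⟨hq, -, -, -, -, ha, -⟩ := H.m
      exact H.fn.eq (by gm) (by gm) (fP1 x0 m0 (H.inj.eq (by gm) (by gm) h2))
  obtain ⟨k, e1, e2⟩ : ∃ k, k * z * k⁻¹ = a ∧ k * a * k⁻¹ = z := by
    obtain ⟨g0, e0⟩ := isConj_iff.mp H.za
    have w1 : g0⁻¹ * z * g0 * z = z * (g0⁻¹ * z * g0) := by
      have := cj_comm (g := g0⁻¹) az.symm
      rwa [← e0, inv_inv, show g0⁻¹ * (g0 * z * g0⁻¹) * g0 = z by group] at this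
    rcases H.invol w1 (by simp [mul_assoc, ← mul_assoc z z, z2]) with e | e | ⟨h, hz, e⟩ | ⟨h, hz, e⟩
    · exact absurd (by simpa [mul_assoc, inv_mul_eq_one] using e) z1
    · refine absurd ?_ an
      rw [← e0]
      conv_lhs => rw [← e]
      group
    · refine (H.noD (n := g0 * h) ?_ ?_).elim
      · rw [show z = g0 * h * q * (g0 * h)⁻¹ by rw [cj_mul', ← e]; group]
        exact cj_comm dq
      · rw [← e0, ← cj_of_comm hz, ← cj_mul']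
        exact cj_comm dz
    · exact ⟨g0 * h, by rw [cj_mul', cj_of_comm hz, e0], by rw [cj_mul', ← e]; group⟩
  have kq1 : k * q * k⁻¹ * z = z * (k * q * k⁻¹) := e2 ▸ cj_comm aq.symm
  have kq2 : k * q * k⁻¹ * a = a * (k * q * k⁻¹) := e1 ▸ cj_comm qz
  have kk : k * (k * q * k⁻¹) * k⁻¹ = q := by
    rw [← cj_mul']
    exact cj_of_comm ((H.fE' (comm_of_cj (by rw [cj_mul', e1, e2]))
      (comm_of_cj (by rw [cj_mul', e2, e1]))).2.2.1 q qz aq.symm)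
  have kq3 : k * q * k⁻¹ * y = y * (k * q * k⁻¹) := by
    have := F1 (x := k * y * k⁻¹) (e2 ▸ cj_comm ya) (by
      rw [← e1, conj_inv, conj_mul, conj_mul, ← yz, e1, kq2])
    rw [← kk, conj_mul, conj_mul] at this
    exact (mul_left_cancel (mul_right_cancel this)).symm
  have sat : Sat cE.RL [z, q, a, c] := Sat.tr H.fnM (xs := gE) (ys := [z, q, a, c]) (S := [0, 1, 2, 3])
    ⟨gz, gq, ga, gc, trivial⟩ (by decide) f12
  have fn : Fn ΔA := fn_of_le (leE (satE1.zip sat)) chE1_card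
  have inj : Inj ΔA := inj_of_le (leE (satE1.zip sat)) (by
    rw [card_gr (H.fnM.mono EM) (H.injM.mono EM)]; exact chE_card)
  have mz : (z₁, z) ∈ ΔA := mem_clo (by simp)
  have mq : (q₁, q) ∈ ΔA := mem_clo (by simp)
  have ma : (a₁, a) ∈ ΔA := mem_clo (by simp)
  have mc : (c₁, c) ∈ ΔA := mem_clo (by simp)
  have N : ∀ {n0 : Γa} {n : G}, (n0 * z₁ * n0⁻¹, n * z * n⁻¹) ∈ ΔA → (n0 * q₁ * n0⁻¹, n * q * n⁻¹) ∈ ΔA →
      (n0 * a₁ * n0⁻¹, n * a * n⁻¹) ∈ ΔA → (n0 * c₁ * n0⁻¹, n * c * n⁻¹) ∈ ΔA →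
      (n0, n) ∈ normalizer (ΔA : Set (Γa × G)) := fun h1 h2 h3 h4 => norm_clo (by simpa using ⟨h1, h2, h3, h4⟩)
  have nj : ∀ {n0 x0 : Γa} {n x : G}, (n0, n) ∈ normalizer (ΔA : Set (Γa × G)) → (x0, x) ∈ ΔA →
      (n0 * x0 * n0⁻¹, n * x * n⁻¹) ∈ ΔA := fun h1 h2 => (mem_normalizer_iff.mp h1 _).mp h2
  have nd := N (n := d) (by rw [u1, cj_of_comm dz]; gm) (by rw [u2, cj_of_comm dq]; gm)
    (by rw [u3, ← H.ec]; gm) (by rw [u4, dc]; gm)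
  have ny := N (n := y) (by rw [u5, ← yz]; gm) (by rw [u6, ← yq]; gm)
    (by rw [u7, cj_of_comm ya]; gm) (by rw [u8, cj_of_comm yc]; gm)
  have nw := N (n := w) (by rw [u9, cj_of_comm wz]; gm) (by rw [u10, cj_of_comm wq]; gm)
    (by rw [u11, wa]; gm) (by rw [u12, wc]; gm)
  have triv : ∀ {n0 : Γa} {n : G}, (n0, n) ∈ normalizer (ΔA : Set (Γa × G)) → n0 = 1 →
      ∃ x0 ∈ LE, (x0, n) ∈ ΔM := fun h e => liftE
    (comm_of_cj (fn.eq (nj h mz) mz (by simp [e]))) (comm_of_cj (fn.eq (nj h ma) ma (by simp [e])))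
  obtain ⟨x0, m0, m⟩ := liftE kq1 kq2
  rcases (f1 x0 m0).1 (H.injM.eq (by gm) (by gm) kq3) with e | e | e | e
  · have : q = 1 := by simpa using f m pm_one e
    exact absurd (by simpa [this] using yz.symm) z1
  · exact absurd (by simpa using (f m ga e).trans e1.symm) qn
  · have e3 := f m gc e
    have e3' : k * c * k⁻¹ = q := by rwa [e3] at kk
    have nk := N (n := k) (by rw [u13, e1]; gm) (by rw [u14, e3]; gm) (by rw [u15, e2]; gm)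
      (by rw [u16, e3']; gm)
    obtain ⟨e0, m1, m2⟩ := triv (n := k * (d * y) * k⁻¹ * (d * y)⁻¹) (by gm) v4
    obtain ⟨h0, m3, m4⟩ := (f1 e0 m1).2.2
    obtain ⟨h, -, m5⟩ := gr_right [z, q, a, c] (LE_mem _ m3)
    have m6 := EM m5
    have hx : h * (d * y) * h⁻¹ = k * (d * y) * k⁻¹ := by
      rw [f (y := h * (d * y) * h⁻¹) (y' := k * (d * y) * k⁻¹ * (d * y)⁻¹ * (d * y)) (by gm) (by gm) m4]
      group
    have hE : ∀ v0 v, (v0, v) ∈ ΔM → v0 ∈ gE → h⁻¹ * v * h⁻¹⁻¹ = v := fun v0 v k1 k2 =>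
      cj_of_comm (Commute.inv_left (f (by gm) (by gm) ((fE h0 m3).2.2.1 v0 k2))).eq
    have nh := N (n0 := 1) (n := h⁻¹) (by rw [hE _ _ gz (by simp)]; simpa using mz)
      (by rw [hE _ _ gq (by simp)]; simpa using mq) (by rw [hE _ _ ga (by simp)]; simpa using ma)
      (by rw [hE _ _ gc (by simp)]; simpa using mc)
    have nk' : (k₁, h⁻¹ * k) ∈ normalizer (ΔA : Set (Γa × G)) := by simpa using pm_mul nh nk
    have kx : Commute (h⁻¹ * k) (d * y) := comm_of_cj (by rw [cj_mul', ← hx]; group)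
    have e4 : h⁻¹ * k * z * (h⁻¹ * k)⁻¹ = a := by rw [cj_mul', e1, hE _ _ ga (by simp)]
    have e5 : h⁻¹ * k * q * (h⁻¹ * k)⁻¹ = c := by rw [cj_mul', e3, hE _ _ gc (by simp)]
    generalize h⁻¹ * k = k at *
    have one : ∀ {n0 : Γa} {n : G}, (n0, n) ∈ normalizer (ΔA : Set (Γa × G)) → n0 = 1 →
        Commute n (d * y) → n = 1 := fun h e k1 => by
      obtain ⟨x0, m0, m⟩ := triv h e
      exact f m pm_one ((f1 x0 m0).2.1 (H.injM.eq (by gm) (by gm) k1.eq))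
    have c1 : Commute d (d * y) := (Commute.refl d).mul_right dy
    have c2 : Commute y (d * y) := Commute.mul_right dy.symm (Commute.refl y)
    exact ⟨k, one (by gm) v1 (kx.mul_left kx), e4, e5, mul_inv_eq_one.mp (one (by gm) v2
      (((kx.mul_left c1).mul_left kx.inv_left).mul_left c2.inv_left)),
      one (by gm) v3 ((kx.mul_left wx).pow_left 3)⟩
  · have e3 : k * q * k⁻¹ = a * c := f m (by gm) e
    have e3' : k * c * k⁻¹ = z * q := by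
      rw [e3, ← conj_mul, e2, ← mul_left_cancel_iff (a := z), ← mul_assoc z z, z2, one_mul] at kk
      exact kk
    have nk := N (n := k) (by rw [u17, e1]; gm) (by rw [u18, e3]; gm) (by rw [u19, e2]; gm)
      (by rw [u20, e3']; gm)
    have nn : (l₁ * w₁ * l₁ * w₁ * l₁, k * w * k * w * k) ∈ normalizer (ΔA : Set (Γa × G)) := by gm
    have h1 := nj nn ma
    exact absurd (inj.eq (nj nn mq) mq (cj_of_comm (F1 (comm_of_cj (fn.eq (nj nn mz) mz v5))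
      (fn.eq (pm_mul h1 ma) (pm_mul ma h1) v6)))) v7

end Cfsg.Agent.HJ
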