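/-
Groups of `J₃` type: the centraliser of an element of order three and the defining relations.
-/
import Cfsg.Agent.HJ.J3B

set_option autoImplicit false
set_option maxRecDepth 100000

namespace Cfsg.Agent.HJ

open Subgroup A4

theorem six' {L : Type*} [Group L] [Finite L] {z q p g w j d : L} (hd : ∀ x, x * d = d * x)
    (d3 : d ^ 3 = 1) (d1 : d ≠ 1) (z2 : z * z = 1) (z1 : z ≠ 1)
    (q2 : q * q = 1) (p2 : p * p = 1) (g2 : g * g = 1) (w2 : w * w = 1) (j2 : j * j = 1)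
    (hz : q * p * (q * p) = z) (gz : g * z * g⁻¹ = q) (wz : w * z * w⁻¹ = p) (qz : q * z = z * q)
    (pz : p * z = z * p) (hC : ∀ x, x * z = z * x → x ∈ clo [q, p, z, d]) (h1 : (g * p) ^ 3 = 1)
    (h2 : (g * p * z) ^ 3 = 1) (h3 : (z * j) ^ 3 = 1) (h4 : g * p * j * (g * p * j) = 1) :
    Nat.card L = 1080 ∧ (j * g) ^ 3 = 1 := by
  have : Fact (Nat.Prime 3) := ⟨Nat.prime_three⟩
  have hc : zpowers d ≤ center L := zpowers_le.mpr (mem_center_iff.mpr hd)
  have : (zpowers d).Normal := ⟨fun x hx g => by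
    rwa [mem_center_iff.mp (hc hx) g, mul_inv_cancel_right]⟩
  have c3 : ∀ v ∈ zpowers d, v ^ 3 = 1 := fun v hv => by
    obtain ⟨n, rfl⟩ := mem_zpowers_iff.mp hv
    rw [← zpow_natCast, ← zpow_mul, mul_comm, zpow_mul, zpow_natCast, d3, one_zpow]
  let φ := QuotientGroup.mk' (zpowers d)
  have k : ∀ x, φ x = 1 ↔ x ∈ zpowers d := fun x => QuotientGroup.eq_one_iff x
  have m : ∀ {x y}, x = y → φ x = φ y := congrArg φ
  have mq : φ q ∈ closure {φ q, φ p} := subset_closure (by simp)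
  have mp : φ p ∈ closure {φ q, φ p} := subset_closure (by simp)
  obtain ⟨e1, e2⟩ := six (z := φ z) (q := φ q) (p := φ p) (g := φ g) (w := φ w) (j := φ j)
    (by simpa using m z2) (fun e => z1 (eq_one_of_sq_cube z2 (c3 _ ((k z).mp e))))
    (by simpa using m q2) (by simpa using m p2) (by simpa using m g2) (by simpa using m w2)
    (by simpa using m j2) (by simpa using m hz) (by simpa using m gz) (by simpa using m wz)
    (fun x => ⟨fun hx => by
      obtain ⟨x, rfl⟩ := QuotientGroup.mk'_surjective _ x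
      have h5 : z * (x * z * x⁻¹) ∈ zpowers d := (k _).mp (by
        rw [map_mul, map_mul, map_mul, hx, map_inv, mul_inv_cancel_right, ← map_mul, z2, map_one])
      have h6 : z * (x * z * x⁻¹) = 1 := eq_one_of_sq_cube (by
        rw [mul_assoc, mem_center_iff.mp (hc h5), mul_assoc, conj_mul, z2]; simp [z2]) (c3 _ h5)
      refine clo_le (K := (closure {φ q, φ p}).comap φ) ?_ (hC x (comm_of_cj ?_))
      · simp only [List.forall_mem_cons, mem_comap]
        refine ⟨mq, mp, ?_, (k d).mpr (mem_zpowers d) ▸ one_mem _, by simp⟩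
        rw [← hz, map_mul, map_mul]
        exact mul_mem (mul_mem mq mp) (mul_mem mq mp)
      · rw [eq_inv_of_mul_eq_one_right h6, inv_eq_of_sq z2],
    fun hx => mem_centralizer_singleton_iff.mp ((closure_le _).mpr (by
      simp only [Set.insert_subset_iff, Set.singleton_subset_iff, SetLike.mem_coe,
        mem_centralizer_singleton_iff, ← map_mul, qz, pz, and_self]) hx)⟩)
    (by simpa using m h1) (by simpa using m h2) (by simpa using m h3) (by simpa using m h4)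
  refine ⟨by rw [card_eq_card_quotient_mul_card_subgroup (zpowers d), e1, Nat.card_zpowers,
    orderOf_eq_prime d3 d1], ?_⟩
  have h5 := (k ((j * g) ^ 3)).mp (by simpa using e2)
  refine eq_one_of_sq_cube ?_ (c3 _ h5)
  have h6 : g * (j * g) ^ 3 * g⁻¹ = ((j * g) ^ 3)⁻¹ := by
    rw [← conj_pow, ← inv_pow, mul_inv_rev, inv_eq_of_sq j2, mul_assoc, mul_inv_cancel_right,
      inv_eq_of_sq g2]
  rw [mem_center_iff.mp (hc h5), mul_inv_cancel_right] at h6
  exact mul_eq_one_iff_eq_inv.mpr h6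

theorem fY : ∀ x ∈ clo gY, (x * z₂ = z₂ * x → x ∈ LD2) ∧ (x * z₂ * x⁻¹ = p₂ → x * x = 1 →
    (x * q₂) ^ 3 = 1 → x * (j₂ * (z₂ * (p₂ * j₂))) = 1 ∨
      x * (j₂ * (z₂ * (p₂ * (j₂ * (z₂ * p₂))))) = 1) := enumY.all (by decide +kernel)

theorem fY2 : z₂ * z₂ = 1 ∧ q₂ * q₂ = 1 ∧ q₂ = g₂ * z₂ * g₂⁻¹ ∧
    z₂ * q₂ = p₂ * g₂ * z₂ * (p₂ * g₂)⁻¹ := by decide +kernel

theorem fY3 : q0 * p0 * (q0 * p0) = z0 ∧ (g0 * p0 * z0) ^ 3 = 1 := by decide +kernel

def RC1 : List (List ℕ) := [[0, 2, 0, 2, 8], [0, 4, 0, 4, 8], [0, 6, 0, 6, 8], [2, 4, 2, 4, 8],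
  [2, 6, 2, 6, 8], [4, 6, 4, 6, 8], [0, 8, 0, 8], [2, 8, 2, 8], [4, 8, 4, 8], [6, 8, 6, 8],
  [22, 22, 22], [22, 10, 22, 10, 22, 10], [10, 12, 10, 12, 10, 12], [22, 12, 22, 12], [10, 0, 10, 0],
  [10, 2, 10, 4], [10, 6, 10, 14], [10, 8, 10, 8], [12, 0, 12, 14], [12, 2, 12, 4], [12, 6, 12, 6],
  [12, 8, 12, 8], [22, 0, 23, 0], [22, 2, 23, 4], [22, 4, 23, 6], [22, 6, 23, 2], [22, 8, 23, 8],
  [14, 0, 2, 4, 6], [0, 0], [2, 2], [4, 4], [6, 6], [8, 8], [10, 10], [12, 12], [14, 14]]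
def RC2 : List (List ℕ) := [[16, 8, 16, 0], [16, 22, 16, 23], [16, 14, 16, 14, 16, 14],
  [16, 2, 4, 16, 2, 10, 6], [16, 16]]
def RC3 : List (List ℕ) := [[18, 8, 18, 10], [18, 0, 18, 22, 10, 23], [18, 22, 18, 23, 14, 16],
  [18, 14, 10, 14, 18, 14, 10, 14, 18, 14, 10, 14], [20, 18, 14, 18, 14, 18],
  [20, 16, 20, 16, 20, 16], [18, 18], [20, 20]]

theorem satC : Sat RC1 [q0, r0, s0, t0, z0, a0, b0, p0, g0, 1, 1, d0] ∧
    Sat RC2 [q0, r0, s0, t0, z0, a0, b0, p0, g0, 1, 1, d0] := by decide +kernel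

variable {G : Type*} [Group G] [Finite G] {z q r s t a b d p c g : G}

set_option hygiene false in
local notation "ΔH" => gr gH [q, r, s, t, z, a, b, d]
set_option hygiene false in
local notation "ΔY" => gr gY [q, p, z, d, g, j]

theorem K2.pres (H : K2 z q r s t a b d p c g) : ∃ k j, k * z * k⁻¹ = a ∧
    Sat (RC1 ++ RC2 ++ RC3) [q, r, s, t, z, a, b, p, g, k, j, d] ∧
    (b * (g * (b * (j * (z * (p * j))))) = 1 ∨ b * (g * (b * (j * (z * (p * (j * (z * p))))))) = 1) := by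
  obtain ⟨⟨z2, q2, p2, a2, b2, -, d3⟩, ⟨qz, pz, pq, dz, dq, dp, bz, bq, bd⟩, -, z1, qn, dn, -⟩ := H.rel
  obtain ⟨gq, gr', gs, gt, gz, ga, gb, gd, gp, gc⟩ := H.m
  obtain ⟨k, k2, kz, kq, kd, kw⟩ := H.exists_k
  have g2 := H.g2
  have ki := inv_eq_of_sq k2
  have pi := inv_eq_of_sq p2
  have gi := inv_eq_of_sq g2
  have bi := inv_eq_of_sq b2
  have cd : Commute (g * p) d := Commute.mul_left H.gd dp.symm
  have d2 : d * d = d⁻¹ := eq_inv_of_mul_eq_one_left (by rw [← d3, pow_three, mul_assoc])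
  have ky : k * (g * p * d) * k⁻¹ = d := by rw [← kd, ← cj_mul', k2]; simp
  have kx : k * (g * p * d⁻¹)⁻¹ * k⁻¹ = (g * p * d⁻¹)⁻¹ := by
    rw [← conj_inv, ← d2, ← mul_assoc (g * p), ← conj_mul, ky, kd, ← mul_assoc d, ← cd.eq]
  have py : p * (g * p * d) * p⁻¹ = (g * p * d⁻¹)⁻¹ := by
    rw [mul_assoc, mul_assoc, (Commute.inv_right dp).eq, pi, mul_assoc, ← mul_assoc p p, p2,
      mul_inv_rev, mul_inv_rev, pi, gi, inv_inv, one_mul, H.gd, ← mul_assoc, ← dp, mul_assoc]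
  have px : p * (g * p * d⁻¹)⁻¹ * p⁻¹ = g * p * d := by rw [← py, ← cj_mul', p2]; simp
  obtain ⟨j, ej⟩ : ∃ j, j = k * p * k * p * k := ⟨_, rfl⟩
  have ej' : j = k * p * k * (k * p)⁻¹ := by rw [ej, mul_inv_rev, ki, pi, mul_assoc (k * p * k)]
  have j2 : j * j = 1 := by rw [ej', conj_mul, k2]; simp
  have jd : j * d = d * j := comm_of_cj (by
    rw [ej, cj_mul', cj_mul', cj_mul', cj_mul', kd, py, kx, px, ky])
  have jy : j * (g * p * d) * j⁻¹ = (g * p * d⁻¹)⁻¹ := by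
    rw [ej, cj_mul', cj_mul', cj_mul', cj_mul', ky, cj_of_comm dp.symm, kd, py, kx]
  have ju : g * p * j * (g * p * j) = 1 := by
    rw [← conj_mul, cj_of_comm jd, mul_inv_rev, inv_inv, ← cd.inv_left.eq, mul_left_inj,
      inv_eq_of_sq j2] at jy
    rw [mul_assoc, ← mul_assoc j, jy, mul_inv_cancel]
  have jz : (j * z) ^ 3 = 1 := by
    have : j * z = k * p * (k * (p * a * p)) * (k * p)⁻¹ := by
      rw [← conj_mul, ← ej', ← kz, ki, mul_inv_rev, ki, pi]
      simp only [mul_assoc, ← mul_assoc p p, ← mul_assoc k k, p2, k2, one_mul, mul_one]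
    rw [this, conj_pow, kw]; simp
  have bp : b * p * b⁻¹ = q := by rw [← bq, ← cj_mul', b2]; simp
  have wd : b * g * b⁻¹ * d = d * (b * g * b⁻¹) := by
    have := cj_comm (g := b) (Commute.inv_right H.gd).eq
    rwa [← conj_inv (a := d), bd, inv_inv] at this
  have w2 : b * g * b⁻¹ * (b * g * b⁻¹) = 1 := by rw [conj_mul, g2]; simp
  have wz : b * g * b⁻¹ * z * (b * g * b⁻¹)⁻¹ = p := by
    rw [cj_mul', cj_mul', cj_of_comm (Commute.inv_left bz).eq, H.gz, bq]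
  have wq : (b * g * b⁻¹ * q) ^ 3 = 1 := by rw [← bp, conj_mul, conj_pow, H.gp]; simp
  have D1 : gr gD [q, p, z, d] ≤ ΔH := gr_le (by simp [gq, gz, gd, gp])
  have cD : ∀ x, x * d = d * x → x * z = z * x → x ∈ clo [q, p, z, d] := fun x h1 h2 => by
    obtain ⟨x0, m0, m⟩ := H.lift h2
    exact (mem_of_gr H.fn D1 m (LD_mem _ ((fH x0 m0).2.2 (H.inj.eq (by gm) (by gm) h1)))).1
  have mc : ∀ {x}, x * d = d * x → x ∈ centralizer ({d} : Set G) := mem_centralizer_singleton_iff.mpr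
  have hz : q * p * (q * p) = z := H.fn.eq (by gm) gz fY3.1
  have h2 : (g * p * z) ^ 3 = 1 := by
    obtain ⟨-, gz, -, -, gp, -, gg, -⟩ := H.mM
    exact H.fnM.eq (by gm) pm_one fY3.2
  have zj : (z * j) ^ 3 = 1 := by
    rw [show z * j = z * (j * z) * z⁻¹ by group, conj_pow, jz]; simp
  obtain ⟨cL, jg⟩ := six' (L := centralizer ({d} : Set G)) (z := ⟨z, mc dz.symm⟩)
    (q := ⟨q, mc dq.symm⟩) (p := ⟨p, mc dp.symm⟩) (g := ⟨g, mc H.gd⟩) (w := ⟨_, mc wd⟩)
    (j := ⟨j, mc jd⟩) (d := ⟨d, mc rfl⟩)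
    (fun x => Subtype.ext (mem_centralizer_singleton_iff.mp x.2)) (Subtype.ext d3)
    (fun e => dn (by simp [show d = 1 from congrArg Subtype.val e])) (Subtype.ext z2)
    (fun e => z1 (congrArg Subtype.val e)) (Subtype.ext q2) (Subtype.ext p2) (Subtype.ext g2)
    (Subtype.ext w2) (Subtype.ext j2) (Subtype.ext hz) (Subtype.ext H.gz) (Subtype.ext wz)
    (Subtype.ext qz) (Subtype.ext pz) (fun x hx => by
      rw [← mem_map_iff_mem (subtype_injective _), clo_map]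
      exact cD x (mem_centralizer_singleton_iff.mp x.2) (congrArg Subtype.val hx))
    (Subtype.ext H.gp) (Subtype.ext h2) (Subtype.ext zj) (Subtype.ext ju)
  replace jg : (j * g) ^ 3 = 1 := congrArg Subtype.val jg
  have jgp : j * (g * (p * (j * (g * p)))) = 1 := by
    rw [← mul_assoc g, ← mul_assoc (g * p), ← mul_assoc j, mul_eq_one_comm, ← mul_assoc, ← mul_assoc]
    simpa only [mul_assoc] using ju
  have e7 : g * (z * (g * q)) = 1 := by
    have e1 := H.gz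
    rw [gi] at e1
    rw [← mul_assoc, ← mul_assoc, e1, q2]
  have e8 : ∀ {g}, g * g = 1 → g * d = d * g → g * (d * (g * d⁻¹)) = 1 := fun {g} h1 h2 => by
    rw [← mul_assoc, h2, mul_assoc, ← mul_assoc g g, h1]; simp
  have e9 := H.gp
  simp only [pow_succ, pow_zero, one_mul, mul_assoc] at jz jg kw e9
  have sX := satX
  simp only [cX.RL, Sat, List.forall_mem_append] at sX
  have sat : Sat cY.RL [q, p, z, d, g, j] := by
    refine Sat.append (Sat.append (Sat.tr H.fn (xs := gX) (ys := [q, p, z, d, g, j])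
      (S := [0, 1, 2, 3]) ⟨gq, gp, gz, gd, trivial⟩ (by decide) sX.1.1) ?_) ?_
    · simp only [Sat, cY.R2, List.forall_mem_cons]
      simp [atm, g2, e7, e8 g2 H.gd, e9]
    · simp only [Sat, cY.R3, List.forall_mem_cons]
      simp [atm, j2, jgp, jz, e8 j2 jd, jg]
  have fn : Fn ΔY := fn_of_le (leY (satY.zip sat)) chY_card
  have mq : (q₂, q) ∈ ΔY := mem_clo (by simp)
  have mp : (p₂, p) ∈ ΔY := mem_clo (by simp)
  have mz : (z₂, z) ∈ ΔY := mem_clo (by simp)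
  have mg : (g₂, g) ∈ ΔY := mem_clo (by simp)
  have mj : (j₂, j) ∈ ΔY := mem_clo (by simp)
  obtain ⟨f1, f2, f3, f4⟩ := fY2
  have inj : Inj ΔY := by
    refine inj_of_fpf mz mq f1 f2 (fun x m e => ?_) ⟨_, _, mg, f3⟩ ⟨_, _, pm_mul mp mg, f4⟩
    obtain ⟨y, -, m'⟩ := gr_right [q, p, z, d] (LD2_mem _ ((fY x (gr_mem m).1).1 e))
    have D2 : gr gD2 [q, p, z, d] ≤ ΔY := gr_le fun _ h => mem_clo (by simp at h ⊢; tauto)
    rw [fn.eq (D2 m') m rfl] at m'
    exact inj_of_le (ys := [q, p, z, d]) (leD (satD2.zip (sat.ren [0, 1, 2, 3] (by decide)))) (by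
      rw [card_gr (H.fn.mono D1) (H.inj.mono D1)]; exact chD_card) rfl x m'
  have eC : clo [q, p, z, d, g, j] = centralizer {d} := eq_of_le_of_card_ge
    (clo_le (by simp [mc dq.symm, mc dp.symm, mc dz.symm, mc rfl, mc H.gd, mc jd]))
    (by rw [cL, card_gr fn inj]; exact chY_card)
  obtain ⟨w0, m0, m⟩ := gr_left gY (eC ▸ mc wd)
  have e4 := (fY w0 m0).2 (inj.eq (by gm) mp wz) (inj.eq (by gm) pm_one w2) (inj.eq (by gm) pm_one wq)
  rw [bi] at m
  refine ⟨k, j, kz, Sat.append (Sat.append ?_ ?_) ?_, e4.imp (fun e => ?_) fun e => ?_⟩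
  · exact Sat.tr H.fn (xs := [q0, r0, s0, t0, z0, a0, b0, p0, g0, 1, 1, d0])
      (ys := [q, r, s, t, z, a, b, p, g, k, j, d]) (S := [0, 1, 2, 3, 4, 5, 6, 7, 11])
      ⟨gq, gr', gs, gt, gz, ga, gb, gp, gd, trivial⟩ (by decide) satC.1
  · obtain ⟨gq, gz, ga, gd, gp, -, gg, -⟩ := H.mM
    exact Sat.tr H.fnM (xs := [q0, r0, s0, t0, z0, a0, b0, p0, g0, 1, 1, d0])
      (ys := [q, r, s, t, z, a, b, p, g, k, j, d]) (S := [0, 1, 2, 3, 4, 5, 7, 8, 11])
      ⟨gq, mem_clo (by simp), mem_clo (by simp), mem_clo (by simp), gz, ga, gp, gg, gd, trivial⟩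
      (by decide) satC.2
  · rw [ki] at kz kq kd
    have e1 : k * (z * (k * a)) = 1 := by rw [← mul_assoc, ← mul_assoc, kz, a2]
    have e2 : k * (q * (k * (d * (a * d⁻¹)))) = 1 := by
      rw [← mul_assoc, ← mul_assoc, kq, ← mul_assoc d, ← H.ec, H.rel.1.2.2.2.2.2.1]
    have e3 : k * (d * (k * (d⁻¹ * (p * g)))) = 1 := by
      rw [← mul_assoc, ← mul_assoc, kd]
      simp only [mul_assoc, mul_inv_cancel_left, ← mul_assoc p p, p2, one_mul, g2]
    have e5 : j * (k * (p * (k * (p * k)))) = 1 := by rw [← j2]; congr 1; simp only [ej, mul_assoc]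
    simp only [Sat, RC3, List.forall_mem_cons]
    simp [atm, e1, e2, e3, e5, kw, jg, k2, j2]
  · simpa only [mul_assoc] using fn.eq (y := b * g * b * (j * (z * (p * j)))) (by gm) pm_one e
  · simpa only [mul_assoc] using
      fn.eq (y := b * g * b * (j * (z * (p * (j * (z * p)))))) (by gm) pm_one e

end Cfsg.Agent.HJ
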