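/-
Groups of `J₃` type: the relations define the third Janko group.
-/
import Cfsg.Agent.HJ.J3C
import Cfsg.Agent.Spor.J3h.Main
import Cfsg.Agent.Spor.J3k.Main
import Cfsg.Agent.Spor.J3M.Main
import Cfsg.Agent.Spor.MatG2

set_option autoImplicit false
set_option maxRecDepth 100000

namespace Cfsg.Agent.HJ

open Subgroup

section
variable {G : Type*} [Group G]

theorem ev_br (a : ℕ → G) (l : List ℕ) : Spor.ev a l = ev a l := by
  induction l with
  | nil => rfl
  | cons y l ih => rw [Spor.ev_cons, ev_cons, ih]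

theorem atm_br (gs : List G) : Spor.atm gs.length (gs.getD · 1) = atm gs := by
  funext y
  rw [Spor.atm_def, atm]
  split_ifs with h1 h2 h2
  · rfl
  · rfl
  · rw [List.getD_eq_default _ _ (by omega)]
  · rw [List.getD_eq_default _ _ (by omega), inv_one]

theorem gsub_br (gs : List G) : Spor.gsub gs.length (gs.getD · 1) = clo gs :=
  le_antisymm (Spor.gsub_le fun j hj => mem_clo (by
    rw [List.getD_eq_getElem _ _ hj]; exact List.getElem_mem hj)) (clo_le fun x hx => by
    obtain ⟨j, hj, rfl⟩ := List.getElem_of_mem hx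
    rw [← List.getD_eq_getElem _ 1 hj]
    exact Spor.mem_gsub (gs.getD · 1) hj)

theorem pres_br {gs : List G} {k : ℕ} {RL RL' : List (List ℕ)} (h : Sat RL gs)
    (h1 : ∀ j < k, [2 * j, 2 * j] ∈ RL) (h2 : ∀ l ∈ RL', l ∈ RL) :
    Spor.Pres gs.length k RL' (gs.getD · 1) :=
  ⟨fun j hj _ => by simpa [atm] using h _ (h1 j hj), fun l hl => by
    rw [atm_br, ev_br]; exact h l (h2 l hl)⟩

theorem card_dvd_of_fn {Γ : Type*} [Group Γ] {xs : List Γ} {ys : List G} (hf : Fn (gr xs ys))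
    (hl : xs.length = ys.length := by rfl) : Nat.card (clo ys) ∣ Nat.card (clo xs) := by
  have h := PLoc.card_map_mul_card_ker_inf (MonoidHom.fst Γ G) (gr xs ys)
  have e : (MonoidHom.fst Γ G).ker ⊓ gr xs ys = ⊥ := eq_bot_iff.mpr fun p hp => by
    obtain ⟨x, y⟩ := p
    obtain rfl : x = 1 := hp.1
    rw [hf y hp.2]; exact one_mem _
  rw [gr_fst hl, e, card_bot, mul_one] at h
  rw [h, ← gr_snd hl]
  exact card_map_dvd _ _

end

open _root_.Cfsg.Agent.Spor

theorem boundH : Bound 12 11 J3h.RL 50232960 := fun G _ f h => by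
  refine J3h.cert.card_dvd h (M := 1920) ?_
  have s := h.sq
  have r := h.rel
  simp only [J3h.RL, List.forall_mem_cons, Spor.ev_cons, Spor.ev_nil, Spor.atm_def] at r
  norm_num at r
  obtain ⟨r1, r2, r3, r4, r5, r6, r7, r8, r9, r10, r11, r12, r13, r14, r15, r16, r17, r18, r19, r20,
    r21, r22, r23, r24, r25, r26, r27, r28, -⟩ := r
  have s0 := s 0 (by omega) (by omega)
  have s1 := s 1 (by omega) (by omega)
  have s2 := s 2 (by omega) (by omega)
  have s3 := s 3 (by omega) (by omega)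
  have s4 := s 4 (by omega) (by omega)
  have s5 := s 5 (by omega) (by omega)
  have s6 := s 6 (by omega) (by omega)
  have s7 := s 7 (by omega) (by omega)
  have e : f 7 = f 0 * (f 1 * (f 2 * f 3)) := by
    rw [← inv_eq_of_sq s7]; exact inv_eq_of_mul_eq_one_right r28
  have k : ∀ {a r s : G}, a * (r * (a * s)) = 1 →
      a * (s * (a * r)) = 1 := fun {a r s} h4 => by
    rw [← mul_assoc, mul_eq_one_comm] at h4
    simpa only [mul_assoc] using h4
  have sat : Sat cH.RL [f 0, f 1, f 2, f 3, f 4, f 5, f 6, f 11] := by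
    rw [e] at r17 r19
    simp only [Sat, cH.RL, cH.R1, cH.R2, cH.R3, List.forall_mem_append, List.forall_mem_cons]
    simp [atm, inv_eq_of_sq s5, inv_eq_of_sq s6, k r16, k r20, *]
  refine (card_dvd_of_le (wsub_le ?_)).trans
    (cardH ▸ card_dvd_of_fn (fn_of_le (leH (satH.zip sat)) chH_card))
  have m : ∀ x ∈ [f 0, f 1, f 2, f 3, f 4, f 5, f 6, f 11],
    x ∈ clo [f 0, f 1, f 2, f 3, f 4, f 5, f 6, f 11] := fun x => mem_clo
  simp only [List.forall_mem_cons] at m
  have m7 := mul_mem m.1 (mul_mem m.2.1 (mul_mem m.2.2.1 m.2.2.2.1))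
  simp [J3h.BW, Spor.atm_def, e, m, m7]

def WD : List (List ℕ) := [[12, 20, 12], [12, 20, 14, 0], [16, 14, 23], [14, 18]]

theorem presW : Pres 4 1 J3a.RL (wv 12 J3h.fP WD) :=
  Pres.of_subList (WD := WD) J3h.hiv (consAll_sound J3h.hiv J3h.xrel
    (H := (List.range 20).map fun i => ([], i, true)) (by decide +kernel))

theorem neW : Spor.ev (Spor.atm 4 (wv 12 J3h.fP WD)) [0] ≠ 1 := by
  intro e
  have h := J3h.cert.pres
  have i := J3h.cert.self.index
  generalize J3h.fP = f at *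
  have r1 := h.rel [20, 18, 14, 18, 14, 18] (by decide)
  have r2 := h.rel [20, 16, 20, 16, 20, 16] (by decide)
  simp [wv, WD, Spor.atm_def] at e r1 r2
  have e1 : f 10 = 1 := by
    rw [mul_eq_one_comm, mul_assoc, h.sq 6 (by omega) (by omega), mul_one] at e; exact e
  have e2 : f 8 = 1 := by simpa [e1, ← mul_assoc, h.sq 8 (by omega) (by omega)] using r2
  have e3 : f 9 = 1 := by
    have : f 9 * f 7 * f 9 * (f 9 * f 7)⁻¹ = 1 := by
      rw [mul_inv_rev, inv_eq_of_sq (h.sq 7 (by omega) (by omega)),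
        inv_eq_of_sq (h.sq 9 (by omega) (by omega))]
      simpa [e1, mul_assoc] using r1
    exact conj_eq_one_iff.mp this
  rw [wsub_lift, subgroupOf_eq_top.mpr (gsub_le fun j hj => ?_), index_top] at i
  · omega
  have m : ∀ w ∈ J3h.BW, Spor.ev (Spor.atm 12 f) w ∈ wsub 12 f J3h.BW := fun w => mem_wsub f
  simp [J3h.BW, Spor.atm_def] at m
  interval_cases j <;> simp [J3h.BW, *]

theorem isoP : Nonempty (J3a.P ≃* gsub 12 J3h.fP) := by
  obtain ⟨e, -⟩ := iso_of_simple J3a.bound (by norm_num) J3a.cert.pres presW J3a.lbP J3a.simpleP neW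
  have h := boundH _ _ J3h.cert.pres
  have : Finite (gsub 12 J3h.fP) := Nat.finite_of_card_ne_zero (ne_zero_of_dvd_ne_zero (by norm_num) h)
  exact ⟨e.trans (MulEquiv.subgroupCongr (eq_of_le_of_card_ge (wsub_le_gsub 12 J3h.fP WD) (by
    exact (Nat.le_of_dvd (by norm_num) h).trans
      (J3a.cardP.symm.trans (Nat.card_congr e.toEquiv)).le)))⟩

variable {G : Type*} [Group G] [Finite G]

theorem iso_gsub {f : ℕ → G} (h : Pres 12 11 J3h.RL f) (h1 : f 0 ≠ 1) :
    Nonempty (J3a.P ≃* gsub 12 f) := by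
  obtain ⟨e⟩ := isoP
  let φ : G →* Shrink.{0} G := (Shrink.mulEquiv.symm : G ≃* Shrink.{0} G)
  have hφ : Function.Injective φ := (Shrink.mulEquiv.symm : G ≃* Shrink.{0} G).injective
  have := J3a.simpleP
  obtain ⟨e', -⟩ := iso_of_simple boundH (by norm_num) J3h.cert.pres (h.map φ)
    (by rw [← Nat.card_congr e.toEquiv, J3a.cardP]) e.symm.isSimpleGroup (w := [0])
    (by simpa [Spor.atm_def, map_eq_one_iff φ hφ] using h1)
  exact ⟨e.trans (e'.trans ((MulEquiv.subgroupCongr (gsub_map φ 12 f).symm).trans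
    (equivMapOfInjective _ φ hφ).symm))⟩

theorem collapse {f : ℕ → G} (h : Pres 12 11 J3k.RL f) : gsub 12 f ≤ wsub 12 f J3k.BW := by
  let φ : G →* Shrink.{0} G := (Shrink.mulEquiv.symm : G ≃* Shrink.{0} G)
  have hφ : Function.Injective φ := (Shrink.mulEquiv.symm : G ≃* Shrink.{0} G).injective
  have := relIndex_eq_one.mp (Nat.dvd_one.mp (J3k.cert.relIndex_dvd (h.map φ)))
  rwa [← gsub_map, ← wsub_map fun _ _ => rfl, map_le_map_iff_of_injective hφ] at this

theorem K2.iso {z q r s t a b d p c g : G} (H : K2 z q r s t a b d p c g) :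
    ∃ k, k * z * k⁻¹ = a ∧ ∃ G0 : Subgroup G, g ∈ G0 ∧ k ∈ G0 ∧ (∀ x, x * z = z * x → x ∈ G0) ∧
      Nonempty (J3a.P ≃* G0) := by
  obtain ⟨k, j, kz, sat, h⟩ := H.pres
  obtain ⟨-, -, -, z1, qn, -⟩ := H.rel
  rcases h with h | h
  · have sa : Sat (RC1 ++ RC2 ++ RC3 ++ [[12, 16, 12, 20, 8, 14, 20]])
        [q, r, s, t, z, a, b, p, g, k, j, d] := sat.append (by simpa [Sat, atm] using h)
    refine ⟨k, kz, clo [q, r, s, t, z, a, b, p, g, k, j, d], mem_clo (by simp), mem_clo (by simp),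
      fun x hx => clo_le (fun _ h => mem_clo (by simp at h ⊢; tauto)) ((H.eq x).mpr hx), ?_⟩
    rw [← gsub_br]
    exact iso_gsub (pres_br (k := 11) (RL' := J3h.RL) sa (by decide) (by decide)) fun e => z1 (by
      simpa [show q = 1 from e] using H.gz)
  · have sa : Sat (RC1 ++ RC2 ++ RC3 ++ [[12, 16, 12, 20, 8, 14, 20, 8, 14]])
        [q, r, s, t, z, a, b, p, g, k, j, d] := sat.append (by simpa [Sat, atm] using h)
    have h1 := collapse (pres_br (k := 11) (RL' := J3k.RL) sa (by decide) (by decide))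
      (mem_gsub _ (j := 8) (by decide))
    obtain ⟨gq, gr', gs, gt, gz, ga, gb, gd, gp, -⟩ := H.m
    have h2 := wsub_le (K := centralizer {z}) (by
      simp [J3k.BW, Spor.atm_def, mem_centralizer_singleton_iff, H.cz gq, H.cz gr', H.cz gs, H.cz gt,
        H.cz ga, H.cz gb, H.cz gd, H.cz gp]) h1
    exact absurd (H.gz.symm.trans (cj_of_comm (mem_centralizer_singleton_iff.mp h2))) qn

end Cfsg.Agent.HJ
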