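/-
Groups of `J₃` type: the involution centraliser is the split extension.
-/
import Cfsg.Agent.HJ.StepE

set_option autoImplicit false
set_option maxRecDepth 100000

namespace Cfsg.Agent.HJ

open Subgroup

noncomputable def L12 : List Γ :=
  [r0 * t0 * a0, d0 * (r0 * t0 * a0) * d0⁻¹, d0⁻¹ * (r0 * t0 * a0) * d0].flatMap fun m =>
    [1, z0, q0, z0 * q0].map (m * ·)

theorem fS1 : ∀ x ∈ clo gC, x * x * q0⁻¹ = 1 ∨ x * x * q0⁻¹ = z0 → ∃ e ∈ [a0, c0, a0 * c0],
    e ∈ I120 ∧ e⁻¹ * x ∈ LQ ∧ (e * (e⁻¹ * x) * e⁻¹ * z0 * (e⁻¹ * x) = q0 → x ∈ L12) :=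
  enumC.all (by decide +kernel)

theorem fS2 : (∀ x ∈ L12, ∀ y ∈ L12, x * y * (x * y) * z0⁻¹ = 1 ∨ x * y * (x * y) * z0⁻¹ = z0 →
    x * y ∈ LQ ∧ x * y * (x * y) = 1) ∧ r0 * t0 * (r0 * t0) = z0 ∧ r0 * t0 * q0 = q0 * (r0 * t0) ∧
    r0 * t0 * (a0 * (r0 * t0) * a0⁻¹) * z0 = q0 ∧ a0 * q0 * a0⁻¹ = q0 ∧ q0 * q0 = 1 ∧ q0 ≠ 1 ∧
    q0 ≠ z0 := by decide +kernel

variable {G : Type*} [Group G] [Finite G] {z : G} {Q : Subgroup G} (h : HypQ z Q)
include h

theorem HypQ.struct1 (hone : ∀ x, x * x = 1 → x ≠ 1 → IsConj z x) :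
    ∃ q r s t a b d, HD z q r s t a b d := by
  obtain ⟨q, r, s, t, mq, mr, ms, mt, sat⟩ := h.exists_gens
  set Δ := gr gQ [q, r, s, t, z] with hΔ
  have fn : Fn Δ := fn_of_le (leQ (satQ.zip sat)) chQ_card
  have gq : (q0, q) ∈ Δ := mem_clo (by simp)
  have gr' : (r0, r) ∈ Δ := mem_clo (by simp)
  have gs : (s0, s) ∈ Δ := mem_clo (by simp)
  have gt : (t0, t) ∈ Δ := mem_clo (by simp)
  have gz : (z0, z) ∈ Δ := mem_clo (by simp)
  have inj : Inj Δ := fun x m => by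
    rcases (fQ x (memQ x (gr_mem m).1)).2 with e | e | ⟨w, hw, e⟩
    · exact e
    · exact absurd (fn.eq m gz e).symm h.z1
    · obtain ⟨w', -, m'⟩ := gr_right [q, r, s, t, z]
        (show w ∈ clo gQ from mem_clo (by simp at hw ⊢; tauto))
      exact absurd (by simpa using (fn.eq (y := 1 * w' * 1⁻¹ * w'⁻¹) (by gm) gz e).symm) h.z1
  have eQ : clo [q, r, s, t, z] = Q :=
    eq_of_le_of_card_ge (clo_le (by simp [*, h.zmem])) (by rw [h.card, card_gr fn inj]; exact chQ_card)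
  set N := normalizer (Δ : Set (Γ × G)) with hN
  have L1 : ∀ x, x * z = z * x → ((1 : Γ), x) ∈ N → x = 1 ∨ x = z := fun x hx m =>
    h.cent x hx fun y hy => by
      obtain ⟨y0, -, m'⟩ := gr_left gQ (eQ ▸ hy)
      have := fn.eq (nconj m m') m' (by simp)
      rwa [mul_inv_eq_iff_eq_mul] at this
  have zN : ((1 : Γ), z) ∈ N := PLoc.mem_normalizer_of_conj_mem fun p hp => by
    have := h.le _ (eQ ▸ (gr_mem (x := p.1) (y := p.2) hp).2)
    have e : ((1 : Γ), z) * p * ((1 : Γ), z)⁻¹ = p := Prod.ext (by simp) (by simp [← this])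
    rwa [e]
  obtain ⟨e, he⟩ := exists_equiv_gr fn inj
  have hle : centralizer ({z} : Set G) ≤ normalizer (clo [q, r, s, t, z] : Set G) := fun x hx => by
    rw [eQ]; exact PLoc.mem_normalizer_of_conj_mem (h.norm x (mem_centralizer_singleton_iff.mp hx))
  let ρ : centralizer ({z} : Set G) →* MulAut (clo gQ) := (MulAut.congr e.symm).toMonoidHom.comp
    ((clo [q, r, s, t, z]).normalizerMonoidHom.comp (inclusion hle))
  have hρ : ∀ x (y : clo gQ), (e (ρ x y) : G) = x * e y * (x : G)⁻¹ := fun x y => by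
    simp [ρ, normalizerMonoidHom]; rfl
  have toN : ∀ (h0 : Γ) x, (∀ y : clo gQ, (ρ x y : Γ) = h0 * y * h0⁻¹) → (h0, (x : G)) ∈ N :=
    fun h0 x hx => PLoc.mem_normalizer_of_conj_mem fun p hp => by
      have m := gr_mem (x := p.1) (y := p.2) hp
      have m1 := he (ρ x ⟨p.1, m.1⟩)
      rw [hρ, hx, ← fn.eq hp (he ⟨p.1, m.1⟩) rfl] at m1
      exact m1
  have cρ : 960 ≤ Nat.card ρ.range := by
    have h1 := card_mul_index ρ.ker
    rw [index_ker, h.cardH] at h1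
    have h2 : Nat.card ρ.ker ≤ 2 := by
      classical
      have := Nat.card_le_card_of_injective
        (fun x : ρ.ker => (⟨x.1.1, by
          simpa using L1 _ (mem_centralizer_singleton_iff.mp x.1.2) (toN 1 x.1 fun y => by
            rw [MonoidHom.mem_ker.mp x.2]; simp)⟩ : ({1, z} : Finset G)))
        fun a b e => Subtype.ext (Subtype.ext (congrArg (fun y : ({1, z} : Finset G) => (y : G)) e))
      rw [Nat.card_eq_finsetCard] at this
      exact this.trans Finset.card_le_two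
    nlinarith
  have L2 : ∀ h0 ∈ clo gH, h0 ^ 3 = 1 → ∃ x, x * z = z * x ∧ x ^ 3 = 1 ∧ (h0, x) ∈ N := by
    intro h0 m h3
    let κ := (clo gQ).normalizerMonoidHom ⟨h0, normQ m⟩
    have k3 : κ ^ 3 = 1 := by rw [← map_pow, show (⟨h0, normQ m⟩ : normalizer _) ^ 3 = 1 from
      Subtype.ext h3, map_one]
    have h1 := card_mul_index ρ.range
    have h2 := card_aut
    have h4 : ρ.range.index ≠ 0 := index_ne_zero_of_finite
    have h5 : κ ∈ ρ.range := by
      have : ρ.range.index = 1 ∨ ρ.range.index = 2 := by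
        have : ρ.range.index ≤ 2 := by nlinarith
        omega
      rcases this with e | e
      · rw [index_eq_one.mp e]; exact mem_top _
      · have := sq_mem_of_index_two e (κ ^ 2)
        rwa [← pow_mul, pow_succ, k3, one_mul] at this
    obtain ⟨x, hx⟩ := h5
    have m1 : (h0, (x : G)) ∈ N := toN h0 x fun y => by rw [hx]; rfl
    have xz := mem_centralizer_singleton_iff.mp x.2
    rcases L1 (x ^ 3) ((Commute.pow_left xz 3).eq) (h3 ▸ pm_pow m1) with e | e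
    · exact ⟨x, xz, e, m1⟩
    · refine ⟨x * z, by rw [mul_assoc, ← mul_assoc z, ← xz, mul_assoc], ?_, by simpa using pm_mul m1 zN⟩
      rw [Commute.mul_pow xz, e, ← pow_succ', show 3 + 1 = 2 * 2 from rfl, pow_mul, pow_two z, h.z2,
        one_pow]
  obtain ⟨f1, f2, f3, f4, f5, f6⟩ := fA2
  have ma : a0 ∈ clo gH := mem_clo (by simp)
  have mb : b0 ∈ clo gH := mem_clo (by simp)
  have md : d0 ∈ clo gH := mem_clo (by simp)
  obtain ⟨d, dz, d3, gd⟩ := L2 d0 md f3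
  obtain ⟨x1, x1z, x13, g1⟩ := L2 _ (mul_mem md ma) f4
  obtain ⟨x2, x2z, x23, g2⟩ := L2 _ (mul_mem ma mb) f5
  obtain ⟨a, rfl⟩ : ∃ a, x1 = d * a := ⟨d⁻¹ * x1, by simp⟩
  obtain ⟨b, rfl⟩ : ∃ b, x2 = a * b := ⟨a⁻¹ * x2, by simp⟩
  have ga : (a0, a) ∈ N := by simpa using pm_mul (pm_inv gd) g1
  have gb : (b0, b) ∈ N := by simpa using pm_mul (pm_inv ga) g2
  have cz : ∀ x, x * z = z * x ↔ x ∈ centralizer ({z} : Set G) :=
    fun x => mem_centralizer_singleton_iff.symm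
  rw [cz] at dz x1z x2z
  have az : a ∈ centralizer ({z} : Set G) := by simpa using mul_mem (inv_mem dz) x1z
  have bz : b ∈ centralizer ({z} : Set G) := by simpa using mul_mem (inv_mem az) x2z
  have sqe : ∀ x0 x y, (x0, x) ∈ N → (x0, y) ∈ N → x ∈ centralizer ({z} : Set G) →
      y ∈ centralizer ({z} : Set G) → x * x = y * y := fun x0 x y m1 m2 c1 c2 => by
    rcases L1 (x⁻¹ * y) ((cz _).mpr (mul_mem (inv_mem c1) c2))
      (by simpa using pm_mul (pm_inv m1) m2) with e | e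
    · rw [inv_mul_eq_one.mp e]
    · rw [inv_mul_eq_iff_eq_mul.mp e, mul_assoc, ← mul_assoc z, ← (cz _).mpr c1, mul_assoc, h.z2,
        mul_one]
  have a2 := L1 (a * a) ((cz _).mpr (mul_mem az az)) (f6 ▸ pm_mul ga ga)
  have cj : ∀ c0 c x, (c0, c) ∈ N → (c0 * a0 * c0⁻¹, x) ∈ N → c ∈ centralizer ({z} : Set G) →
      x ∈ centralizer ({z} : Set G) → x * x = a * a := fun c0 c x m1 m2 c1 c2 => by
    rw [sqe _ x (c * a * c⁻¹) m2 (by gm) c2 (mul_mem (mul_mem c1 az) (inv_mem c1)), conj_mul]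
    rcases a2 with e | e <;> rw [e]
    · simp
    · rw [(cz _).mpr c1]; simp
  have ΔN : Δ ≤ N := le_normalizer
  rcases a2 with a2 | a2
  · have b2 := cj _ _ b g2 (f1 ▸ gb) x2z bz
    have db2 := cj _ (d⁻¹ * a * b) (d * b) (by gm) (f2 ▸ pm_mul gd gb)
      (mul_mem (mul_mem (inv_mem dz) az) bz) (mul_mem dz bz)
    have sH := satH
    simp only [cH.RL, Sat, List.forall_mem_append] at sH
    have sat' : Sat cH.RL [q, r, s, t, z, a, b, d] := by
      refine Sat.append (Sat.append ?_ ?_) ?_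
      · exact Sat.tr fn (xs := gH) (ys := [q, r, s, t, z, a, b, d]) (S := [0, 1, 2, 3, 4])
          ⟨gq, gr', gs, gt, gz, trivial⟩ (by decide) sH.1.1
      · simp only [Sat, cH.R2, List.forall_mem_cons]
        simp only [pow_succ, pow_zero, one_mul, mul_assoc, a2] at d3 x13 x23 b2 db2
        simp [atm, a2, b2, d3, x13, x23, db2]
      · exact Sat.act fn (xs := gH) (ys := [q, r, s, t, z, a, b, d]) (S := [0, 1, 2, 3, 4])
          (J := [5, 6, 7]) ⟨gq, gr', gs, gt, gz, trivial⟩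
          ⟨ga, gb, gd, trivial⟩ (by decide) sH.2
    have fn' := fn_of_le (leH (satH.zip sat')) chH_card
    have le1 : gr gH [q, r, s, t, z, a, b, d] ≤ N :=
      gr_le (by simp [ΔN gq, ΔN gr', ΔN gs, ΔN gt, ΔN gz, ga, gb, gd])
    have inj' : Inj (gr gH [q, r, s, t, z, a, b, d]) := fun x m => by
      have k : ∀ w0 w, (w0, w) ∈ Δ → x * w0 = w0 * x := fun w0 w mw => by
        have := inj.eq (nconj (le1 m) mw) mw (by simp)
        rwa [mul_inv_eq_iff_eq_mul] at this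
      refine ((fH x (gr_mem m).1).2.1 (k _ _ gq) (k _ _ gr') (k _ _ gs) (k _ _ gt)).resolve_right
        fun e => h.z1 (fn'.eq (mem_clo (by simp)) m e.symm)
    refine ⟨q, r, s, t, a, b, d, sat', fn', inj', fun x => ?_⟩
    rw [cz, eq_of_le_of_card_ge (H := clo [q, r, s, t, z, a, b, d]) (K := centralizer {z})
      (clo_le (by simp [← cz, h.le, mq, mr, ms, mt, (cz _).mpr az, (cz _).mpr bz, (cz _).mpr dz]))
      (by rw [h.cardH, card_gr fn' inj']; exact chH_card)]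
  · let Λ := N ⊓ (clo gH).prod (centralizer ({z} : Set G))
    have s1 : Λ.map (MonoidHom.fst Γ G) = clo gH := by
      refine le_antisymm (by rintro _ ⟨p, hp, rfl⟩; exact hp.2.1) (clo_le ?_)
      have k : ∀ x0 x, x0 ∈ gH → (x0, x) ∈ N → x * z = z * x → x0 ∈ Λ.map (MonoidHom.fst Γ G) :=
        fun x0 x m1 m2 m3 => ⟨(x0, x), ⟨m2, mem_clo m1, (cz _).mp m3⟩, rfl⟩
      simp only [List.forall_mem_cons]
      exact ⟨k _ _ (by simp) (ΔN gq) (h.le _ mq), k _ _ (by simp) (ΔN gr') (h.le _ mr),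
        k _ _ (by simp) (ΔN gs) (h.le _ ms), k _ _ (by simp) (ΔN gt) (h.le _ mt),
        k _ _ (by simp) (ΔN gz) rfl, k _ _ (by simp) ga ((cz _).mpr az),
        k _ _ (by simp) gb ((cz _).mpr bz), k _ _ (by simp) gd ((cz _).mpr dz), by simp⟩
    have c1 := PLoc.card_map_mul_card_ker_inf (MonoidHom.fst Γ G) Λ
    have c2 := PLoc.card_map_mul_card_ker_inf (MonoidHom.snd Γ G) Λ
    have c3 : 2 ≤ Nat.card ((MonoidHom.fst Γ G).ker ⊓ Λ : Subgroup _) := by
      rw [Nat.succ_le_iff, Finite.one_lt_card_iff_nontrivial]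
      exact ⟨⟨⟨(1, z), rfl, zN, one_mem _, (cz _).mp rfl⟩, 1, fun e =>
        h.z1 (congrArg (fun p => p.1.2) e)⟩⟩
    have c4 : Nat.card ((MonoidHom.snd Γ G).ker ⊓ Λ : Subgroup _) ≤ 2 := by
      classical
      have := Nat.card_le_card_of_injective
        (fun x : ((MonoidHom.snd Γ G).ker ⊓ Λ : Subgroup _) => (⟨x.1.1, by
          have e : x.1.2 = 1 := x.2.1
          have m : (x.1.1, (1 : G)) ∈ N := e ▸ x.2.2.1
          have k : ∀ w0 w, (w0, w) ∈ Δ → x.1.1 * w0 = w0 * x.1.1 := fun w0 w mw => by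
            have := inj.eq (nconj m mw) mw (by simp)
            rwa [mul_inv_eq_iff_eq_mul] at this
          simpa using (fH _ x.2.2.2.1).2.1 (k _ _ gq) (k _ _ gr') (k _ _ gs) (k _ _ gt)⟩ :
            ({1, z0} : Finset Γ)))
        fun a b e => Subtype.ext (Prod.ext (congrArg (fun y : ({1, z0} : Finset Γ) => (y : Γ)) e)
          ((show a.1.2 = 1 from a.2.1).trans (show b.1.2 = 1 from b.2.1).symm))
      rw [Nat.card_eq_finsetCard] at this
      exact this.trans Finset.card_le_two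
    have s2 : Λ.map (MonoidHom.snd Γ G) = centralizer {z} := by
      refine eq_of_le_of_card_ge (by rintro _ ⟨p, hp, rfl⟩; exact hp.2.2) ?_
      have := chH_card
      rw [s1] at c1
      rw [h.cardH]
      nlinarith
    have lift : ∀ c0 ∈ clo gH, ∃ c ∈ centralizer ({z} : Set G), (c0, c) ∈ N := fun c0 m => by
      obtain ⟨p, hp, rfl⟩ : c0 ∈ Λ.map (MonoidHom.fst Γ G) := s1 ▸ m
      exact ⟨p.2, hp.2.2, hp.1⟩
    have up : ∀ x, x * z = z * x → ∃ x0 ∈ clo gH, (x0, x) ∈ N := fun x xz => by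
      obtain ⟨⟨x0, x⟩, ⟨m1, m2, -⟩, rfl⟩ : x ∈ Λ.map (MonoidHom.snd Γ G) := s2 ▸ (cz x).mp xz
      exact ⟨x0, m2, m1⟩
    have L3 : ∀ x0 ∈ clo gH, (x0, (1 : G)) ∈ N → x0 = 1 ∨ x0 = z0 := fun x0 m1 m => by
      have k : ∀ w0 w, (w0, w) ∈ Δ → x0 * w0 = w0 * x0 := fun w0 w mw => by
        have := inj.eq (nconj m mw) mw (by simp)
        rwa [mul_inv_eq_iff_eq_mul] at this
      exact (fH x0 m1).2.1 (k _ _ gq) (k _ _ gr') (k _ _ gs) (k _ _ gt)
    have sI : ∀ x0 x, x0 ∈ I120 → (x0, x) ∈ N → x * z = z * x → x * x = z := fun x0 x e m1 m3 => by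
      rw [I120_eq, List.mem_map] at e
      obtain ⟨c0, e1, rfl⟩ := e
      obtain ⟨c, e2, e3⟩ := lift c0 (T120_mem _ e1)
      exact (cj c0 c x e3 m1 e2 ((cz _).mp m3)).trans a2
    have invol : ∀ x, x * z = z * x → x * x = 1 → x = 1 ∨ x = z ∨
        ∃ c, c * z = z * c ∧ c * q * c⁻¹ = x := fun x xz x2 => by
      obtain ⟨x0, m2, m1⟩ := up x xz
      rcases (fH x0 m2).1 (L3 _ (mul_mem m2 m2) (x2 ▸ pm_mul m1 m1)) with e | e
      · obtain ⟨y, my, m4⟩ := gr_right [q, r, s, t, z] (LQ_mem _ e)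
        have xQ : x ∈ clo [q, r, s, t, z] := by
          rcases L1 (y⁻¹ * x) ((cz _).mpr (mul_mem (inv_mem ((cz _).mp (h.le _ (eQ ▸ my))))
            ((cz _).mp xz))) (by simpa using pm_mul (pm_inv (ΔN m4)) m1) with e | e
          · rwa [← inv_mul_eq_one.mp e]
          · rw [inv_mul_eq_iff_eq_mul.mp e]; exact mul_mem my (mem_clo (by simp))
        obtain ⟨y0, m5, m6⟩ := gr_left gQ xQ
        refine ((fQ y0 (memQ _ m5)).1 (inj.eq (by gm) pm_one x2)).imp (fn.eq m6 pm_one)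
          (Or.imp (fn.eq m6 gz) fun e => ?_)
        rw [I10_eq, List.mem_map] at e
        obtain ⟨c0, e1, e2⟩ := e
        obtain ⟨c, e4, e3⟩ := lift c0 (T10_mem _ e1)
        exact ⟨c, (cz _).mpr e4, fn.eq (nconj e3 gq) m6 e2⟩
      · exact absurd ((sI x0 x e m1 xz).symm.trans x2) h.z1
    obtain ⟨k1, k2, k3, k4, k5, k6, k7, k8⟩ := fS2
    have key : ∀ x, x * z = z * x → x * q = q * x → x * x = q →
        ∃ x0 ∈ clo gH, x0 ∈ L12 ∧ (x0, x) ∈ N := fun x h1 h2 h3 => by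
      obtain ⟨x0, m2, m1⟩ := up x h1
      obtain ⟨e0, -, e1, e2, e3⟩ := fS1 x0 (centC x0 m2 (comm_of_cj (inj.eq (nconj m1 gq) gq
        (cj_of_comm h2)))) (L3 _ (mul_mem (mul_mem m2 m2) (inv_mem (mem_clo (by simp))))
          (by simpa [h3] using pm_mul (pm_mul m1 m1) (pm_inv (ΔN gq))))
      refine ⟨x0, m2, e3 ?_, m1⟩
      obtain ⟨v, mv, m4⟩ := gr_right [q, r, s, t, z] (LQ_mem _ e2)
      obtain ⟨e', m5, m6⟩ := lift e0 (by
        rw [I120_eq, List.mem_map] at e1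
        obtain ⟨c0, e1, rfl⟩ := e1
        exact mul_mem (mul_mem (T120_mem _ e1) ma) (inv_mem (T120_mem _ e1)))
      refine inj.eq (pm_mul (pm_mul (nconj m6 m4) gz) m4) gq ?_
      rw [← h3, sqe x0 x (e' * v) m1 (by simpa using pm_mul m6 (ΔN m4)) ((cz _).mp h1)
        (mul_mem m5 ((cz _).mp (h.le _ (eQ ▸ mv)))), ← sI e0 e' e1 m6 ((cz _).mpr m5)]
      group
    have qz := h.le q mq
    have qn : q ≠ z := fun e => k8 (inj.eq gq gz e)
    obtain ⟨g0, e0⟩ := isConj_iff.mp (hone q (fn.eq (by gm) pm_one k6) fun e => k7 (inj.eq gq pm_one e))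
    obtain ⟨g, e1, e2⟩ : ∃ g, g * z * g⁻¹ = q ∧ g * q * g⁻¹ = z := by
      have w1 : g0⁻¹ * z * g0 * z = z * (g0⁻¹ * z * g0) := by
        have := cj_comm (g := g0⁻¹) qz.symm
        rwa [← e0, inv_inv, show g0⁻¹ * (g0 * z * g0⁻¹) * g0 = z by group] at this
      rcases invol _ w1 (by simp [mul_assoc, ← mul_assoc z z, h.z2]) with e | e | ⟨c, hz, e⟩
      · exact absurd (by simpa [mul_assoc, inv_mul_eq_one] using e) h.z1
      · refine absurd ?_ qn
        rw [← e0]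
        conv_lhs => rw [← e]
        group
      · exact ⟨g0 * c, by rw [cj_mul', cj_of_comm hz, e0], by rw [cj_mul', e]; group⟩
    have gv : (r0 * t0, r * t) ∈ Δ := by gm
    have vz := h.le _ (mul_mem mr mt)
    generalize r * t = v at gv vz
    have az := (cz a).mpr az
    have vq : v * q = q * v := fn.eq (by gm) (by gm) k3
    have aq : a * q = q * a := comm_of_cj (fn.eq (nconj ga gq) gq k5)
    have x1 : g * v * g⁻¹ * z = z * (g * v * g⁻¹) := e2 ▸ cj_comm vq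
    have y1 : g * a * g⁻¹ * z = z * (g * a * g⁻¹) := e2 ▸ cj_comm aq
    obtain ⟨x0, m1, m2, m3⟩ := key (g * v * g⁻¹) x1 (e1 ▸ cj_comm vz) (by
      rw [conj_mul, fn.eq (y := v * v) (by gm) gz k2, e1])
    obtain ⟨y0, m4, m5, m6⟩ := key (g * a * g⁻¹) y1 (e1 ▸ cj_comm az) (by rw [conj_mul, a2, e1])
    have xy : g * v * g⁻¹ * (g * a * g⁻¹) * (g * v * g⁻¹ * (g * a * g⁻¹)) = z := by
      rw [conj_mul, conj_mul, ← e2, ← fn.eq (pm_mul (pm_mul gv (nconj ga gv)) gz) gq k4, ← a2]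
      group
    obtain ⟨k9, k10⟩ := k1 x0 m2 y0 m5 (L3 _ (mul_mem (mul_mem (mul_mem m1 m4) (mul_mem m1 m4))
      (inv_mem (mem_clo (by simp)))) (by
        have := pm_mul (pm_mul (pm_mul m3 m6) (pm_mul m3 m6)) (pm_inv (ΔN gz))
        rwa [xy, mul_inv_cancel] at this))
    obtain ⟨w, mw, m7⟩ := gr_right [q, r, s, t, z] (LQ_mem _ k9)
    rw [sqe _ _ w (pm_mul m3 m6) (ΔN m7) (mul_mem ((cz _).mp x1) ((cz _).mp y1))
      ((cz _).mp (h.le _ (eQ ▸ mw))), fn.eq (pm_mul m7 m7) pm_one k10] at xy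
    exact absurd xy.symm h.z1

end Cfsg.Agent.HJ
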