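/-
Groups of `J₃` type: identification with the third Janko group.
-/
import Cfsg.Agent.HJ.J3D
import Cfsg.Agent.HJ.J3S

set_option autoImplicit false
set_option maxRecDepth 100000

namespace Cfsg.Agent.HJ

open Subgroup _root_.Cfsg.Agent.Spor

theorem quotJ3 {F : Type} [Field F] [Fintype F] (hF : Fintype.card F = 4) {ω : F}
    (hω : ω ^ 2 + ω + 1 = 0) : Nat.card (center (Cfsg.Spor.threeJ3 F ω)) = 3 ∧
      ∃ ψ : Cfsg.Spor.threeJ3 F ω →* J3a.P, Function.Surjective ψ ∧ center _ = ψ.ker := by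
  rw [J3M.eq3 hF hω]
  obtain ⟨h1, h2, ψ, h3, h4, -⟩ := J3M.quot hF (X := J3M.X hF hω) hω
    (Units.val_injective.comp Subtype.val_injective) (gsub_lift 4 _) (J3M.hc hF hω).lift
  exact ⟨h2 ▸ h1, ψ, h3, h2.trans h4.symm⟩

theorem no323P {x y : J3a.P} (hx : orderOf x = 17) (hy : orderOf y = 19) (h : x * y = y * x) :
    False := by
  obtain ⟨F, _, _, hF⟩ := exists_F4
  obtain ⟨ω, hω⟩ := exists_omega (F := F) (by rw [hF])
  obtain ⟨h1, ψ, h2, h3⟩ := quotJ3 hF hω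
  obtain ⟨x, rfl⟩ := h2 x
  obtain ⟨y, rfl⟩ := h2 y
  have k : ∀ v, ψ v = 1 → v ^ 3 = 1 ∧ ∀ w, w * v = v * w := fun v hv => by
    have m : v ∈ center _ := h3 ▸ hv
    exact ⟨by simpa [h1] using congrArg Subtype.val (pow_card_eq_one' (x := (⟨v, m⟩ : center _))),
      mem_center_iff.mp m⟩
  obtain ⟨c1, c2⟩ := k (y⁻¹ * x * y * x⁻¹) (by simp [mul_assoc, ← mul_assoc (ψ x), h])
  have c3 : Commute (x ^ 3) y := by
    have : y⁻¹ * x ^ 3 * y = x ^ 3 := by
      rw [← inv_inv y, inv_inv y⁻¹, ← conj_pow, inv_inv,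
        show y⁻¹ * x * y = y⁻¹ * x * y * x⁻¹ * x by group, Commute.mul_pow (c2 x).symm, c1, one_mul]
    rwa [mul_assoc, inv_mul_eq_iff_eq_mul] at this
  let ρ : Cfsg.Spor.threeJ3 F ω →* ((Cfsg.Spor.F9 → F) →ₗ[F] Cfsg.Spor.F9 → F) :=
    (Matrix.toLinAlgEquiv'.toMonoidHom.comp (Units.coeHom _)).comp (Subgroup.subtype _)
  have hρ : Function.Injective ρ :=
    Matrix.toLinAlgEquiv'.injective.comp (Units.val_injective.comp Subtype.val_injective)
  have k2 : ∀ v n, orderOf (ψ v) = n → ρ (v ^ 3) ^ n = 1 ∧ (ρ (v ^ 3) = 1 → n ∣ 3) := fun v n e =>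
    ⟨by rw [← map_pow, pow_right_comm, (k (v ^ n) (by rw [map_pow, ← e, pow_orderOf_eq_one])).1,
      map_one], fun e' => e ▸ orderOf_dvd_of_pow_eq_one (by
        rw [← map_pow, (map_eq_one_iff ρ hρ).mp e', map_one])⟩
  rcases no_323 hF (by simp) (k2 x 17 hx).1 (k2 y 19 hy).1 (by
    rw [← map_mul, ← map_mul, (c3.pow_right 3).eq]) with e | e
  · exact absurd ((k2 x 17 hx).2 e) (by norm_num)
  · exact absurd ((k2 y 19 hy).2 e) (by norm_num)

variable {G : Type*} [Group G] [Finite G]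

theorem HypQ.isoP {z : G} {Q : Subgroup G} (h : HypQ z Q)
    (hone : ∀ x, x * x = 1 → x ≠ 1 → IsConj z x) : Nonempty (J3a.P ≃* G) := by
  obtain ⟨q, r, s, t, a, b, d, H⟩ := h.struct1 hone
  have H' : H0 z q r s t a b d _ _ := ⟨H, rfl, rfl⟩
  obtain ⟨⟨z2, q2, -, a2, -⟩, ⟨-, -, pq, -⟩, -, z1, -, -, a1, -⟩ := H'.rel
  obtain ⟨g, H2⟩ := K1.exists_K2 ⟨H', hone q q2 fun e => z1 (by simpa [e] using pq.symm),
    hone a a2 a1⟩
  obtain ⟨k, kz, G0, mg, mk, hC, ⟨e⟩⟩ := H2.iso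
  refine ⟨e.trans ((MulEquiv.subgroupCongr (eq_top_iff.mpr fun y _ => ?_)).trans topEquiv)⟩
  by_contra hy
  obtain ⟨P, hP, -, hz⟩ := sylow_cent (K := G0) (fun x hx => hC x (h.le x hx))
    (IsPGroup.of_card (n := 5) h.card) h.zmem z1 fun x _ hx => h.cent x (hx z h.zmem) hx
  obtain ⟨D, hD, h1, h2⟩ := strongly_emb (X := G0) (Y := ⊤) le_top (hC z rfl) z2 (fun c _ => hC c)
    (fun w hw w2 w1 => by
      obtain ⟨x, hx, m⟩ := conj_into hP hw w2
      rcases H.invol (hz _ m) (by rw [conj_mul, w2]; simp) with e | e | ⟨c, c1, e⟩ | ⟨c, c1, e⟩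
      · exact absurd (by simpa using e) w1
      · exact ⟨x⁻¹, inv_mem hx, by rw [← e]; group⟩
      · exact ⟨x⁻¹ * (c * g), mul_mem (inv_mem hx) (mul_mem (hC c c1) mg), by
          rw [cj_mul', cj_mul', H2.gz, ← e]; group⟩
      · exact ⟨x⁻¹ * (c * k), mul_mem (inv_mem hx) (mul_mem (hC c c1) mk), by
          rw [cj_mul', cj_mul', kz, ← e]; group⟩) (mem_top y) hy
  have cG : Nat.card G0 = 50232960 := (Nat.card_congr e.toEquiv).symm.trans J3a.cardP
  have i1 : (centralizer {z}).relIndex D = 26163 := by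
    rw [relIndex_eq_of_cover hD fun x hx => ?_]
    · exact index_subgroupOf_of_card (fun x hx => hC x (mem_centralizer_singleton_iff.mp hx))
        (cG.trans (by norm_num)) h.cardH (by norm_num)
    · obtain ⟨d, m, e⟩ := h2 z (hC z rfl) (x * z * x⁻¹) (mul_mem (mul_mem hx (hC z rfl)) (inv_mem hx))
        z2 z1 (by rw [conj_mul, z2]; simp) (by simpa using z1)
      exact ⟨d, m, mem_centralizer_singleton_iff.mpr (comm_of_cj (by rw [cj_mul', ← e]; group))⟩
  have i2 : 26163 ∣ Nat.card D := i1 ▸ relIndex_dvd_card _ _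
  have i3 : Nat.card D ∣ 50232960 := cG ▸ card_dvd_of_le hD
  obtain ⟨u, v, o1, o2, o3⟩ := exists_17_19 (D := D) (Nat.not_even_iff_odd.mp fun ev => by
      obtain ⟨x, m, o⟩ := PLoc.exists_mem_orderOf_eq_prime (H := D) Nat.prime_two ev.two_dvd
      exact (sq_of_order o).2 (h1 x m (sq_of_order o).1))
    (Dvd.dvd.trans (by norm_num) i2) (Dvd.dvd.trans (by norm_num) i2)
    (fun h => absurd (h.trans i3) (by norm_num)) (fun h => absurd (h.trans i3) (by norm_num))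
  let φ : D →* J3a.P := e.symm.toMonoidHom.comp (inclusion hD)
  have hφ : Function.Injective φ := e.symm.injective.comp (inclusion_injective hD)
  exact no323P ((orderOf_injective φ hφ u).trans o1) ((orderOf_injective φ hφ v).trans o2)
    (by rw [← map_mul, ← map_mul, o3])

theorem isoJ3_of (h : Nonempty (J3a.P ≃* G)) : Cfsg.Spor.IsoJ3 G := by
  obtain ⟨e⟩ := h
  obtain ⟨F, _, _, hF⟩ := exists_F4
  obtain ⟨ω, hω⟩ := exists_omega (F := F) (by rw [hF])
  obtain ⟨-, ψ, h2, h3⟩ := quotJ3 hF hω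
  obtain ⟨e'⟩ := quot_center_equiv h2 h3
  exact ⟨F, inferInstance, inferInstance, ω, hF, hω, ⟨e.symm.trans e'⟩⟩

theorem cardA5' {L : Type*} [Group L] (e : L ≃* alternatingGroup (Fin 5)) : Nat.card L = 60 := by
  rw [Nat.card_congr e.toEquiv, nat_card_alternatingGroup]; simp [Nat.factorial]

theorem isoP_of {t : G} (ht : orderOf t = 2)
    {Q : Subgroup (centralizer ({t} : Set G))} [Q.Normal] (hQ : IsExtraspecial 2 Q)
    (hcard : Nat.card Q = 32) (h2c : centralizer (Q : Set (centralizer ({t} : Set G))) ≤ Q)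
    (e : centralizer ({t} : Set G) ⧸ Q ≃* alternatingGroup (Fin 5))
    (hone : ∀ x y : G, orderOf x = 2 → orderOf y = 2 → IsConj x y) : Nonempty (J3a.P ≃* G) :=
  (hypQ_of ht hQ hcard h2c (cardA5' e)).isoP fun x h1 h2 =>
    hone t x ht (orderOf_eq_prime (by rwa [sq]) h2)

end Cfsg.Agent.HJ
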