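/-
An extraspecial group of order 32 extended by `A₅` as involution centraliser is self-centralising.
-/
import Cfsg.Agent.HJ.J3E

set_option autoImplicit false
set_option maxRecDepth 100000

namespace Cfsg.Agent.HJ

open Subgroup
open scoped commutatorElement

theorem sqA5 : ∀ x : Equiv.Perm (Fin 5), Equiv.Perm.sign x = 1 → x ^ 4 = 1 → x * x = 1 := by
  decide +kernel

theorem cprod {L : Type*} [Group L] [Finite L] {E : Subgroup L} [E.Normal] (hX : IsExtraspecial 2 E)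
    (hE : Nat.card E = 32) (e : L ⧸ E ≃* alternatingGroup (Fin 5)) {z : L} (hz : ∀ x, x * z = z * x)
    (z2 : z * z = 1) (z1 : z ≠ 1) (hn : ¬ centralizer (E : Set L) ≤ E) :
    (∀ u : L, ∃ x y, x * u = u * x ∧ y * u = u * y ∧ x ^ 4 = 1 ∧ y ^ 4 = 1 ∧ (x * y) ^ 4 = 1 ∧
      ⁅x, y⁆ = z) ∧ ∀ x y : L, x ^ 4 = 1 → y ^ 4 = 1 → (x * y) ^ 4 = 1 → ⁅x, y⁆ = 1 ∨ ⁅x, y⁆ = z := by
  obtain ⟨⟨hP, hF, hC⟩, hZ⟩ := hX
  let φ : L →* alternatingGroup (Fin 5) := e.toMonoidHom.comp (QuotientGroup.mk' E)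
  have hs : Function.Surjective φ := e.surjective.comp (QuotientGroup.mk'_surjective E)
  have k : ∀ x, φ x = 1 ↔ x ∈ E := fun x =>
    (MulEquiv.map_eq_one_iff e).trans (QuotientGroup.eq_one_iff x)
  have mz : z ∈ E := (k z).mp (mem_bot.mp (alternatingGroup.center_eq_bot (α := Fin 5) (by simp) ▸
    mem_center_iff.mpr fun y => by
      obtain ⟨y, rfl⟩ := hs y
      rw [← map_mul, ← map_mul, hz]))
  have Z : ∀ x ∈ center E, (x : L) = 1 ∨ (x : L) = z := fun x hx => by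
    obtain ⟨y, -, hy⟩ := (Nat.card_eq_two_iff' (1 : center E)).mp hZ
    by_cases x1 : (x : L) = 1
    · exact Or.inl x1
    · have e1 := hy ⟨x, hx⟩ fun e => x1 (congrArg (fun y : center E => (y : L)) e)
      have e2 := hy ⟨⟨_, mz⟩, mem_center_iff.mpr fun x => Subtype.ext (hz x)⟩
        fun e => z1 (congrArg (fun y : center E => (y : L)) e)
      exact Or.inr (congrArg (fun y : center E => (y : L)) (e1.trans e2.symm))
  have cm : ∀ x ∈ E, ∀ y ∈ E, ⁅x, y⁆ = 1 ∨ ⁅x, y⁆ = z := fun x hx y hy =>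
    Z ⁅(⟨x, hx⟩ : E), (⟨y, hy⟩ : E)⁆ (hC ▸ commutator_mem_commutator (mem_top _) (mem_top _))
  have p4 : ∀ x ∈ E, x ^ 4 = 1 := fun x hx => by
    rw [show 4 = 2 * 2 from rfl, pow_mul]
    rcases Z _ (hF ▸ PLoc.pow_mem_frattini hP ⟨x, hx⟩) with e | e <;>
      rw [show x ^ 2 = _ from e] <;> simp [sq, z2]
  have dec : ∀ x, ∃ v ∈ E, ∃ c ∈ centralizer (E : Set L), x = v * c := fun x => by
    rcases ((normal_centralizer (H := E)).map φ hs).eq_bot_or_eq_top with h | h
    · exact absurd (fun c hc => (k c).mp (mem_bot.mp (h ▸ mem_map_of_mem φ hc))) hn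
    · obtain ⟨c, h1, h2⟩ : φ x ∈ (centralizer (E : Set L)).map φ := h ▸ mem_top _
      exact ⟨x * c⁻¹, (k _).mp (by simp [h2]), c, h1, by simp⟩
  refine ⟨fun u => ?_, fun x y h1 h2 h3 => ?_⟩
  · obtain ⟨v, mv, c, mc, rfl⟩ := dec u
    by_contra! hc
    have ab : ∀ x ∈ E, ∀ y ∈ E, ⁅x, v⁆ = 1 → ⁅y, v⁆ = 1 → ⁅x, y⁆ = 1 := fun x hx y hy h1 h2 =>
      (cm x hx y hy).resolve_right (hc x y
        (Commute.mul_right (commutatorElement_eq_one_iff_commute.mp h1) (mc x hx))
        (Commute.mul_right (commutatorElement_eq_one_iff_commute.mp h2) (mc y hy))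
        (p4 x hx) (p4 y hy) (p4 _ (mul_mem hx hy)))
    have ml : ∀ x ∈ E, ∀ y ∈ E, ∀ w ∈ E, ⁅x, w⁆ = ⁅y, w⁆ → ⁅x⁻¹ * y, w⁆ = 1 := fun x _ y _ w _ h => by
      calc ⁅x⁻¹ * y, w⁆ = x⁻¹ * (⁅y, w⁆ * ⁅x, w⁆⁻¹) * x := by simp only [commutatorElement_def]; group
        _ = 1 := by rw [h, mul_inv_cancel, mul_one, inv_mul_cancel]
    obtain ⟨w, mw, hw⟩ : ∃ w ∈ E, ∀ x ∈ E, ⁅x, v⁆ = 1 → ⁅x, w⁆ = 1 → ∀ y ∈ E, ⁅x, y⁆ = 1 := by
      by_cases h : ∃ w ∈ E, ⁅w, v⁆ = z
      · obtain ⟨w, mw, h⟩ := h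
        refine ⟨w, mw, fun x hx h1 h2 y hy => (cm y hy v mv).elim (ab x hx y hy h1) fun h3 => ?_⟩
        have := commutatorElement_eq_one_iff_commute.mp
          (ab x hx _ (mul_mem (inv_mem mw) hy) h1 (ml w mw y hy v mv (h.trans h3.symm)))
        simpa [commutatorElement_eq_one_iff_commute] using
          (commutatorElement_eq_one_iff_commute.mp h2).mul_right this
      · exact ⟨1, one_mem _, fun x hx h1 _ y hy => ab x hx y hy h1
          ((cm y hy v mv).resolve_right fun h3 => h ⟨y, hy, h3⟩)⟩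
    classical
    have := Fintype.ofFinite (E : Set L)
    have h1 := Finset.card_le_mul_card_image_of_maps_to (s := (E : Set L).toFinset)
      (t := ({1, z} : Finset L) ×ˢ ({1, z} : Finset L)) (f := fun x => (⁅x, v⁆, ⁅x, w⁆))
      (fun x hx => by simpa using ⟨cm x (by simpa using hx) v mv, cm x (by simpa using hx) w mw⟩) 2
      (fun b _ => ?_)
    · have h2 := Finset.card_le_two (a := (1 : L)) (b := z)
      rw [Finset.card_product, Set.toFinset_card, ← Nat.card_eq_fintype_card] at h1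
      have h3 : Nat.card (E : Set L) = 32 := hE
      nlinarith
    · rcases Finset.eq_empty_or_nonempty ((E : Set L).toFinset.filter
        fun x => (⁅x, v⁆, ⁅x, w⁆) = b) with h | ⟨x, hx⟩
      · simp [h]
      refine (Finset.card_le_card (t := {x, x * z}) fun y hy => ?_).trans Finset.card_le_two
      simp only [Finset.mem_filter, Set.mem_toFinset, SetLike.mem_coe] at hx hy
      have e := Prod.ext_iff.mp (hx.2.trans hy.2.symm)
      have := Z ⟨_, mul_mem (inv_mem hx.1) hy.1⟩ (mem_center_iff.mpr fun y' => Subtype.ext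
        (commutatorElement_eq_one_iff_commute.mp (hw _ (mul_mem (inv_mem hx.1) hy.1)
          (ml x hx.1 y hy.1 v mv e.1) (ml x hx.1 y hy.1 w mw e.2) y' y'.2)).symm)
      simpa [inv_mul_eq_iff_eq_mul] using this
  · have s : ∀ x, x ^ 4 = 1 → φ x * φ x = 1 := fun x h => Subtype.ext
      (sqA5 _ (φ x).2 (by rw [← coe_pow, ← map_pow, h, map_one, coe_one]))
    have m : ⁅x, y⁆ ∈ E := (k _).mp (by
      rw [map_commutatorElement, commutatorElement_def, inv_eq_of_sq (s x h1), inv_eq_of_sq (s y h2),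
        mul_assoc, ← map_mul, s _ h3])
    obtain ⟨v, mv, c, mc, rfl⟩ := dec x
    obtain ⟨v', mv', c', mc', rfl⟩ := dec y
    have e : ⁅v * c, v' * c'⁆ = ⁅v, v'⁆ * ⁅c, c'⁆ := by
      have a1 : Commute v c := mc v mv
      have a2 : Commute v c' := mc' v mv
      have a3 : Commute v' c := mc v' mv'
      have a4 : Commute v' c' := mc' v' mv'
      simp only [commutatorElement_def]
      rw [a3.symm.mul_mul_mul_comm, mul_inv_rev, mul_inv_rev, ← a1.inv_inv.eq, ← a4.inv_inv.eq,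
        (a1.symm.mul_left a2.symm).inv_right.mul_mul_mul_comm,
        ((a3.symm.mul_left a4.symm).mul_left a3.symm.inv_left).inv_right.mul_mul_mul_comm]
    have m1 : ⁅v, v'⁆ ∈ E := (cm v mv v' mv').elim (· ▸ one_mem _) (· ▸ mz)
    have m2 : ⁅c, c'⁆ ∈ E := (mul_mem_cancel_left m1).mp (e ▸ m)
    have := Z ⟨_, m2⟩ (mem_center_iff.mpr fun y => Subtype.ext
      (mul_mem (mul_mem (mul_mem mc mc') (inv_mem mc)) (inv_mem mc') y y.2))
    rcases cm v mv v' mv' with e1 | e1 <;> rcases this with e2 | e2 <;>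
      rw [e, e1, show ⁅c, c'⁆ = _ from e2] <;> simp [z2]

variable {G : Type*} [Group G] [Finite G] [IsSimpleGroup G]

theorem h2c_of {t : G} (ht : IsTwoCentralInvolution t) {E : Subgroup (centralizer ({t} : Set G))}
    [E.Normal] (hX : IsExtraspecial 2 E) (hE : Nat.card E = 32)
    (e : centralizer ({t} : Set G) ⧸ E ≃* alternatingGroup (Fin 5)) :
    centralizer (E : Set (centralizer ({t} : Set G))) ≤ E := by
  obtain ⟨ht, P, h1, h2⟩ := ht
  obtain ⟨t2, t1⟩ := sq_of_order ht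
  have mc : ∀ {x}, x * t = t * x → x ∈ centralizer ({t} : Set G) := mem_centralizer_singleton_iff.mpr
  by_contra hn
  obtain ⟨k1, k2⟩ := cprod hX hE e (z := ⟨t, mc rfl⟩)
    (fun x => Subtype.ext (mem_centralizer_singleton_iff.mp x.2)) (Subtype.ext t2)
    (fun e => t1 (congrArg Subtype.val e)) hn
  obtain ⟨N, n1, n2, n3⟩ := S0215.result P t ht h1 fun g hg => by
    obtain ⟨x, y, a1, a2, a3, a4, a5, a6⟩ := k1 ⟨_, mc (h2 _ hg)⟩
    have m : ∀ x : G, x * (g * t * g⁻¹) = g * t * g⁻¹ * x → g⁻¹ * x * g⁻¹⁻¹ * t = t * (g⁻¹ * x * g⁻¹⁻¹) :=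
      fun x h => by
        have := cj_comm (g := g⁻¹) h
        rwa [show g⁻¹ * (g * t * g⁻¹) * g⁻¹⁻¹ = t by group] at this
    have p : ∀ x : centralizer ({t} : Set G), x ^ 4 = 1 → (g⁻¹ * x * g⁻¹⁻¹) ^ 4 = 1 := fun x h => by
      rw [conj_pow, ← coe_pow, h]; simp
    have := k2 ⟨_, mc (m x (congrArg Subtype.val a1))⟩ ⟨_, mc (m y (congrArg Subtype.val a2))⟩
      (Subtype.ext (p x a3)) (Subtype.ext (p y a4)) (Subtype.ext (by
        have := p _ a5
        rwa [coe_mul, ← conj_mul] at this))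
    have a7 : ⁅(x : G), (y : G)⁆ = t := congrArg Subtype.val a6
    simp only [Subtype.ext_iff, commutatorElement_def, coe_mul, coe_inv, coe_one, conj_inv,
      conj_mul] at this a7
    rw [a7] at this
    rcases this with e | e
    · exact absurd (conj_eq_one_iff.mp e) t1
    · conv_lhs => rw [← e]
      group
  rcases n1.eq_bot_or_eq_top with rfl | rfl
  · have : (zpowers t).Normal := ⟨fun x hx g => by
      obtain ⟨n, rfl⟩ := mem_zpowers_iff.mp hx
      have : Commute t g := by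
        have := mem_bot.mp (n3 g)
        rwa [mul_inv_eq_one, mul_inv_eq_iff_eq_mul] at this
      rw [← (this.zpow_left n).eq, mul_inv_cancel_right]; exact hx⟩
    rcases this.eq_bot_or_eq_top with e | e
    · exact t1 (by simpa using e)
    · have := (card_subgroup_dvd_card E).trans (card_subgroup_dvd_card _)
      rw [hE, ← card_top, ← e, Nat.card_zpowers, ht] at this
      omega
  · have := orderOf_dvd_natCard t
    rw [ht, ← card_top] at this
    exact (Nat.not_even_iff_odd.mpr n2) (even_iff_two_dvd.mpr this)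

omit [IsSimpleGroup G] in
theorem twoCentral_of (hone : ∀ x y : G, orderOf x = 2 → orderOf y = 2 → IsConj x y) {t : G}
    (ht : orderOf t = 2) : IsTwoCentralInvolution t := by
  obtain ⟨t2, t1⟩ := sq_of_order ht
  obtain ⟨P, hP⟩ := (PLoc.isPGroup_zpowers (x := t) (k := 1) (by rw [pow_one, pow_two, t2])).exists_le_sylow
  have : Nontrivial (P : Subgroup G) := ⟨⟨t, hP (mem_zpowers t)⟩, 1, fun e => t1 (congrArg Subtype.val e)⟩
  have := P.2.center_nontrivial
  obtain ⟨n, n0, hn⟩ := (P.2.to_subgroup (center _)).nontrivial_iff_card.mp this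
  obtain ⟨c, m, o⟩ := PLoc.exists_mem_orderOf_eq_prime (H := center (P : Subgroup G)) Nat.prime_two
    (hn ▸ dvd_pow_self 2 n0.ne')
  obtain ⟨g, e⟩ := isConj_iff.mp (hone c t (by rwa [orderOf_coe]) ht)
  refine ⟨ht, g • P, e ▸ ?_, fun x hx => ?_⟩
  · exact smul_mem_pointwise_smul _ (MulAut.conj g) _ c.2
  · obtain ⟨y, hy, rfl⟩ := (mem_smul_pointwise_iff_exists _ (MulAut.conj g) _).mp hx
    rw [← e]
    exact cj_comm (congrArg Subtype.val (mem_center_iff.mp m ⟨y, hy⟩))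

omit [Finite G] in
theorem isJ3_of (h : Nonempty (Spor.J3a.P ≃* G)) : IsJ3 G :=
  ⟨inferInstance, h.elim fun e => (Nat.card_congr e.toEquiv).symm.trans Spor.J3a.cardP⟩

end Cfsg.Agent.HJ
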