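/-
The subgroup `SL₂(16):2` of the third Janko group.
-/
import Cfsg.Agent.HJ.J3E
import Cfsg.Agent.HJ.Data5
import Cfsg.Agent.Spor.J3a.K
import Cfsg.Agent.Class.Lin

set_option autoImplicit false
set_option maxRecDepth 100000

namespace Cfsg.Agent.HJ

open Subgroup _root_.Cfsg.Agent.Spor
open scoped MatrixGroups

/-- the field with 16 elements -/
structure F16 where
  v : Fin 16
  deriving DecidableEq, Fintype

def F16.of (n : ℕ) : F16 := ⟨⟨n % 16, Nat.mod_lt _ (by norm_num)⟩⟩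

instance F16.add : Add F16 := ⟨fun a b => .of (a.v.1 ^^^ b.v.1)⟩
instance F16.mul : Mul F16 := ⟨fun a b => .of (mt16 >>> (4 * (16 * a.v.1 + b.v.1)))⟩
instance F16.neg : Neg F16 := ⟨fun a => a⟩
instance F16.inv : _root_.Inv F16 := ⟨fun a => .of (it16 >>> (4 * a.v.1))⟩
instance F16.zero : Zero F16 := ⟨.of 0⟩
instance F16.one : One F16 := ⟨.of 1⟩

instance F16.field : Field F16 := Field.ofMinimalAxioms F16 (by decide +kernel) (by decide +kernel)
  (by decide +kernel) (by decide +kernel) (by decide +kernel) (by decide +kernel) (by decide +kernel)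
  (by decide +kernel) (by decide +kernel) ⟨0, 1, by decide +kernel⟩

def gT : List SL(2, F16) := [⟨!![1, 1; 0, 1], by rw [Matrix.det_fin_two_of]; decide +kernel⟩,
  ⟨!![0, 1; 1, 0], by rw [Matrix.det_fin_two_of]; decide +kernel⟩,
  ⟨!![.of 5, 0; 0, .of 11], by rw [Matrix.det_fin_two_of]; decide +kernel⟩]

theorem satT : Sat cS.RL gT := by decide +kernel
theorem injT : ∀ w ∈ W16, ev (atm gT) w = 1 → ev (atm gS) w = 1 := by decide +kernel
theorem fT : u₃ * u₃ = 1 ∧ h₃ * u₃ * h₃⁻¹ * (h₃ * u₃ * h₃⁻¹) = 1 ∧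
    u₃ * (h₃ * u₃ * h₃⁻¹) = h₃ ^ 4 * u₃ * (h₃ ^ 4)⁻¹ ∧ Sat ([0, 0] :: L216a.RL) gK := by
  decide +kernel

theorem S_equiv : Nonempty (clo gS ≃* SL(2, F16)) := by
  have fn := fn_of_le (leS (satS.zip satT)) chS_card
  have mu := ev_mem_gr (xs := gS) (ys := gT) rfl [0]
  have mh := ev_mem_gr (xs := gS) (ys := gT) rfl [4]
  simp only [ev_cons, ev_nil, mul_one] at mu mh
  have inj : Inj (gr gS gT) := inj_of_fpf (u := u₃) mu (pm_mul (pm_mul mh mu) (pm_inv mh)) fT.1 fT.2.1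
    (fun x m e => by
      obtain ⟨w, h1, rfl⟩ := List.mem_map.mp (centS x (gr_mem m).1 e)
      exact injT w h1 (fn.eq (ev_mem_gr (xs := gS) (ys := gT) rfl w) m rfl)) ⟨_, _, mh, rfl⟩ ⟨_, _, pm_pow mh, fT.2.2.1⟩
  obtain ⟨e, -⟩ := exists_equiv_gr fn inj
  have h : clo gT = ⊤ := eq_top_of_le_card _ (by
    rw [card_gr fn inj, Class.card_SL2]; exact chS_card)
  exact ⟨(e.trans (MulEquiv.subgroupCongr h)).trans topEquiv⟩

theorem K_emb : Nat.card (clo gK) = 8160 ∧ ∃ θ : clo gK →* J3a.P, Function.Injective θ := by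
  have hp := pres_br (k := 1) (RL' := L216a.RL) fT.2.2.2 (by decide) (by simp +contextual)
  have h1 := J3a.boundK _ _ hp
  rw [show 2 = gK.length from rfl, gsub_br] at h1
  have h2 : Nat.card (clo gK) = 8160 := le_antisymm (Nat.le_of_dvd (by norm_num) h1) chK_card
  have hq : Pres 2 1 L216a.RL (wv 4 J3a.p J3a.U.pKWD) :=
    Pres.of_map J3a.P.subtype_injective (fun j _ => wv_map (lift_gsub _) _ j) J3a.U.pKW
  obtain ⟨ψ, hψ⟩ := J3a.boundK.exists_hom (by norm_num) hq hp (by rw [← J3a.cardK]; rfl)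
  have hr : ψ.range = clo gK := (range_eq_gsub hψ (gsub_lift 2 _)).trans (gsub_br gK)
  have hb := ψ.rangeRestrict_surjective.bijective_of_nat_card_le (by
    rw [hr, h2, ← J3a.cardK]; rfl)
  let e := (MulEquiv.ofBijective _ hb).trans (MulEquiv.subgroupCongr hr)
  exact ⟨h2, (Subgroup.subtype _).comp e.symm.toMonoidHom,
    Subtype.val_injective.comp e.symm.injective⟩

theorem sl216 {G : Type*} [Group G] (h : Nonempty (J3a.P ≃* G)) :
    ∃ (H : Subgroup G) (N : Subgroup H) (K : Type) (_ : Field K) (_ : Fintype K), N.Normal ∧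
      N.index = 2 ∧ Fintype.card K = 16 ∧ Nonempty (N ≃* SL(2, K)) := by
  obtain ⟨e⟩ := h
  obtain ⟨h1, θ, h2⟩ := K_emb
  obtain ⟨e1⟩ := S_equiv
  let e2 := MonoidHom.ofInjective (f := e.toMonoidHom.comp θ) (e.injective.comp h2)
  have i : (((clo gS).subgroupOf (clo gK)).map e2.toMonoidHom).index = 2 := by
    exact (index_map_equiv _ e2).trans
      (index_subgroupOf_of_card S_leK h1 (le_antisymm (leS satS).2 chS_card) (by norm_num))
  exact ⟨_, _, F16, inferInstance, inferInstance, normal_of_index_eq_two i, i, rfl,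
    ⟨((e2.subgroupMap _).symm.trans (subgroupOfEquivOfLe S_leK)).trans e1⟩⟩

end Cfsg.Agent.HJ
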